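import Cfsg.Agent.Solv.Basic
import Mathlib.GroupTheory.Perm.Cycle.Type
import Mathlib.GroupTheory.PGroup
import Mathlib.GroupTheory.Perm.List
import Mathlib.Data.ZMod.Basic
import Mathlib.Tactic.Group
import Mathlib.Tactic.IntervalCases

/-! Automorphisms of an elementary abelian group of order at most 16 (helper9): an extension of it by `S₆` acting
faithfully has a section of rank 5 (`s6`). -/

set_option autoImplicit false

namespace Cfsg.Agent.Small.S6V
open Subgroup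

section
variable {A : Type*} [Group A] {φ : MulAut A} {x : A}

def Fx (φ : MulAut A) : Subgroup A := φ.toMonoidHom.eqLocus (MonoidHom.id A)

theorem mem_Fx : x ∈ Fx φ ↔ φ x = x := Iff.rfl

theorem card_conj (g φ : MulAut A) : Nat.card (Fx (g * φ * g⁻¹)) = Nat.card (Fx φ) :=
  Nat.card_congr (g.toEquiv.subtypeEquiv fun x => by simp [mem_Fx]).symm

theorem eq_one [Finite A] (h : Nat.card A ≤ Nat.card (Fx φ)) : φ = 1 :=
  MulEquiv.ext fun x => (eq_top_of_le_card _ h).ge (mem_top x)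

variable [Finite A]

theorem cnt {p : ℕ} (hp : p.Prime) (h : φ ^ p = 1) {U : Subgroup A} (hU : ∀ x ∈ U, φ x ∈ U) :
    Nat.card U % p = Nat.card (U ⊓ Fx φ : Subgroup A) % p := by
  classical
  haveI := Fact.mk hp
  haveI := Fintype.ofFinite U
  let f : Function.End U := fun x => ⟨φ x, hU _ x.2⟩
  have h1 : ∀ n (x : U), ((f ^ n) x).1 = (φ ^ n) x := fun n => by
    induction n with
    | zero => exact fun _ => rfl
    | succ n ih => exact fun x => by rw [pow_succ, pow_succ]; exact ih _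
  have := Equiv.Perm.card_fixedPoints_modEq (f := f) (p := p) (n := 1)
    (funext fun x => Subtype.ext (by rw [h1, pow_one, h]; rfl))
  rw [← Nat.card_eq_fintype_card, ← Nat.card_eq_fintype_card] at this
  exact this.trans (congrArg (· % p) (Nat.card_congr ⟨fun x => ⟨x.1, x.1.2, congrArg Subtype.val x.2⟩,
    fun x => ⟨⟨x, x.2.1⟩, Subtype.ext x.2.2⟩, fun _ => rfl, fun _ => rfl⟩))

theorem cnt' {p : ℕ} (hp : p.Prime) (h : φ ^ p = 1) : Nat.card A % p = Nat.card (Fx φ) % p := by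
  simpa using cnt hp h (U := ⊤) fun _ _ => trivial

end

variable {A : Type*} [CommGroup A] {φ g u f : MulAut A} {x : A}

def dl (φ : MulAut A) : A →* A := (MonoidHom.id A)⁻¹ * φ.toMonoidHom

theorem dl_apply : dl φ x = x⁻¹ * φ x := rfl

theorem card_dl (φ : MulAut A) : Nat.card (Fx φ) * Nat.card (dl φ).range = Nat.card A := by
  rw [← index_ker, show Fx φ = (dl φ).ker from ext fun x => by
    rw [MonoidHom.mem_ker, dl_apply, inv_mul_eq_one, eq_comm, mem_Fx], card_mul_index]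

variable [Finite A] (hA : ∀ a : A, a * a = 1) (h16 : Nat.card A ≤ 16)
include hA

omit [Finite A] in
theorem rg_le (h : φ * φ = 1) : (dl φ).range ≤ Fx φ := by
  rintro _ ⟨x, rfl⟩
  rw [mem_Fx, dl_apply, map_mul, ← MulAut.mul_apply, h, inv_eq_of_mul_eq_one_right (hA x), mul_comm]; rfl

include h16

theorem pw (U : Subgroup A) :
    Nat.card U = 1 ∨ Nat.card U = 2 ∨ Nat.card U = 4 ∨ Nat.card U = 8 ∨ Nat.card U = 16 := by
  haveI := Fact.mk Nat.prime_two
  obtain ⟨k, hk⟩ := IsPGroup.iff_card.1 (IsPGroup.to_subgroup (p := 2) (fun a => ⟨1, by rw [pow_one, pow_two, hA]⟩) U)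
  have := (card_le_card_group U).trans h16
  rw [hk] at this ⊢
  have : k ≤ 4 := (Nat.pow_le_pow_iff_right one_lt_two).1 this
  interval_cases k <;> simp

theorem inv5 (uu : u * u = 1) (hi : u * f * u⁻¹ = f⁻¹) (f5 : f ^ 5 = 1) (f1 : f ≠ 1) :
    Nat.card A = 16 ∧ Nat.card (Fx u) = 4 ∧ (dl u).range = Fx u := by
  have h1 := cnt' Nat.prime_five f5
  have h2 := pw hA h16 (Fx f)
  have h3 := pw hA h16 ⊤
  have h4 := mt eq_one f1
  rw [card_top] at h3
  have h5 : Nat.card A = 16 := by omega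
  have h6 : Fx u ⊓ Fx (f * u * f⁻¹) = ⊥ := eq_bot_iff.2 fun x hx => (card_eq_one.1 (by omega : Nat.card (Fx f) = 1)).le (by
    have : (f * f) x = x := by
      have e : f * u * f⁻¹ * u = f * f := calc
        _ = f * (u * u) * f * (u⁻¹ * u) := by rw [← hi]; group
        _ = _ := by rw [uu]; group
      rw [← e, MulAut.mul_apply, mem_Fx.1 hx.1, mem_Fx.1 hx.2]
    have e : f (f (f (f (f x)))) = x := DFunLike.congr_fun f5 x
    rw [MulAut.mul_apply] at this
    rwa [this, this] at e)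
  have h7 := Nat.card_le_card_of_injective _ (mul_injective_of_disjoint (disjoint_iff.2 h6))
  rw [Nat.card_prod, card_conj] at h7
  have h8 := card_dl u
  have h9 := card_le_of_le (rg_le hA uu)
  have : Nat.card (Fx u) = 4 := by rcases pw hA h16 (Fx u) with e | e | e | e | e <;> rw [e] at h7 h8 h9 <;> omega
  exact ⟨h5, this, eq_of_le_of_card_ge (rg_le hA uu) (by rw [this] at h8; omega)⟩

theorem good {t d : MulAut A} (h5 : Nat.card A = 16) (tt : t * t = 1) (t1 : t ≠ 1) (d3 : d ^ 3 = 1) (d1 : d ≠ 1)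
    (c : Commute d t) (hx : x ∈ Fx t) (h : dl d x ∈ (dl t).range) : x ∈ (dl t).range := by
  have h1 := card_dl t
  have h2 := card_le_of_le (rg_le hA tt)
  have h3 := mt eq_one t1
  have h4 := mt eq_one d1
  by_cases e : Nat.card (Fx t) = 4
  · exact (eq_of_le_of_card_ge (rg_le hA tt) (by rw [e] at h1; omega)).ge hx
  have e8 : Nat.card (Fx t) = 8 := by rcases pw hA h16 (Fx t) with e | e | e | e | e <;> rw [e] at h1 h2 h3 <;> omega
  have e2 : Nat.card (dl t).range = 2 := by rw [e8] at h1; omega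
  have c' : ∀ y, d (t y) = t (d y) := fun y => DFunLike.congr_fun c.eq y
  have k1 := cnt Nat.prime_three d3 (U := Fx t) fun y hy => by rw [mem_Fx, ← c', mem_Fx.1 hy]
  have k2 := cnt Nat.prime_three d3 (U := (dl t).range) (by
    rintro _ ⟨y, rfl⟩; exact ⟨d y, by rw [dl_apply, dl_apply, map_mul, map_inv, c']⟩)
  have k3 := cnt' Nat.prime_three d3
  have k4 := card_le_of_le (inf_le_left : (dl t).range ⊓ Fx d ≤ _)
  have k5 := card_le_of_le (inf_le_right : Fx t ⊓ Fx d ≤ _)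
  have k6 : (dl t).range ≤ Fx d := (eq_of_le_of_card_ge inf_le_left (by omega)).ge.trans inf_le_right
  have := pw hA h16 (Fx d)
  have := pw hA h16 (Fx t ⊓ Fx d)
  refine (eq_of_le_of_card_ge (le_inf (rg_le hA tt) k6) (by omega)).ge ⟨hx, ?_⟩
  have k7 := mem_Fx.1 (k6 h)
  have k8 : d x = x * dl d x := by rw [dl_apply, mul_inv_cancel_left]
  have k9 : d (d (d x)) = x := DFunLike.congr_fun d3 x
  generalize dl d x = r at k7 k8
  rw [k8, map_mul, map_mul, k7, k7, k8, map_mul, k7, k8, mul_assoc _ r, hA, mul_one] at k9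
  exact k8.trans k9

theorem core {Y H : Type*} [Group Y] [Group H] {ι : A →* Y} (hι : Function.Injective ι) {ρ : Y →* MulAut A}
    (hρ : ∀ y a, ι (ρ y a) = y * ι a * y⁻¹) (hk : ρ.ker = ι.range) {α : H →* MulAut A} (hα : Function.Injective α)
    (hr : α.range ≤ ρ.range) {e u v J f : H} (he : Fx (α e) = ⊥) (e3 : e ^ 3 = 1) (uu : u * u = 1) (JJ : J * J = 1)
    (f5 : f ^ 5 = 1) (f1 : f ≠ 1) (hi : u * f * u⁻¹ = f⁻¹) (hv : e * u * e⁻¹ = v) (hw : e * (u * v) * e⁻¹ = u)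
    (c1 : u * v = v * u) (c2 : u * J = J * u) (c3 : e * J = J * e) {E : Subgroup H} (hE : Nat.card E = 8) {D : List H}
    (hE' : ∀ s ∈ E, s * s = 1 ∧ (s = 1 ∨ s = J ∨ ∃ w ∈ [u, v, u * v], s = w ∨
      (s = w * J ∧ s ≠ 1 ∧ ∃ d ∈ D, d ^ 3 = 1 ∧ d ≠ 1 ∧ d * s = s * d))) :
    ∃ P W : Subgroup Y, W ≤ P ∧ (∀ y ∈ P, y * y ∈ W) ∧ 16 * Nat.card W < Nat.card P := by
  have sq : ∀ s : H, s * s = 1 → α s * α s = 1 := fun s h => by rw [← map_mul, h, map_one]
  have cm : ∀ {s t : H}, Commute s t → ∀ x, α s (α t x) = α t (α s x) := fun h x => DFunLike.congr_fun (h.map α).eq x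
  have cj : ∀ {s t : H}, e * s * e⁻¹ = t → Nat.card (Fx (α s)) = Nat.card (Fx (α t)) ∧ ∀ x, α e (α s x) = α t (α e x) :=
    fun h => ⟨by rw [← h, map_mul, map_mul, map_inv, card_conj], fun x => by rw [← h]; simp⟩
  have e3' : α e ^ 3 = 1 := by rw [← map_pow, e3, map_one]
  obtain ⟨h5, h4, -⟩ := inv5 hA h16 (sq u uu) (f := α f) (by rw [← map_inv, ← map_inv, ← map_mul, ← map_mul, hi])
    (by rw [← map_pow, f5, map_one]) (mt (map_eq_one_iff α hα).1 f1)
  have vv : v * v = 1 := by rw [← hv, conj_mul, uu, mul_one, mul_inv_cancel]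
  have fp : ∀ U : Subgroup A, (∀ x ∈ U, α e x ∈ U) → Nat.card U % 3 = 1 := fun U h => by
    rw [cnt Nat.prime_three e3' h, he, inf_bot_eq, card_bot]
  have i1 : ∀ x ∈ Fx (α u) ⊓ Fx (α v), α e x ∈ Fx (α u) ⊓ Fx (α v) := fun x hx =>
    ⟨mem_Fx.2 (by rw [← (cj hw).2, map_mul, MulAut.mul_apply, mem_Fx.1 hx.2, mem_Fx.1 hx.1]),
      mem_Fx.2 (by rw [← (cj hv).2, mem_Fx.1 hx.1])⟩
  have w4 : Nat.card (Fx (α u) ⊓ Fx (α v) : Subgroup A) = 4 := by
    have := cnt Nat.prime_two ((pow_two _).trans (sq v vv)) (U := Fx (α u)) fun x hx => by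
      rw [mem_Fx, cm c1, mem_Fx.1 hx]
    have := fp _ i1
    have := pw hA h16 (Fx (α u) ⊓ Fx (α v))
    have := card_le_of_le (inf_le_left : Fx (α u) ⊓ Fx (α v) ≤ _)
    omega
  have e1 := eq_of_le_of_card_ge (inf_le_left : Fx (α u) ⊓ Fx (α v) ≤ _) (h4.trans w4.symm).le
  rw [e1] at i1
  have hW : ∀ w ∈ [u, v, u * v], Fx (α w) = Fx (α u) ∧ (dl (α w)).range ≤ Fx (α u) := fun w h => by
    have : w * w = 1 ∧ Fx (α w) = Fx (α u) := by
      simp only [List.mem_cons, List.not_mem_nil, or_false] at h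
      rcases h with rfl | rfl | rfl
      exacts [⟨uu, rfl⟩, ⟨vv, (eq_of_le_of_card_ge (e1.ge.trans inf_le_right) (cj hv).1.ge).symm⟩,
        ⟨by rw [(Commute.symm c1).mul_mul_mul_comm, uu, vv, one_mul],
          (eq_of_le_of_card_ge (fun x hx => by
            rw [mem_Fx, map_mul, MulAut.mul_apply, mem_Fx.1 (e1.ge hx).2, mem_Fx.1 hx]) (cj hw).1.le).symm⟩]
    exact ⟨this.2, this.2 ▸ rg_le hA (sq w this.1)⟩
  generalize hWd : Fx (α u) = W at *
  have lc : ∀ φ : MulAut A, (∀ x ∈ W, φ x ∈ W) → W ≤ W.comap (dl φ) := fun φ h x hx => mul_mem (inv_mem hx) (h x hx)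
  have rJ : (dl (α J)).range ≤ W := by
    have h1 := lc (α J) fun x hx => by rw [← hWd, mem_Fx] at hx ⊢; rw [cm c2, hx]
    have h2 := fp (W.comap (dl (α J))) fun x hx => by
      rw [mem_comap, dl_apply, ← cm c3, ← map_inv, ← map_mul]; exact i1 _ hx
    have h3 := card_le_of_le h1
    have h6 := pw hA h16 (W.comap (dl (α J)))
    by_cases h7 : Nat.card (W.comap (dl (α J))) = 4
    · exact (rg_le hA (sq J JJ)).trans fun x hx => (eq_of_le_of_card_ge h1 (by omega)).ge (by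
        rw [mem_comap, dl_apply, mem_Fx.1 hx, inv_mul_cancel]; exact one_mem _)
    · rintro _ ⟨x, rfl⟩; exact (eq_top_of_le_card (W.comap (dl (α J))) (by omega)).ge (mem_top x)
  have ce : ∀ x, dl (α e) x ∈ W → x ∈ W := fun x hx => (eq_of_le_of_card_ge (lc _ i1) (Nat.le_of_dvd Nat.card_pos
    (card_comap_dvd_of_injective _ _ ((injective_iff_map_eq_one _).2 fun y hy =>
      he.le (inv_mul_eq_one.1 hy).symm)))).ge hx
  have hP := Solv.card_comap ρ ((map_le_range α E).trans hr)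
  rw [hk, card_map_of_injective hα, ← Nat.card_congr (MonoidHom.ofInjective hι).toEquiv, h5, hE] at hP
  refine ⟨(E.map α).comap ρ, W.map ι, (map_le_range _ _).trans (hk.ge.trans (ker_le_comap _ _)), ?_, by
    rw [hP, card_map_of_injective hι, h4]; norm_num⟩
  rintro y ⟨s, hs, hy⟩
  obtain ⟨ss, hs'⟩ := hE' s hs
  obtain ⟨a, ha⟩ : y * y ∈ ι.range := hk.le (by rw [MonoidHom.mem_ker, map_mul, ← hy, sq s ss])
  refine ⟨a, ?_, ha⟩
  have a1 : a ∈ Fx (α s) := hι (by rw [MulEquiv.coe_toMonoidHom, hy, hρ, MonoidHom.id_apply, ha]; group)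
  have a2 : ∀ c, Commute c s → dl (α c) a ∈ (dl (α s)).range := fun c hc => by
    obtain ⟨x, hx⟩ := hr ⟨c, rfl⟩
    obtain ⟨b, hb⟩ : x * y * x⁻¹ * y⁻¹ ∈ ι.range := hk.le (by
      rw [MonoidHom.mem_ker, map_mul, map_mul, map_mul, map_inv, map_inv, hx, ← hy, (hc.map α).eq]; group)
    refine ⟨b, ?_⟩
    rw [dl_apply (x := a)]
    refine eq_inv_mul_iff_mul_eq.2 (hι ?_)
    rw [dl_apply, inv_eq_of_mul_eq_one_right (hA b), mul_comm, map_mul, map_mul, hy, hρ, ← hx, hρ, ha, hb]; group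
  rcases hs' with rfl | rfl | ⟨w, h, rfl | ⟨rfl, s1, d, -, d3, d1, c⟩⟩
  · obtain ⟨b, hb⟩ := a2 e (Commute.one_right e)
    exact ce a (by rw [← hb, dl_apply, map_one, MulAut.one_apply, inv_mul_cancel]; exact one_mem _)
  · exact ce a (rJ (a2 e c3))
  · exact (hW _ h).1.le a1
  · obtain ⟨b, hb⟩ := good hA h16 h5 (sq _ ss) (mt (map_eq_one_iff α hα).1 s1) (by rw [← map_pow, d3, map_one])
      (mt (map_eq_one_iff α hα).1 d1) (Commute.map c α) a1 (a2 d c)
    have := mul_mem (rJ ⟨b, rfl⟩) ((hW _ h).2 ⟨α J b, rfl⟩)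
    rw [dl_apply, dl_apply, mul_assoc, mul_inv_cancel_left] at this
    rwa [SetLike.mem_coe, ← hb, dl_apply, map_mul]

local notation "S6" => Equiv.Perm (Fin 6)

def cy (l : List (Fin 6)) : S6 := l.formPerm
def pa : S6 := cy [0, 1, 2]
def pb : S6 := cy [3, 4, 5]

def g9 : Multiplicative (ZMod 3 × ZMod 3) →* S6 where
  toFun x := pa ^ x.toAdd.1.val * pb ^ x.toAdd.2.val
  map_one' := by decide +kernel
  map_mul' := by decide +kernel

omit hA h16 in
theorem g9c : ∀ x : Multiplicative (ZMod 3 × ZMod 3), x = 1 ∨ ∃ g ∈ [1, cy [1, 2], cy [4, 5], cy [1, 2] * cy [4, 5],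
    cy [0, 3] * cy [1, 4] * cy [2, 5], cy [0, 3] * cy [1, 5, 2, 4]],
    g9 x = g * pa * g⁻¹ ∨ g9 x = g * (pa * pb) * g⁻¹ := by
  decide +kernel

def sub (l : List S6) (h : 1 ∈ l ∧ (∀ a ∈ l, ∀ b ∈ l, a * b ∈ l) ∧ ∀ a ∈ l, a⁻¹ ∈ l) : Subgroup S6 :=
  ⟨⟨⟨{x | x ∈ l}, fun ha hb => h.2.1 _ ha _ hb⟩, h.1⟩, fun ha => h.2.2 _ ha⟩

omit hA h16 in
theorem card_sub (l : List S6) (h) (h8 : l.toFinset.card = 8) : Nat.card (sub l h) = 8 := by
  rw [← h8, ← Fintype.card_coe, ← Nat.card_eq_fintype_card]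
  exact Nat.card_congr (Equiv.subtypeEquivRight fun x => List.mem_toFinset.symm)

def E1 : List S6 := [1, cy [0, 1] * cy [2, 3], cy [0, 2] * cy [1, 3], cy [0, 3] * cy [1, 2], cy [4, 5],
  cy [0, 1] * cy [2, 3] * cy [4, 5], cy [0, 2] * cy [1, 3] * cy [4, 5], cy [0, 3] * cy [1, 2] * cy [4, 5]]
def E2 : List S6 := [1, cy [0, 3], cy [1, 4], cy [2, 5], cy [0, 3] * cy [1, 4], cy [0, 3] * cy [2, 5],
  cy [1, 4] * cy [2, 5], cy [0, 3] * cy [1, 4] * cy [2, 5]]

theorem s6 {Y : Type*} [Group Y] {ι : A →* Y} (hι : Function.Injective ι) {ρ : Y →* MulAut A}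
    (hρ : ∀ y a, ι (ρ y a) = y * ι a * y⁻¹) (hk : ρ.ker = ι.range) {α : S6 →* MulAut A} (hα : Function.Injective α)
    (hr : α.range ≤ ρ.range) : ∃ P W : Subgroup Y, W ≤ P ∧ (∀ y ∈ P, y * y ∈ W) ∧ 16 * Nat.card W < Nat.card P := by
  have h5 := (inv5 hA h16 (u := α (cy [1, 4] * cy [2, 3])) (f := α (cy [0, 1, 2, 3, 4]))
    (by rw [← map_mul, ← map_one α]; exact congrArg α (by decide +kernel))
    (by rw [← map_inv, ← map_inv, ← map_mul, ← map_mul]; exact congrArg α (by decide +kernel))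
    (by rw [← map_pow, ← map_one α]; exact congrArg α (by decide +kernel)) (mt (map_eq_one_iff α hα).1 (by decide +kernel))).1
  have c4 : ∀ s : S6, s ^ 3 = 1 → s ≠ 1 → Fx (α s) ≠ ⊥ → Nat.card (Fx (α s)) = 4 := fun s s3 s1 h => by
    have := cnt' (φ := α s) Nat.prime_three (by rw [← map_pow, s3, map_one])
    have := pw hA h16 (Fx (α s))
    have := mt eq_one (mt (map_eq_one_iff α hα).1 s1)
    have := mt card_eq_one.1 h
    omega
  by_cases h1 : Fx (α pa) = ⊥
  · exact core hA h16 hι hρ hk hα hr h1 (u := cy [0, 1] * cy [2, 3]) (J := cy [4, 5]) (f := cy [4, 0, 2, 3, 1])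
      (E := sub E1 (by decide +kernel))
      (D := [cy [0, 2, 4] * cy [1, 3, 5], cy [0, 1, 4] * cy [2, 3, 5], cy [0, 1, 4] * cy [3, 2, 5]])
      (by decide +kernel) (by decide +kernel) (by decide +kernel) (by decide +kernel) (by decide +kernel)
      (by decide +kernel) rfl (by decide +kernel) (by decide +kernel) (by decide +kernel) (by decide +kernel)
      (card_sub _ _ (by decide +kernel)) (show ∀ s ∈ E1, _ by decide +kernel)
  by_cases h2 : Fx (α (pa * pb)) = ⊥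
  · exact core hA h16 hι hρ hk hα hr h2 (u := cy [0, 3] * cy [1, 4]) (J := cy [0, 3] * cy [1, 4] * cy [2, 5])
      (f := cy [2, 0, 1, 4, 3]) (E := sub E2 (by decide +kernel)) (D := [cy [0, 1, 3], cy [1, 2, 4], cy [0, 2, 3]])
      (by decide +kernel) (by decide +kernel) (by decide +kernel) (by decide +kernel) (by decide +kernel)
      (by decide +kernel) rfl (by decide +kernel) (by decide +kernel) (by decide +kernel) (by decide +kernel)
      (card_sub _ _ (by decide +kernel)) (show ∀ s ∈ E2, _ by decide +kernel)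
  exfalso
  classical
  have h3 := c4 _ (by decide +kernel) (by decide +kernel) h1
  have h4 := c4 _ (by decide +kernel) (by decide +kernel) h2
  letI := MulAction.compHom A (α.comp g9)
  haveI := Fintype.ofFinite A
  have := MulAction.sum_card_fixedBy_eq_card_orbits_mul_card_group (Multiplicative (ZMod 3 × ZMod 3)) A
  rw [Finset.sum_congr rfl (g := fun x => if x = 1 then 16 else 4) fun x _ => by
    rw [← Nat.card_eq_fintype_card]
    change Nat.card (Fx (α (g9 x))) = _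
    split_ifs with h
    · rw [h, map_one, map_one, show Fx (1 : MulAut A) = ⊤ from eq_top_iff.2 fun _ _ => mem_Fx.2 rfl, card_top, h5]
    obtain ⟨g, -, e | e⟩ := (g9c x).resolve_left h <;> rwa [e, map_mul, map_mul, map_inv, card_conj],
    show ∑ x : Multiplicative (ZMod 3 × ZMod 3), (if x = 1 then 16 else 4) = 48 by decide +kernel,
    show Fintype.card (Multiplicative (ZMod 3 × ZMod 3)) = 9 by decide +kernel] at this
  omega

end Cfsg.Agent.Small.S6V
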