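import Cfsg.Agent.Small.Shp
import Cfsg.Agent.Known.Fi24X
import Cfsg.Agent.Known.U43Eq
import Cfsg.Agent.Fischer.Ty
import Cfsg.Agent.S0283

/-! The centraliser `2^(1+12).3.U4(3).2` in `Fi24'` of a product of four commuting transpositions (helper9): `P67`,
`fstar_of`, `p67_of`, `card_c4`, `F24C.p67`. -/

set_option autoImplicit false
set_option maxRecDepth 100000

namespace Cfsg.Agent.Small

open Known Comp Subgroup Equiv Function Fischer Spor.Ct

section
variable {G H : Type*} [Group G] [Group H] {U : Type} [Group U]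

theorem fstar_of [Finite H] {Q : Subgroup H} [Q.Normal] (pg : IsPGroup 2 Q) {u q : H} (h1 : u ^ 3 = 1) (h2 : q ∈ Q)
    (h3 : ¬ Commute u q) (hx : ∀ K : Subgroup H, K.Normal → Q < K → u ∈ K) : generalizedFittingSubgroup H = Q := by
  have : Fact (Nat.Prime 2) := ⟨Nat.prime_two⟩
  have key : ∀ (L : Subgroup H) n, u ^ 2 ^ n ∈ L → u ∈ L := fun L n k => by
    obtain ⟨m, e⟩ := exists_pow_eq_self_of_coprime (x := u) (n := 2 ^ n)
      (Nat.Coprime.coprime_dvd_right (orderOf_dvd_of_pow_eq_one h1) (Nat.Coprime.pow_left _ (by decide)))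
    exact e ▸ pow_mem k m
  have hc : centralizer (Q : Set H) ≤ Q := by
    by_contra n
    have := hx (centralizer (Q : Set H) ⊔ Q) (sup_normal _ _) (right_lt_sup.2 n)
    rw [← SetLike.mem_coe, mul_normal] at this
    obtain ⟨c, hc, m, hm, e⟩ := this
    obtain ⟨k, hk⟩ := pg ⟨_, hm⟩
    have : u ^ 2 ^ k = c ^ 2 ^ k := by
      rw [← e, (show Commute c m from (hc _ hm).symm).mul_pow, show m ^ 2 ^ k = 1 from congrArg Subtype.val hk, mul_one]
    exact h3 (key _ k (this ▸ pow_mem hc _) q h2).symm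
  have e : pCore 2 H = Q := ((Solv.le_pCore pg).eq_or_lt.resolve_right fun n => by
    obtain ⟨k, hk⟩ := Solv.isPGroup_pCore 2 H ⟨u, hx _ inferInstance n⟩
    have : u ∈ (⊥ : Subgroup H) := key _ k (congrArg Subtype.val hk)
    exact h3 (mem_bot.1 this ▸ Commute.one_left q)).symm
  rw [← Sig.fstarIn_top, ← e, ← Sig.pcIn_top, Sig.fstarIn_eq_pcIn_iff, Sig.pcIn_top, e]
  exact inf_le_right.trans hc

/-- the shape `2^(1+12).3.U.2`. -/
def P67 (U : Type) [Group U] (H : Type*) [Group H] : Prop := ∃ (Q N M : Subgroup H) (π : M →* U) (u q : H),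
  Q.Normal ∧ N.Normal ∧ IsExtraspecial 2 Q ∧ Nat.card Q = 2 ^ 13 ∧ Q ≤ N ∧ N ≤ M ∧ Nat.card N = 3 * 2 ^ 13 ∧
    Surjective π ∧ π.ker = N.subgroupOf M ∧ M.index = 2 ∧ u ^ 3 = 1 ∧ q ∈ Q ∧ ¬ Commute u q ∧
      ∀ K : Subgroup H, K.Normal → Q < K → u ∈ K

theorem P67.congr [Finite G] (h : P67 U H) (e : G ≃* H) : P67 U G := by
  obtain ⟨Q, N, M, π, u, q, _, _, h1, h2, h3, h4, h5, h6, h7, h8, h9, k1, k2, k3⟩ := h
  have := Finite.of_equiv _ e.toEquiv
  have f : ∀ X : Subgroup H, X ≃* X.comap e.toMonoidHom := fun X =>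
    (e.symm.subgroupMap X).trans (MulEquiv.subgroupCongr (map_equiv_eq_comap_symm' _ _))
  refine ⟨Q.comap e.toMonoidHom, N.comap e.toMonoidHom, M.comap e.toMonoidHom, π.comp (e.toMonoidHom.subgroupComap M),
    e.symm u, e.symm q, inferInstance, inferInstance, PGrp.ES_of_mulEquiv h1 (f Q), (Nat.card_congr (f Q).toEquiv).symm.trans h2,
    comap_mono h3, comap_mono h4, (Nat.card_congr (f N).toEquiv).symm.trans h5,
    h6.comp (MonoidHom.subgroupComap_surjective_of_surjective _ M e.surjective), by rw [← MonoidHom.comap_ker, h7]; rfl,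
    (index_comap_of_surjective _ e.surjective).trans h8, by rw [← map_pow, h9, map_one], by simpa using k1,
    fun c => k2 (by simpa using c.map e), fun K _ hK => ?_⟩
  have := k3 (K.map e.toMonoidHom) (.map ‹_› _ e.surjective) (by
    rw [← map_comap_eq_self_of_surjective (f := e.toMonoidHom) e.surjective Q]
    exact (map_lt_map_iff_of_injective e.injective).2 hK)
  exact mem_map_equiv.1 this

end

section
variable {A U : Type} [Group A] [Group U] {a : ℕ → A} {E : List (List ℕ × List ℕ)}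

def chkMod (E : List (List ℕ × List ℕ)) (qs u v : List ℕ) : Bool :=
  E.any fun e => e.1 == u && (e.2.filter fun x => !qs.contains x) == v

theorem eq_mod (h : Eqs a E) {qs : List ℕ} {K : Subgroup A} [K.Normal] (hK : Spor.genL a qs ≤ K) {u v : List ℕ}
    (hc : chkMod E qs u v = true) : ((Spor.ev a u : A) : A ⧸ K) = (Spor.ev a v : A) := by
  simp only [chkMod, List.any_eq_true, Bool.and_eq_true, beq_iff_eq] at hc
  obtain ⟨e, he, rfl, rfl⟩ := hc
  rw [h e he]
  induction e.2 with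
  | nil => rfl
  | cons x w ih =>
    rw [List.filter_cons, Spor.ev_cons, QuotientGroup.mk_mul, ih]
    split_ifs with k
    · rw [Spor.ev_cons, QuotientGroup.mk_mul]
    · rw [(QuotientGroup.eq_one_iff _).2 (hK (Spor.mem_genL _ (by simpa using k))), mul_one]

theorem ev_rep (w : List ℕ) (n : ℕ) : Spor.ev a (List.replicate n w).flatten = Spor.ev a w ^ n := by
  induction n with
  | zero => simp
  | succ n ih => rw [List.replicate_succ, List.flatten_cons, Spor.ev_append, ih, pow_succ]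

def chk67 (E : List (List ℕ × List ℕ)) (z t s : ℕ) (es xs : List ℕ) (rels : List (List ℕ)) (v w : List ℕ) : Bool :=
  chkNm E (t :: z :: es ++ xs ++ [s]) (z :: es) && chkNm E (t :: z :: es ++ xs ++ [s]) (t :: z :: es) &&
  chkES (flt (z :: es) E) z es && chkIn (flt (t :: z :: es ++ xs) E) (t :: z :: es) (rels.map (Spor.renW (Spor.sing xs))) &&
  (xs.all fun x => chkMod E (z :: es) [t, x] [x, t]) && chkMod E (z :: es) [t, s] [s, t, t] && E.contains ([t, t, t], []) &&
  sub (t :: z :: es ++ xs) v && sub (t :: z :: es ++ xs) w && chkMod E (z :: es) (List.replicate 2 v).flatten [] &&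
  chkMod E (z :: es) (List.replicate 7 w).flatten [] && chkMod E (z :: es) (List.replicate 4 (v ++ w)).flatten [t, t]

theorem p67_of [Finite A] [Finite U] [IsSimpleGroup U] (h : Eqs a E) {z t s q : ℕ} {es xs : List ℕ} {u : ℕ → U}
    {rels : List (List ℕ)} (L : Lifts u xs.length rels) (top : Spor.genL a (t :: z :: es ++ xs ++ [s]) = ⊤)
    (hb : Nat.card A ≤ 3 * 2 ^ 13 * Nat.card U * 2) (he : es.length = 12) {v w : List ℕ}
    (hc : chk67 E z t s es xs rels v w = true) (hz : a z ≠ 1) (hq : q ∈ z :: es) (hn : ¬ Commute (a t) (a q)) :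
    P67 U A ∧ Nat.card A = 3 * 2 ^ 13 * Nat.card U * 2 := by
  simp only [chk67, Bool.and_eq_true, List.all_eq_true] at hc
  obtain ⟨⟨⟨⟨⟨⟨⟨⟨⟨⟨⟨c1, c2⟩, c3⟩, c4⟩, c5⟩, c6⟩, c7⟩, c8⟩, c9⟩, d1⟩, d2⟩, d3⟩ := hc
  have := Fact.mk Nat.prime_three
  have nQ := h.normal top c1
  have nN := h.normal top c2
  obtain ⟨e1, e2⟩ := (h.sub le_rfl).es (m := 5) (subG_top rfl) he c3 (subG_ne (Spor.mem_genL _ (by simp)) hz)
  set Q := Spor.genL a (z :: es)
  set N := Spor.genL a (t :: z :: es) with hN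
  set M := Spor.genL a (t :: z :: es ++ xs) with hM
  have l1 : Q ≤ N := Spor.genL_le fun x hx => Spor.mem_genL _ (List.mem_cons_of_mem _ hx)
  have l2 : N ≤ M := Spor.genL_le fun x hx => Spor.mem_genL _ (List.mem_append_left _ hx)
  have t3 : a t ^ 3 = 1 := by simpa [pow_three'] using h.eq _ _ c7
  have tN : a t ∈ N := Spor.mem_genL _ (by simp)
  have pg : IsPGroup 2 Q := .of_card (n := 13) e2
  have tQ : a t ∉ Q := fun k => by
    obtain ⟨n, e⟩ := pg ⟨_, k⟩
    have := pow_gcd_eq_one.2 ⟨t3, congrArg Subtype.val e⟩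
    rw [Nat.Coprime.pow_right n (by decide : Nat.Coprime 3 2), pow_one] at this
    exact hn (this ▸ Commute.one_left _)
  have zp : ∀ (K : Subgroup A) [K.Normal], Q ≤ K → N ≤ (zpowers (a t : A ⧸ K)).comap (QuotientGroup.mk' K) :=
    fun K _ hK => Spor.genL_le fun x hx => (List.mem_cons.1 hx).elim (fun e => e ▸ mem_zpowers _) fun k => by
      rw [mem_comap, QuotientGroup.mk'_apply, (QuotientGroup.eq_one_iff _).2 (hK (Spor.mem_genL _ k))]; exact one_mem _
  have cN : Nat.card N = 3 * 2 ^ 13 := by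
    have : N = (zpowers (a t : A ⧸ Q)).comap (QuotientGroup.mk' Q) := (zp Q le_rfl).antisymm (by
      rw [← QuotientGroup.mk'_apply, ← MonoidHom.map_zpowers, comap_map_eq, QuotientGroup.ker_mk']
      exact sup_le (zpowers_le.2 tN) l1)
    rw [this]
    refine (QuotientGroup.card_preimage_mk Q (zpowers (a t : A ⧸ Q) : Set _)).trans ?_
    rw [e2, SetLike.coe_sort_coe, Nat.card_zpowers, orderOf_eq_prime (p := 3) (by rw [← QuotientGroup.mk_pow, t3]; rfl)
      (mt (QuotientGroup.eq_one_iff _).1 tQ)]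
    decide
  have k1 : ∀ (K : Subgroup A) [K.Normal], Q ≤ K → (a s : A ⧸ K) ∈ M.map (QuotientGroup.mk' K) → a t ∈ K := by
    rintro K _ hK ⟨g, hg, e⟩
    have : M ≤ (centralizer {(a t : A ⧸ K)}).comap (QuotientGroup.mk' K) := Spor.genL_le fun x hx =>
      mem_centralizer_singleton_iff.2 ((List.mem_append.1 hx).elim (fun k => by
        obtain ⟨n, e⟩ := zp K hK (Spor.mem_genL _ k)
        rw [← e]; exact Commute.zpow_self _ n) fun k => by simpa using eq_mod h hK (c5 x k))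
    have k := mem_centralizer_singleton_iff.1 (this hg)
    have k' := eq_mod h hK c6
    simp only [Spor.ev_cons, Spor.ev_nil, one_mul, QuotientGroup.mk_mul] at k'
    rw [e, k', mul_left_inj, mul_eq_left] at k
    exact (QuotientGroup.eq_one_iff _).1 k
  have k2 : ∀ (K : Subgroup A) [K.Normal], Q ≤ K → M.map (QuotientGroup.mk' K) ≤ N.map (QuotientGroup.mk' K) →
      a t ∈ K := by
    intro K _ hK hl
    have p : ∀ g ∈ M, (g : A ⧸ K) ^ 3 = 1 := fun g hg => by
      obtain ⟨n, e⟩ := map_le_iff_le_comap.2 (zp K hK) (hl ⟨g, hg, rfl⟩)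
      rw [← QuotientGroup.mk'_apply, ← e, ← zpow_natCast, ← zpow_mul, mul_comm, zpow_mul, zpow_natCast,
        ← QuotientGroup.mk_pow, t3, QuotientGroup.mk_one, one_zpow]
    have p1 := eq_mod h hK d1
    have p2 := eq_mod h hK d2
    have p3 := eq_mod h hK d3
    rw [ev_rep, QuotientGroup.mk_pow] at p1 p2 p3
    have q1 := pow_gcd_eq_one.2 ⟨p1, p _ (ev_mem_sub c8)⟩
    have q2 := pow_gcd_eq_one.2 ⟨p2, p _ (ev_mem_sub c9)⟩
    have q3 := p _ (l2 tN)
    norm_num at q1 q2
    rw [Spor.ev_append, Spor.ev_two, QuotientGroup.mk_mul, QuotientGroup.mk_mul, (QuotientGroup.eq_one_iff _).2 q1,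
      (QuotientGroup.eq_one_iff _).2 q2, mul_one, one_pow] at p3
    rw [pow_three', ← p3, one_mul] at q3
    exact (QuotientGroup.eq_one_iff _).1 q3
  obtain ⟨f⟩ := (h.sub le_rfl).quot_lifts (N.subgroupOf M) L (genL_subG l2).le (subG_top rfl) c4 fun e =>
    tQ (k2 Q le_rfl (map_mono (subgroupOf_eq_top.1 e)))
  have sM : a s ∉ M := fun k => tQ (k1 Q le_rfl ⟨_, k, rfl⟩)
  have cM : Nat.card M = 3 * 2 ^ 13 * Nat.card U := by
    rw [card_eq_card_quotient_mul_card_subgroup (N.subgroupOf M), Nat.card_congr f.toEquiv,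
      Nat.card_congr (subgroupOfEquivOfLe l2).toEquiv, cN, mul_comm]
  have i := M.index_mul_card
  have i2 : M.index = 2 := by
    have := Nat.card_pos (α := M)
    have := index_ne_zero_of_finite (H := M)
    have : M.index ≠ 1 := fun e => sM (index_eq_one.1 e ▸ mem_top _)
    rw [← cM, ← i, mul_comm, Nat.mul_le_mul_left_iff ‹_›] at hb
    omega
  have hk : (f.toMonoidHom.comp (QuotientGroup.mk' _)).ker = N.subgroupOf M := by
    rw [← MonoidHom.comap_ker, (MonoidHom.ker_eq_bot_iff _).2 f.injective, MonoidHom.comap_bot, QuotientGroup.ker_mk']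
  have hs := f.surjective.comp (QuotientGroup.mk'_surjective (N.subgroupOf M))
  refine ⟨⟨Q, N, M, _, a t, a q, nQ, nN, e1, e2, l1, l2, cN, hs, hk, i2, t3, Spor.mem_genL _ hq, hn,
    fun K _ hK => ?_⟩, by rw [← i, i2, cM, mul_comm]⟩
  obtain ⟨g, g1, g2⟩ := SetLike.exists_of_lt hK
  by_cases gM : g ∈ M
  swap
  · exact k1 K hK.le ⟨g * a s, (mul_mem_iff_of_index_two i2).2 (iff_of_false gM sM), by
      simp [(QuotientGroup.eq_one_iff _).2 g1]⟩
  by_cases gN : g ∈ N
  · obtain ⟨j, e⟩ := card_dvd_of_le (le_inf hK.le l1)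
    have d := card_dvd_of_le (inf_le_right : K ⊓ N ≤ N)
    rw [e, cN, e2, mul_comm] at d
    rcases (Nat.dvd_prime Nat.prime_three).1 (Nat.dvd_of_mul_dvd_mul_right (by decide) d) with rfl | rfl
    · exact absurd ((eq_of_le_of_card_ge (le_inf hK.le l1) (e.trans (mul_one _)).le).ge ⟨g1, gN⟩) g2
    · exact ((eq_of_le_of_card_ge (inf_le_right : K ⊓ N ≤ N) (by rw [e, cN, e2]; decide)).ge tN).1
  refine k2 K hK.le ?_
  rintro _ ⟨m, hm, rfl⟩
  obtain ⟨c, c1, c2⟩ := (((inferInstance : (K.subgroupOf M).Normal).map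
    (f.toMonoidHom.comp (QuotientGroup.mk' _)) hs).eq_bot_or_eq_top.resolve_left fun e =>
    gN (hk.le ((Subgroup.map_eq_bot_iff _).1 e (show (⟨g, gM⟩ : M) ∈ _ from g1)))).ge (mem_top (f ((⟨m, hm⟩ : M) : _ ⧸ _)))
  exact ⟨c⁻¹ * m, hk.le (show c⁻¹ * ⟨m, hm⟩ ∈ _ by
    rw [MonoidHom.mem_ker, map_mul, map_inv, c2]; exact inv_mul_cancel _),
    by simp [(QuotientGroup.eq_one_iff _).2 (show c.1 ∈ K from c1)]⟩

end

theorem card_c4 {G : Type*} [Group G] [Finite G] {D : Set G} (h : B24 D) {a b c d : G} (k : CL D [a, b, c, d]) {n : ℕ}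
    (hn : {x ∈ D | Commute x [a, b, c, d].prod}.ncard ≤ n) :
    Nat.card ↥(commutator G ⊓ centralizer {[a, b, c, d].prod}) ≤ n * 318504960 := by
  classical
  have w := h.fl.wt
  have k3 := (cl_cons'.1 k).1
  have k2 := (cl_cons'.1 k3).1
  have k1 := (cl_cons'.1 k2).1
  have n0 : ∀ {S : Set G} {m}, S.ncard = m → NcL S 0 m := fun e l _ k => by rwa [List.length_eq_zero_iff.1 k, Dl_nil]
  have e1 := card_cl h.fl.tg k1 (h.k.trA _ (by simp))
  rw [card_cl h.fl.tg k2 (h.k.trA _ (by simp)), card_cl h.fl.tg k3 (h.k.trA _ (by simp)),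
    card_cl h.fl.tg k (h.k.trA _ (by simp)), n0 h.k.ncard _ (cl_nil _) rfl,
    ncL_succ (fun x hx => n0 (h.k.loc x hx).ncard) _ k1 rfl,
    ncL_succ (fun x hx => ncL_succ fun y hy => ((h.k.loc x hx).loc y hy).ncL0) _ k2 rfl,
    ncL_succ (fun x hx => ncL_succ fun y hy => ((h.k.loc x hx).loc y hy).ncL1) _ k3 rfl] at e1
  have e0 : Nat.card (centralizer {y : G | y ∈ ([] : List G)}) = 2 * 1255205709190661721292800 := by
    rw [← h.card]; simp
  have c4 : Nat.card (centralizer {y | y ∈ [a, b, c, d]}) = 106168320 := by omega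
  have st : ∀ {g x : G} {l : List G}, Commute g (x :: l).prod → Commute g x → Commute g l.prod := fun h1 h2 => by
    simpa using h2.inv_right.mul_right h1
  have ob : ∀ {x : G} {l : List G} (K : Subgroup G), CL D (x :: l) → l.length ≤ 2 →
      (∀ g ∈ K, Commute g (x :: l).prod) → (orb K x).ncard ≤ l.length + 1 := fun {x l} K k e hK => by
    refine (Set.ncard_le_ncard (t := (x :: l).toFinset) ?_).trans (Set.ncard_coe_finset _ ▸ List.toFinset_card_le _)
    rintro _ ⟨g, hg, rfl⟩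
    exact List.mem_toFinset.2 ((k.conj_of_comm w (h.k.noCL.mono (by simp; omega)) (by simp; omega) h.fl.top (hK g hg)).1 x (by simp))
  set C := centralizer {[a, b, c, d].prod}
  have m : ∀ {g x : G}, g ∈ centralizer {x} → Commute g x := mem_centralizer_singleton_iff.1
  have o : Nat.card C ≤ n * (3 * (2 * 106168320)) := by
    rw [card_eq_orb _ a, card_eq_orb (_ ⊓ _) b, card_eq_orb (_ ⊓ _) c, ← c4]
    refine Nat.mul_le_mul (le_trans (Set.ncard_le_ncard ?_) hn) (Nat.mul_le_mul (ob _ k3 le_rfl fun g hg =>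
      st (m hg.1) (m hg.2)) (Nat.mul_le_mul (ob _ k2 (by simp) fun g hg => st (st (m hg.1.1) (m hg.1.2)) (m hg.2))
        (card_le_of_le fun g hg => mem_cent_list.2 ?_)))
    · rintro _ ⟨g, hg, rfl⟩
      exact ⟨w.conj_mem (h.fl.top g) (k.2.1 a (by simp)), ((m hg).mul_left (CL.comm_prod (k.2.2 a (by simp)))).mul_left
        (m hg).inv_left⟩
    · simpa [m hg.1.1.2, m hg.1.2, m hg.2] using st (st (st (m hg.1.1.1) (m hg.1.1.2)) (m hg.1.2)) (m hg.2)
  obtain ⟨ε, e2, e3⟩ := h.eps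
  have i := ((commutator G).subgroupOf C).index_mul_card
  have i0 := index_ne_zero_of_finite (H := (commutator G).subgroupOf C)
  have i1 : ((commutator G).subgroupOf C).index ≠ 1 := fun e => by
    have : a ∈ commutator G := (index_eq_one.1 e).ge (mem_top (⟨a, mem_centralizer_singleton_iff.2
      (CL.comm_prod (k.2.2 a (by simp))).eq⟩ : C))
    rw [e2, MonoidHom.mem_ker, e3 a (k.2.1 a (by simp))] at this
    exact absurd this (by decide)
  rw [← inf_subgroupOf_right, Nat.card_congr (subgroupOfEquivOfLe inf_le_right).toEquiv] at i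
  rw [← inf_subgroupOf_right] at i0 i1
  have := Nat.mul_le_mul_right (Nat.card ↥(commutator G ⊓ C)) (show 2 ≤ ((commutator G ⊓ C).subgroupOf C).index by omega)
  omega

namespace F24C

local notation "G₀" => Cfsg.Spor.Fi24

noncomputable def y (j : ℕ) : G₀ := F24.T (Fi24X.cf.pt j)

theorem M : FM F24.D24 Spor.Fi24M.φ F24.T y Fi24X.cf := Fi24X.fm0

def ks : List (List ℕ) := [[11,9,7,5],[9,5],[13,7,12,4,12,7,13,11,5,13,7,12,4,12,7,13],[12,11,7,12,0,12,7,11,12,2],[13,14,15,9,13,3,13,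
  9,15,14,13,3],[11,5],[8,7,13,12,10,12,13,7,12,13,10,13,12,8],[15,11,6,15,3,15,6,11,15,0,11,5],[1,12,11,7,12,2,
  12,7,11,12,0,1,11,5],[12,11,7,12,2,12,7,11,12,0,11,5],[1,2,13,14,15,9,13,3,13,9,15,14,13,3,2,1],[14,11,7,14,4,
  14,7,11,10,11,14,1,14,11,10,14,11,5],[6,14,11,8,14,1,14,8,11,14,6,12,11,2,12,0,12,2,11,12],[11,9,7,5,8,12,13,
  10,13,12,8,13,11,9,7,13,5,13,7,9,11,13,8,15,11,12,14,3,14,12,11,15,8,15,4,12,0,12,4,15,2,12,15,5,4,5,15,12,1,
  5],[3,2,1,0,1,2,3,12,11,2,12,0,12,2,11,12,13,12,3,1,15,14,15,1,3,12,13,5,2,1],[1,2,5,13,12,3,1,15,14,15,1,3,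
  12,13,12,11,2,12,0,12,2,11,12,3,2,1,0,1,2,3],[1,13,7,12,4,12,7,13,8,12,5,13,10,13,5,12,8,2,1,3],[3,1,2,8,12,5,
  13,10,13,5,12,8,13,7,12,4,12,7,13,1],[13,7,12,4,12,7,13,3,15,4,12,0,12,4,15,3,13,14,11,13,14,9,14,13,11,14,13,
  8,12,13,10,13,12,8,5,3,2,3],[3,2,3,5,8,12,13,10,13,12,8,13,14,11,13,14,9,14,13,11,14,13,3,15,4,12,0,12,4,15,3,
  13,7,12,4,12,7,13],[1,0,4,14,8,13,0,13,8,14,4,1],[2,1,0,1,2,8,15,10,11,12,0,12,11,10,15,8],[8,9,7,8]]

def E : List (List ℕ × List ℕ) := [([0,13], [13,0]), ([1,13], [13,5,0]), ([2,13], [13,11,10,9,8,6,4,3,2,0]), ([3,13], [13,12,7,3,1]), ([4,13],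
   [13,11,9,1,0]), ([5,13], [13,5,1]), ([6,13], [13,11,10,7,2,0]), ([7,13], [13,9,1,0]), ([8,13], [13,12,10,8,5,
  4,0]), ([9,13], [13,9,7,5,1]), ([10,13], [13,11,8,3,1,0]), ([11,13], [13,11,7,4,0]), ([12,13], [13,9,5,3,1,
  0]), ([0,14], [14,0]), ([1,14], [14,12,10,9,7,6,5,3,1]), ([2,14], [14,12,9,8,5]), ([3,14], [14,9,8,3]), ([4,
  14], [14,8,7,6,5,2]), ([5,14], [14,12,10,9,8,7,3,2,0]), ([6,14], [14,12,11,9,6,3,2,1]), ([7,14], [14,12,10,9,
  6,4,3,1]), ([8,14], [14,11,8,6,3,2]), ([9,14], [14,11,8,6,2]), ([10,14], [14,12,10,8,6,5,4,2,1,0]), ([11,14],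
   [14,11,9,8,6,5,2,1,0]), ([12,14], [14,10,7,5]), ([0,15], [15,0]), ([1,15], [15,12,10,9,7,6,5,3]), ([2,15],
   [15,12,9,8,5,2]), ([3,15], [15,9,8]), ([4,15], [15,8,7,6,5,4,2]), ([5,15], [15,12,10,9,8,7,5,3,2,0]), ([6,
  15], [15,12,11,9,3,2,1,0]), ([7,15], [15,12,10,9,7,6,4,3,1,0]), ([8,15], [15,11,6,3,2]), ([9,15], [15,11,9,8,
  6,2]), ([10,15], [15,12,8,6,5,4,2,1,0]), ([11,15], [15,9,8,6,5,2,1,0]), ([12,15], [15,12,10,7,5]), ([0,16],
   [16,0]), ([1,16], [16,12,10,8,7,4,3,1,0]), ([2,16], [16,11,10,7,5,4,0]), ([3,16], [16,9,8]), ([4,16], [16,11,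
  10,9,5,3,2,1,0]), ([5,16], [16,10,9,7,5,4,3,1]), ([6,16], [16,12,10,8,7,6,4,3,0]), ([7,16], [16,12,11,9,8,6,5,
  2]), ([8,16], [16,11,9,8,6,5,4,3,2]), ([9,16], [16,11,9,8,6,3,0]), ([10,16], [16,12,11,10,9,8,7,6,5,4,2,0]),
   ([11,16], [16,9,5,4,3,2,1,0]), ([12,16], [16,12,11,9,6,5,3,2]), ([0,17], [17,0]), ([1,17], [17,12,11,9,8,7,
  3]), ([2,17], [17,12,6,3,2,0]), ([3,17], [17,12,9,7,6,5,2,1,0]), ([4,17], [17,12,11,10,7,6,5,3,2]), ([5,17],
   [17,11,10,9,8,7,5]), ([6,17], [17,12,11,9,8,7,6,3,1]), ([7,17], [17,10,9,8,7,5,4,2,0]), ([8,17], [17,9,6,5,2,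
  1,0]), ([9,17], [17,9,6,5,3,2,1,0]), ([10,17], [17,12,11,10,9,8,7,6,4,3]), ([11,17], [17,11,9,8,5,2]), ([12,
  17], [17,11,10,9,8,7,3,1]), ([0,18], [18,0]), ([1,18], [18,9,7,0]), ([2,18], [18,11,10,7,2,0]), ([3,18], [18,
  9,5,3,1]), ([4,18], [18,10,8,6,5,2,1,0]), ([5,18], [18,7,5,0]), ([6,18], [18,12,6,4,1]), ([7,18], [18,12,9,7,
  5,4,2,0]), ([8,18], [18,11,7,4,2,0]), ([9,18], [18,10,8,6,5,4,2,1,0]), ([10,18], [18,9,7,5,3,1]), ([11,18],
   [18,12,11,4,2,1,0]), ([12,18], [18,5,4,2,0]), ([0,19], [19,0]), ([1,19], [19,12,11,10,8,7,3,1,0]), ([2,19],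
   [19,12,10,9,5,4,3,0]), ([3,19], [19,12,11,10,8,7,5,0]), ([4,19], [19,9,4]), ([5,19], [19,10,5,3,0]), ([6,19],
   [19,11,10,9,8,6,4,3]), ([7,19], [19,10,3]), ([8,19], [19,9,8,7,6,2,1]), ([9,19], [19,10,3,1,0]), ([10,19],
   [19,9,8,4,2]), ([11,19], [19,12,8,5,0]), ([12,19], [19,12,7,1,0]), ([0,20], [20,0]), ([1,20], [20,12,9,7,6,
  0]), ([2,20], [20,12,11,10,8,7,6,3,0]), ([3,20], [20,8,5,3]), ([4,20], [20,12,9,7,6,4,1,0]), ([5,20], [20,11,
  10,9,3,2,1]), ([6,20], [20,10,9,8,7,4,0]), ([7,20], [20,12,10,7,5,4,1,0]), ([8,20], [20,11,10,9,8,5,3,2,1]),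
   ([9,20], [20,12,8,7,6,5,1]), ([10,20], [20,12,11,7,6,5,3,2]), ([11,20], [20,10,9,8,3,2,1]), ([12,20], [20,9,
  7,6,1,0]), ([0,21], [21,0]), ([1,21], [21,12,10,7,6,3,0]), ([2,21], [21,12,10,8,3]), ([3,21], [21,8,5]), ([4,
  21], [21,10,8,6,5,2,1]), ([5,21], [21,12,10,8,5,3,2]), ([6,21], [21,10,8,7,6,4,3]), ([7,21], [21,12,7,6,5,4,3,
  1]), ([8,21], [21,12,10,8,5,2]), ([9,21], [21,9,7,6,5,3,2,1,0]), ([10,21], [21,10]), ([11,21], [21,11,8,7,6,2,
  1]), ([12,21], [21,12]), ([0,22], [22,0]), ([1,22], [22,5,1,0]), ([2,22], [22,12,11,9,7,5,4,3,2,0]), ([3,22],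
   [22,12,7,1,0]), ([4,22], [22,11,9,1,0]), ([5,22], [22,5]), ([6,22], [22,12,11,6,2,1]), ([7,22], [22,9]), ([8,
  22], [22,12,10,4,1,0]), ([9,22], [22,7]), ([10,22], [22,11,8,3,1,0]), ([11,22], [22,7,5,4,1]), ([12,22], [22,
  9,5,3,1]), ([13,14], [14,13,12,11,10,7,6,5,2,1,0]), ([13,15], [15,13,12,11,2,0]), ([13,16], [16,13,11,10,7,6,
  4,3,1,0]), ([13,17], [17,13,12,11,10,8]), ([13,18], [18,13,11,10,8,6,4,3,0]), ([13,19], [19,13,8,4,3,1]),
   ([13,20], [20,13,10,9,7,6,5,4,0]), ([13,21], [21,13,12,6,5,4,3,1]), ([13,22], [22,13,13,12,10,7,1]), ([14,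
  15], []), ([15,14], []), ([16,17], []), ([17,16], []), ([14,14,14], []), ([14,16,16,14,17], [13,13,12,11,9,7,
  6,5,2,0]), ([18,19], []), ([19,18], []), ([14,18,18,17], [13,12,9,8,7,5,4,3,1]), ([14,16,18,15,19], [13,13,12,
  9,8,7,6,5,4,3,1,0]), ([20,20], []), ([16,16,20,17,17,20], [11,10,9,5,3,2,1]), ([16,20,16,20,16,20], [10,5,4,3,
  2,0]), ([16,18,20,19,20,18,17,20,18,16,20], [13,12,11,9,8,3,1]), ([14,20,19,17,20,19,20,17,18,20,14,20,19,20],
   [13,12,10,7,4,3,2,1]), ([21,21], []), ([14,21,14,21,15,21,15,21], [12,6,5,4,3,1]), ([14,16,20,19,21,15,17,21,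
  18,20], [5,2,1]), ([20,21,20,21,20,21], []), ([14,17,19,20,17,14,21,15,19,20,21], [11,10,8,7]), ([14,17,21,19,
  16,20,18,21,14,20,17], [13,13,12,9,7,6,2,0]), ([14,21,18,20,17,21,18,20,17,21,18,20], [13,11,10,9,6,3,2,0]),
   ([0,0], []), ([1,0], [0,1]), ([1,1], []), ([2,0], [0,2]), ([2,2], []), ([2,1], [1,2,0]), ([3,0], [0,3]), ([3,
  3], []), ([3,1], [1,3]), ([3,2], [2,3]), ([4,0], [0,4]), ([4,4], []), ([4,1], [1,4]), ([4,2], [2,4]), ([4,3],
   [3,4,0]), ([5,0], [0,5]), ([5,5], []), ([5,1], [1,5]), ([5,2], [2,5]), ([5,3], [3,5]), ([5,4], [4,5]), ([6,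
  0], [0,6]), ([6,6], []), ([6,1], [1,6]), ([6,2], [2,6]), ([6,3], [3,6]), ([6,4], [4,6]), ([6,5], [5,6,0]),
   ([7,0], [0,7]), ([7,7], []), ([7,1], [1,7]), ([7,2], [2,7]), ([7,3], [3,7]), ([7,4], [4,7]), ([7,5], [5,7]),
   ([7,6], [6,7]), ([8,0], [0,8]), ([8,8], []), ([8,1], [1,8]), ([8,2], [2,8]), ([8,3], [3,8]), ([8,4], [4,8]),
   ([8,5], [5,8]), ([8,6], [6,8]), ([8,7], [7,8,0]), ([9,0], [0,9]), ([9,9], []), ([9,1], [1,9]), ([9,2], [2,
  9]), ([9,3], [3,9]), ([9,4], [4,9]), ([9,5], [5,9]), ([9,6], [6,9]), ([9,7], [7,9]), ([9,8], [8,9]), ([10,0],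
   [0,10]), ([10,10], []), ([10,1], [1,10]), ([10,2], [2,10]), ([10,3], [3,10]), ([10,4], [4,10]), ([10,5], [5,
  10]), ([10,6], [6,10]), ([10,7], [7,10]), ([10,8], [8,10]), ([10,9], [9,10,0]), ([11,0], [0,11]), ([11,11],
   []), ([11,1], [1,11]), ([11,2], [2,11]), ([11,3], [3,11]), ([11,4], [4,11]), ([11,5], [5,11]), ([11,6], [6,
  11]), ([11,7], [7,11]), ([11,8], [8,11]), ([11,9], [9,11]), ([11,10], [10,11]), ([12,0], [0,12]), ([12,12],
   []), ([12,1], [1,12]), ([12,2], [2,12]), ([12,3], [3,12]), ([12,4], [4,12]), ([12,5], [5,12]), ([12,6], [6,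
  12]), ([12,7], [7,12]), ([12,8], [8,12]), ([12,9], [9,12]), ([12,10], [10,12]), ([12,11], [11,12,0]), ([13,13,
  13], []), ([16,21,16,21,16,21,16,21,16,21,16,21,16,21], [0]), ([20,16,21,20,16,21,20,16,21,20,16,21], [13,13,
  11,9,8,4,2,1,0])]

def A : List ℕ := [4,5,6,7,68,69,70,71,212,213,214,215,324,325,326,327,468,469,470,471,1044,1045,1046,1047,3144,3145,3146,3147,
  4232,4233,4234,4235,8584,8585,8586,8587,8904,8905,8906,8907,9696,9697,9698,9699,12044,12045,12046,12047,12092,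
  12093,12094,12095,13216,13217,13218,13219,15712,15713,15714,15715,25888,25889,25890,25891,26656,26657,26658,
  26659,92628,92629,92630,92631,92756,92757,92758,92759,96156,96157,96158,96159,97948,97949,97950,97951,98012,
  98013,98014,98015,105300,105301,105302,105303,109588,109589,109590,109591,109716,109717,109718,109719,114332,
  114333,114334,114335,114588,114589,114590,114591,121308,121309,121310,121311,121684,121685,121686,121687,
  121748,121749,121750,121751,126356,126357,126358,126359,126468,126469,126470,126471,126788,126789,126790,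
  126791,157154,157155,157280,157281,157282,157283,157346,157347,157760,157761,157762,157763,157866,157867,
  158024,158025,158026,158027,158186,158187,159368,159369,159370,159371,159588,159589,159590,159591,162180,
  162181,162532,162533,163076,163077,163630,163631,163638,163639,166520,166521,166522,166523,167342,167343,
  167350,167351,167492,167493,172456,172457,172458,172459,172464,172465,172466,172467,174256,174257,174800,
  174801,175260,175261,175262,175263,176752,176753,184144,184145,217290,217291,217326,217327,217354,217355,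
  218730,218731,218794,218795,219086,219087,220842,220843,222186,222187,222410,222411,222506,222507,224876,
  224877,225742,225743,225770,225771,225806,225807,226826,226827,227018,227019,227082,227083,227234,227235,
  227278,227279,227402,227403,227470,227471,227498,227499,228170,228171,229226,229227,230794,230795,231850,
  231851,231946,231947,232680,232681,234850,234851,235822,235823,235938,235939,235948,235949,236778,236779,
  236906,236907,237474,237475,237578,237579,238090,238091,238210,238211,238890,238891,240300,240301,240584,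
  240585,249322,249323,249544,249545,249826,249827,249954,249955,249964,249965,250602,250603,250860,250861,
  262862,262863,264502,264503,266806,266807,268110,268111,268118,268119,268718,268719,268726,268727,268766,
  268767,269038,269039,269046,269047,269486,269487,269590,269591,269814,269815,269982,269983,270650,270651,
  270838,270839,271310,271311,271318,271319,271426,271427,271450,271451,271518,271519,271566,271567,271574,
  271575,271646,271647,271754,271755,271762,271763,271822,271823,271962,271963,272022,272023,272074,272075,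
  272082,272083,272142,272143,272497,272529,272912,272913,272997,273093,273386,273387,273536,273537,273614,
  273615,273940,273941,274076,274077,274398,274399,275236,275237,275972,275973,275974,275975,276270,276271,
  277262,277263,277462,277463,277466,277467,278742,278743,279256,279318,279319,279322,279323,279544,280472,
  280473,280474,280475,280643,280655,280755,280767,280998,280999,281800,281801,281802,281803,283180,283181,
  283182,283183,298831,298838,298865,298874,298877,298939,298950,298954,298963,298975,298977,298999,299003,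
  299018,299027,299065,299450,299451,299661,299674,299675,300961,301017,301638,301639,301910,301911,302038,
  302039,302046,302178,302179,302198,302430,302431,302640,302641,302642,302643,302914,302915,302922,302924,
  303009,303015,303335,303367,305265,305280,305281,305282,305283,305284,305285,305288,305289,305341,305425,
  305774,305775,305865,305894,305895,305998,306009,306021,306096,306097,306170,306171,306184,306185,306298,
  306299,306366,306398,306446,306474,306507,306535,306723,306743,306876,306878,306912,306913]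

noncomputable def a (j : ℕ) : G₀ := Spor.ev y (nthL [] ks j)

theorem eq {u v : List ℕ} (h : Fi24X.cf.eqP (flat ks u) (flat ks v) = true) : Spor.ev a u = Spor.ev a v :=
  (ev_flat y ks u).symm.trans ((M.eq h).trans (ev_flat y ks v))

theorem ne {u v : List ℕ} (p : ℕ) (h : band (Nat.blt p Fi24X.cf.N)
    (not (Nat.beq (evP Fi24X.cf.act u p) (evP Fi24X.cf.act v p))) = true) : Spor.ev y u ≠ Spor.ev y v := fun e => by
  simp only [band_eq, Bool.and_eq_true, nblt, Bool.not_eq_true', nbeq_false] at h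
  exact h.2 (by rw [← M.app u h.1, ← M.app v h.1, e])

theorem hE0 : allL (E.take 130) (fun e => Fi24X.cf.eqP (flat ks e.1) (flat ks e.2)) = true := by decide +kernel

theorem hE1 : allL (E.drop 130) (fun e => Fi24X.cf.eqP (flat ks e.1) (flat ks e.2)) = true := by decide +kernel

theorem hE : Eqs a E := fun e he => eq ((List.mem_append.1 (List.take_append_drop 130 E ▸ he)).elim
  (allL_iff.1 hE0 e) (allL_iff.1 hE1 e))

theorem hA : FixIn Spor.Fi24M.φ Fi24X.cf.N (Spor.ev y [11,9,7,5]) A := M.fixIn (by decide +kernel)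

theorem mem (j : ℕ) : y j ∈ F24.D24 := M.Tpt j ▸ M.mem (M.pt_lt j)

theorem cl : CL F24.D24 [y 5, y 7, y 9, y 11] := by
  have h : ∀ i ∈ [5,7,9,11], ∀ j ∈ [5,7,9,11], Fi24X.cf.eqP [i, j] [j, i] = true := by decide +kernel
  have n : ∀ i ∈ [5,7,9,11], ∀ j ∈ [5,7,9,11], y i = y j → i = j := fun i hi j hj e =>
    (by decide +kernel : ∀ i ∈ [5,7,9,11], ∀ j ∈ [5,7,9,11], Fi24X.cf.pt i = Fi24X.cf.pt j → i = j) i hi j hj
      (M.inj _ (M.pt_lt i) _ (M.pt_lt j) e)
  exact ⟨List.Nodup.map_on (l := [5,7,9,11]) n (by decide), List.forall_mem_map (l := [5,7,9,11]).2 fun j _ => mem j,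
    List.forall_mem_map (l := [5,7,9,11]).2 fun i hi => List.forall_mem_map (l := [5,7,9,11]).2 fun j hj => by
      simpa [Commute, SemiconjBy] using (M.eq (h i hi j hj)).symm⟩

theorem simple : IsSimpleGroup U43P.G :=
  let ⟨e⟩ := U43T.equiv (F := F9) (by decide)
  have := S0283.result (F := F9) (q := 3) (by decide) 4 (by decide) (by decide)
  e.symm.isSimpleGroup

theorem p67 : P67 U43P.G ↥(commutator G₀ ⊓ centralizer {[y 5, y 7, y 9, y 11].prod}) := by
  classical
  have := M.finite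
  have := U43T.fin
  have := simple
  have e0 : [y 5, y 7, y 9, y 11].prod = a 0 := by simp [a, ks, nthL_eq, mul_assoc]
  have b := card_c4 F24.b cl (n := 504) ((Set.ncard_le_ncard (t := (A.map F24.T).toFinset) (by
    rintro x ⟨h1, h2⟩
    obtain ⟨p, hp, rfl⟩ := M.exists_T h1
    exact List.mem_toFinset.2 (List.mem_map_of_mem (hA p hp ((M.fix_iff _ hp).2 (e0 ▸ h2).symm.eq))))).trans
      (Set.ncard_coe_finset _ ▸ (List.toFinset_card_le _).trans (by rw [List.length_map]; decide +kernel)))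
  obtain ⟨ε, e2, e3⟩ := F24.b.eps
  have ev : ∀ w : List ℕ, ε (Spor.ev y w) = (-1) ^ w.length := fun w => by
    induction w with
    | nil => simp
    | cons x w ih => rw [Spor.ev_cons, map_mul, ih, e3 _ (mem x), List.length_cons, pow_succ]
  have hle : Spor.genL a (13 :: 0 :: [1,2,3,4,5,6,7,8,9,10,11,12] ++ [14,15,16,17,18,19,20,21] ++ [22]) ≤
      commutator G₀ ⊓ centralizer {[y 5, y 7, y 9, y 11].prod} := Spor.genL_le fun j hj => ⟨by
    rw [e2]
    exact (ev _).trans (Even.neg_one_pow (by revert j; decide +kernel)), mem_centralizer_singleton_iff.2 (by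
      rw [e0]
      rcases (by revert j; decide +kernel : j = 0 ∨ E.contains ([0, j], [j, 0]) ∨ E.contains ([j, 0], [0, j])) with k | k | k
      · rw [k]
      · simpa using hE.eq _ _ k
      · simpa using (hE.eq _ _ k).symm)⟩
  obtain ⟨h1, h2⟩ := p67_of (hE.sub le_rfl) U43P.lifts (subG_top rfl) (q := 1) (v := [20]) (w := [16,21])
    ((card_le_of_le hle).trans (b.trans (by rw [U43P.card]; decide))) rfl (by decide +kernel)
    (subG_ne (Spor.mem_genL _ (by decide)) (ne (v := []) 306914 (by decide +kernel))) (by decide) fun c => by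
      have := congrArg Subtype.val c.eq
      rw [coe_mul, coe_mul, Spor.coe_subG (Spor.mem_genL _ (by decide)), Spor.coe_subG (Spor.mem_genL _ (by decide))] at this
      exact ne (u := flat ks [1,13]) (v := flat ks [13,1]) 306915 (by decide +kernel) (by
        rw [ev_flat, ev_flat, Spor.ev_two, Spor.ev_two]; exact this)
  exact h1.congr (MulEquiv.subgroupCongr (eq_of_le_of_card_ge hle (b.trans (by rw [h2, U43P.card]; decide))).symm)

end F24C

end Cfsg.Agent.Small
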