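import Cfsg.Agent.LES.Core
import Cfsg.Agent.Loc.TT
import Cfsg.Agent.Invol.Transfer

/-! Transfer from `C(z)` when `O₂(C(z))` is a self-centralizing extraspecial group (F. Smith): sign cocycles `Coc`,
orbit products `V c (O D q)`, the index-two step `Coc.step`, and the criteria `key`, `keyE` for a 2-subgroup of `C(z)`
to lie in a subgroup of index 2; `nonab`, `inner`. -/

set_option autoImplicit false
set_option linter.unusedSectionVars false

namespace Cfsg.Agent.Small.Xs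

open Subgroup Cfsg.Agent.BG Cfsg.Agent.LES Finset MulAction
open scoped _root_.Classical

variable {G Y : Type*} [Group G] [Finite G] [MulAction G Y] [Fintype Y] {c : G → Y → ℤˣ}
  {D D₁ E M N W K : Subgroup G} {q : Y} {x y w z s : G}

def Coc (c : G → Y → ℤˣ) : Prop := ∀ x y p, c (x * y) p = c x (y • p) * c y p
noncomputable def V (c : G → Y → ℤˣ) (S : Finset Y) (x : G) : ℤˣ := ∏ p ∈ S, c x p
noncomputable def O (D : Subgroup G) (q : Y) : Finset Y := univ.filter fun p => ∃ d ∈ D, d • q = p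

theorem mem_O {p : Y} : p ∈ O D q ↔ ∃ d ∈ D, d • q = p := by simp [O]

theorem Coc.one (h : Coc c) (S : Finset Y) : V c S 1 = 1 := prod_eq_one fun p _ => by
  have := h 1 1 p
  rwa [mul_one, one_smul, left_eq_mul] at this

theorem Coc.mul' (h : Coc c) (S : Finset Y) (x y : G) : V c S (x * y) = V c (S.image (y • ·)) x * V c S y := by
  rw [V, V, V, prod_image (MulAction.injective y).injOn, ← prod_mul_distrib]
  exact prod_congr rfl fun p _ => h x y p

theorem O_img (hy : y ∈ D) : (O D q).image (y • ·) = O D q :=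
  eq_of_subset_of_card_le (fun p hp => by
    obtain ⟨_, h, rfl⟩ := mem_image.1 hp
    obtain ⟨d, hd, rfl⟩ := mem_O.1 h
    exact mem_O.2 ⟨y * d, mul_mem hy hd, mul_smul _ _ _⟩) (card_image_of_injective _ (MulAction.injective y)).ge

theorem Coc.mul (h : Coc c) (x : G) (hy : y ∈ D) : V c (O D q) (x * y) = V c (O D q) x * V c (O D q) y := by
  rw [h.mul', O_img hy]

theorem Coc.univ (h : Coc c) (x y : G) : V c univ (x * y) = V c univ x * V c univ y := by
  rw [h.mul', image_univ_of_surjective (MulAction.surjective y)]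

theorem two_cases (hi : D₁.relIndex D = 2) (hw : w ∈ D) (hw' : w ∉ D₁) (hy : y ∈ D) : y ∈ D₁ ∨ w⁻¹ * y ∈ D₁ := by
  rw [Invol.mul_mem_iff_of_relIndex_two hi (inv_mem hw) hy, inv_mem_iff]; tauto

theorem exists_two (hD : IsPGroup 2 D) (h : ¬ D ≤ N) : ∃ D₁ ≤ D, D ⊓ N ≤ D₁ ∧ D₁.relIndex D = 2 :=
  let ⟨M, a, b⟩ := maxSub_exists (inf_lt_left.2 h)
  ⟨M, b.1.le, a, p_maximal_index hD b⟩

theorem exists_out (hi : D₁.relIndex D = 2) : ∃ w ∈ D, w ∉ D₁ :=
  SetLike.not_le_iff_exists.1 fun h => by rw [relIndex_eq_one.2 h] at hi; omega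

theorem Coc.step (h : Coc c) (hle : D₁ ≤ D) (hi : D₁.relIndex D = 2) (hs : D ⊓ stabilizer G q ≤ D₁) (hw : w ∈ D)
    (hw' : w ∉ D₁) : (∀ y ∈ D₁, V c (O D q) y = V c (O D₁ q) (y⁻¹ * (w⁻¹ * y * w))) ∧
      V c (O D q) w = V c (O D₁ q) (w * w) := by
  have e : O D q = O D₁ q ∪ (O D₁ q).image (w • ·) := by
    ext p
    simp only [mem_union, mem_image, mem_O]
    constructor
    · rintro ⟨d, hd, rfl⟩
      rcases two_cases hi hw hw' hd with h | h
      exacts [.inl ⟨d, h, rfl⟩, .inr ⟨_, ⟨_, h, rfl⟩, by rw [← mul_smul, mul_inv_cancel_left]⟩]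
    · rintro (⟨d, hd, rfl⟩ | ⟨_, ⟨d, hd, rfl⟩, rfl⟩)
      exacts [⟨d, hle hd, rfl⟩, ⟨w * d, mul_mem hw (hle hd), mul_smul _ _ _⟩]
  have dj : Disjoint (O D₁ q) ((O D₁ q).image (w • ·)) := disjoint_left.2 fun p h1 h2 => by
    obtain ⟨_, h3, rfl⟩ := mem_image.1 h2
    obtain ⟨d, hd, rfl⟩ := mem_O.1 h3
    obtain ⟨d', hd', e⟩ := mem_O.1 h1
    have : d'⁻¹ * (w * d) ∈ D₁ := hs (mem_inf.2 ⟨mul_mem (inv_mem (hle hd')) (mul_mem hw (hle hd)), by
      rw [mem_stabilizer_iff, mul_smul, mul_smul, ← e, inv_smul_smul]⟩)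
    exact hw' ((mul_mem_cancel_right hd).1 ((mul_mem_cancel_left (inv_mem hd')).1 this))
  have sp : ∀ x, V c (O D q) x = V c (O D₁ q) x * V c ((O D₁ q).image (w • ·)) x := fun x => by
    rw [e]; exact prod_union dj
  refine ⟨fun y hy => ?_, by rw [sp, h.mul', mul_comm]⟩
  have hy' : w⁻¹ * y * w ∈ D₁ := by
    rw [Invol.mul_mem_iff_of_relIndex_two hi (mul_mem (inv_mem hw) (hle hy)) hw,
      Invol.mul_mem_iff_of_relIndex_two hi (inv_mem hw) (hle hy), inv_mem_iff]; tauto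
  have h1 := h.mul' (O D₁ q) y w
  rw [show y * w = w * (w⁻¹ * y * w) by group, h.mul _ hy', mul_comm, mul_left_inj] at h1
  have h2 := h.mul (q := q) y⁻¹ hy
  rw [inv_mul_cancel, h.one] at h2
  rw [sp, h.mul _ hy', h1, eq_inv_of_mul_eq_one_left h2.symm, Int.units_inv_eq_self]

theorem Coc.step' (h : Coc c) (hle : D₁ ≤ D) (hi : D₁.relIndex D = 2) (hs : D ⊓ stabilizer G q ≤ D₁) (hw : w ∈ D)
    (hw' : w ∉ D₁) (h1 : ∀ y ∈ D₁, V c (O D₁ q) (y⁻¹ * (w⁻¹ * y * w)) = 1) (h2 : V c (O D₁ q) (w * w) = 1) :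
    ∀ y ∈ D, V c (O D q) y = 1 := fun y hy => by
  obtain ⟨a, b⟩ := h.step hle hi hs hw hw'
  rcases two_cases hi hw hw' hy with hy | hy
  · rw [a y hy, h1 y hy]
  · rw [← mul_inv_cancel_left w y, h.mul _ (hle hy), a _ hy, h1 _ hy, b, h2, mul_one]

theorem comm_mem (hi : D₁.relIndex D = 2) (hw : w ∈ D) (hy : y ∈ D) : y⁻¹ * (w⁻¹ * y * w) ∈ D₁ ∧ w * w ∈ D₁ := by
  rw [Invol.mul_mem_iff_of_relIndex_two hi (inv_mem hy) (mul_mem (mul_mem (inv_mem hw) hy) hw),
    Invol.mul_mem_iff_of_relIndex_two hi (mul_mem (inv_mem hw) hy) hw,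
    Invol.mul_mem_iff_of_relIndex_two hi (inv_mem hw) hy, inv_mem_iff, inv_mem_iff,
    Invol.mul_mem_iff_of_relIndex_two hi hw hw]; tauto

theorem Coc.up (h : Coc c) (h1 : ∀ y ∈ D, V c (O D q) y = 1) (W : Subgroup G) : IsPGroup 2 W → D ≤ W →
    W ⊓ stabilizer G q ≤ D → ∀ y ∈ W, V c (O W q) y = 1 := by
  induction W using WellFoundedLT.induction with | _ W ih =>
  intro hW hD hs
  by_cases e : W ≤ D
  · rwa [le_antisymm e hD]
  obtain ⟨D₁, a1, a2, a3⟩ := exists_two hW e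
  obtain ⟨w, hw, hw'⟩ := exists_out a3
  have a4 : D ≤ D₁ := (le_inf hD le_rfl).trans a2
  have := ih D₁ (lt_of_le_of_ne a1 fun e => hw' (e ▸ hw)) (hW.to_le a1) a4 ((inf_le_inf_right _ a1).trans hs)
  exact h.step' a1 a3 (hs.trans a4) hw hw' (fun y hy => this _ (comm_mem a3 hw (a1 hy)).1)
    (this _ (comm_mem a3 hw hw).2)

theorem total {q₀ : Y} (h0 : W ≤ stabilizer G q₀) (h : ∀ q ≠ q₀, V c (O W q) x = 1) : V c univ x = c x q₀ := by
  have fib : ∀ q : Y, (univ.filter fun p => O W p = O W q) = O W q := fun q => by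
    ext p
    simp only [mem_filter, mem_univ, true_and]
    refine ⟨fun e => e ▸ mem_O.2 ⟨1, one_mem _, one_smul _ _⟩, fun hp => ?_⟩
    obtain ⟨d, hd, rfl⟩ := mem_O.1 hp
    ext r
    simp only [mem_O]
    exact ⟨fun ⟨a, ha, e⟩ => ⟨a * d, mul_mem ha hd, by rw [mul_smul, e]⟩,
      fun ⟨a, ha, e⟩ => ⟨a * d⁻¹, mul_mem ha (inv_mem hd), by rw [mul_smul, inv_smul_smul, e]⟩⟩
  have e0 : O W q₀ = {q₀} := eq_singleton_iff_unique_mem.2 ⟨mem_O.2 ⟨1, one_mem _, one_smul _ _⟩, fun p hp => by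
    obtain ⟨d, hd, rfl⟩ := mem_O.1 hp; exact h0 hd⟩
  rw [V, ← prod_fiberwise_of_maps_to (g := O W) (t := univ.image (O W)) fun p hp => mem_image_of_mem _ hp,
    prod_eq_single_of_mem (O W q₀) (mem_image_of_mem _ (mem_univ _)), fib, e0, prod_singleton]
  intro B hB hne
  obtain ⟨q, -, rfl⟩ := mem_image.1 hB
  rw [fib]
  exact h q fun e => hne (e ▸ rfl)

theorem Coc.Vz (h : Coc c) (hE : ES E z) (hN : N ≤ E) (hz : z ∈ N) (hc : N ≤ stabilizer G q → c z q = 1) :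
    V c (O N q) z = 1 := by
  by_cases hs : N ≤ stabilizer G q
  · refine prod_eq_one fun p hp => ?_
    obtain ⟨d, hd, rfl⟩ := mem_O.1 hp
    rw [hs hd, hc hs]
  obtain ⟨N', a1, a2, a3⟩ := exists_two (hE.pg.to_le hN) hs
  by_cases hz' : z ∈ N'
  · obtain ⟨w, hw, hw'⟩ := exists_out a3
    rw [(h.step a1 a3 a2 hw hw').1 z hz', mul_assoc, ← (hE.zc w (hN hw)).eq, inv_mul_cancel_left, inv_mul_cancel,
      h.one]
  · rw [(h.step a1 a3 a2 hz hz').2, hE.zz, h.one]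

theorem Coc.es (h : Coc c) (hE : ES E z) (hM : M ≤ E) (hs : ¬ M ≤ stabilizer G q)
    (hc : ∀ N ≤ M, N.relIndex M = 2 → N ≤ stabilizer G q → z ∈ N → c z q = 1) : ∀ y ∈ M, V c (O M q) y = 1 := by
  obtain ⟨N, a1, a2, a3⟩ := exists_two (hE.pg.to_le hM) hs
  obtain ⟨w, hw, hw'⟩ := exists_out a3
  have k : ∀ u ∈ N, u = 1 ∨ u = z → V c (O N q) u = 1 := by
    rintro u hu (rfl | rfl)
    exacts [h.one _, h.Vz hE (a1.trans hM) hu fun hs => hc N a1 a3 hs hu]
  refine h.step' a1 a3 a2 hw hw' (fun y hy => k _ (comm_mem a3 hw (a1 hy)).1 ?_)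
    (k _ (comm_mem a3 hw hw).2 (hE.sq w (hM hw)))
  have := hE.comm w⁻¹ (inv_mem (hM hw)) y (hM (a1 hy))
  rw [inv_inv] at this
  rcases this with e | e <;> simp [e]

theorem Coc.over (h : Coc c) (hW : IsPGroup 2 W) (hE : E ≤ W) (hn : W ≤ N[E]) (hs : ¬ E ≤ stabilizer G q)
    (hc : ∀ M ≤ E, M.relIndex E = 2 → E ⊓ stabilizer G q ≤ M → ∀ y ∈ M, V c (O M q) y = 1) :
    ∀ y ∈ W, V c (O W q) y = 1 := by
  have hD : E ⊔ W ⊓ stabilizer G q ≤ W := sup_le hE inf_le_left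
  refine h.up ?_ W hW hD le_sup_right
  obtain ⟨D₁, a1, a2, a3⟩ := exists_two (hW.to_le hD) fun e => hs (le_sup_left.trans e)
  have a4 : W ⊓ stabilizer G q ≤ D₁ := (le_inf le_sup_right inf_le_right).trans a2
  obtain ⟨w, hw, hw'⟩ := SetLike.not_le_iff_exists.1 fun e : E ≤ D₁ => by
    rw [relIndex_eq_one.2 (sup_le e a4)] at a3; omega
  have hi : (D₁ ⊓ E).relIndex E = 2 := by
    have := relIndex_le_of_le_right (H := D₁) (le_sup_left : E ≤ E ⊔ W ⊓ stabilizer G q) (relIndex_pos _ _).ne'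
    have h1 : D₁.relIndex E ≠ 1 := fun e => hw' (relIndex_eq_one.1 e hw)
    have := relIndex_pos D₁ E
    rw [inf_relIndex_right]; omega
  have e : O D₁ q = O (D₁ ⊓ E) q := by
    ext p
    simp only [mem_O]
    refine ⟨?_, fun ⟨d, hd, e⟩ => ⟨d, hd.1, e⟩⟩
    rintro ⟨d, hd, rfl⟩
    obtain ⟨a, ha, b, hb, rfl⟩ := (mem_sup_norml (inf_le_left.trans hn)).1 (a1 hd)
    exact ⟨a, ⟨(mul_mem_cancel_right (a4 hb)).1 hd, ha⟩, by rw [mul_smul, hb.2]⟩
  have k := hc _ inf_le_right hi (le_inf ((inf_le_inf_right _ hE).trans a4) inf_le_left)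
  have hwD := mem_sup_left (T := W ⊓ stabilizer G q) hw
  refine h.step' a1 a3 a2 hwD hw' (fun y hy => e ▸ k _ (mem_inf.2 ⟨(comm_mem a3 hwD (a1 hy)).1, ?_⟩))
    (e ▸ k _ ⟨(comm_mem a3 hwD hwD).2, mul_mem hw hw⟩)
  simpa only [mul_assoc] using mul_mem (conj_mem_of_norm' (hn (hD (a1 hy))) (inv_mem hw)) hw

theorem setup (h : LE E z) (hres : pResidual 2 G = ⊤) (hK : K.relIndex C1[z] = 2) (hE : E ≤ W) (hW : W ≤ C1[z])
    (hc : ∀ [Fintype (G ⧸ C1[z])] (c : G → G ⧸ C1[z] → ℤˣ), Coc c → ∀ (q : G ⧸ C1[z]) (g : G),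
      stabilizer G q = C1[g * z * g⁻¹] → (∀ a ∈ stabilizer G q, g⁻¹ * a * g ∈ K → c a q = 1) →
      ¬ E ≤ stabilizer G q → ∀ y ∈ W, V c (O W q) y = 1) : W ≤ K := fun x hx => by
  haveI := Fintype.ofFinite (G ⧸ C1[z])
  let c : G → G ⧸ C1[z] → ℤˣ := fun x q => if (x • q).out⁻¹ * x * q.out ∈ K then 1 else -1
  have hC : Coc c := fun x y p => by
    have := Invol.mul_mem_iff_of_relIndex_two hK (Loc.out_cocycle_mem _ x (y • p)) (Loc.out_cocycle_mem _ y p)
    simp only [c, mul_smul]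
    rw [show (x • y • p).out⁻¹ * (x * y) * p.out =
      (x • y • p).out⁻¹ * x * (y • p).out * ((y • p).out⁻¹ * y * p.out) by group]
    simp only [this]
    split_ifs <;> simp_all
  have st : ∀ q : G ⧸ C1[z], stabilizer G q = C1[q.out * z * q.out⁻¹] := fun q => by
    ext a
    conv_lhs => rw [mem_stabilizer_iff, ← q.out_eq', MulAction.Quotient.smul_mk, eq_comm, QuotientGroup.eq]
    rw [C1_conj, mem_cj, smul_eq_mul, mul_assoc]
  have h1 : V c univ x = 1 := by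
    let f : G →* ℤˣ := MonoidHom.mk' (V c univ) hC.univ
    have : pResidual 2 G ≤ f.ker := (closure_le _).2 fun g hg => orderOf_eq_one_iff.1
      (Nat.eq_one_of_dvd_coprimes hg (orderOf_map_dvd f g) (orderOf_dvd_of_pow_eq_one (Int.units_sq _)))
    exact this (hres ▸ mem_top x)
  have o1 : ((1 : G) : G ⧸ C1[z]).out ∈ C1[z] := by
    simpa using QuotientGroup.eq.1 ((1 : G) : G ⧸ C1[z]).out_eq'.symm
  have s0 : W ≤ stabilizer G ((1 : G) : G ⧸ C1[z]) := by
    rw [st, mul_inv_eq_iff_eq_mul.2 (mem_cent1.1 o1)]; exact hW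
  rw [total s0 fun q hq => hc c hC q q.out (st q) (fun a ha hk => by simp only [c]; rw [ha, if_pos hk])
    (fun e => hq ?_) x hx] at h1
  · simp only [c] at h1
    rw [s0 hx] at h1
    split_ifs at h1 with h2
    · rw [Invol.mul_mem_iff_of_relIndex_two hK (mul_mem (inv_mem o1) (hW hx)) o1,
        Invol.mul_mem_iff_of_relIndex_two hK (inv_mem o1) (hW hx), inv_mem_iff] at h2
      tauto
    · exact absurd h1 (by decide)
  · rw [st] at e
    rcases h.cQ _ fun y hy => (mem_cent1.1 (e hy)).symm with e | e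
    · exact absurd (by simpa using e) h.z1
    · rw [← q.out_eq', eq_comm, QuotientGroup.eq, inv_one, one_mul]
      exact mem_cent1.2 (mul_inv_eq_iff_eq_mul.1 e)

theorem keyE (h : LE E z) (hres : pResidual 2 G = ⊤) (hK : K.relIndex C1[z] = 2)
    (hc : ∀ g, ∀ N ≤ E, N.relIndex E = 2 → N ≤ C1[g * z * g⁻¹] → z ∈ N → g⁻¹ * z * g ∈ K) : E ≤ K :=
  setup h hres hK le_rfl (fun y hy => mem_cent1.2 (h.zc y hy)) fun _ hC _ g e k hs =>
    hC.es h.toES le_rfl hs fun N a b c d => k z (c d) (hc g N a b (e ▸ c) d)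

theorem key (h : LE E z) (hres : pResidual 2 G = ⊤) (hK : K.relIndex C1[z] = 2)
    (hc : ∀ g, g * z * g⁻¹ ≠ z → ∀ M ≤ E, M.relIndex E = 2 → (M ≤ C1[g * z * g⁻¹] → ∀ a ∈ M, g⁻¹ * a * g ∈ K) ∧
      ∀ N ≤ M, N.relIndex M = 2 → N ≤ C1[g * z * g⁻¹] → z ∈ N → g⁻¹ * z * g ∈ K) : False := by
  have hE : E ≤ C1[z] := fun y hy => mem_cent1.2 (h.zc y hy)
  obtain ⟨W, hW, hEW⟩ := Sylow_superset hE h.pg
  have := setup h hres hK hEW hW.le fun c hC q g e k hs => hC.over hW.pg hEW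
    (fun x hx => h.nQ x (mem_cent1.1 (hW.le hx))) hs fun M a b _ => by
      obtain ⟨h1, h2⟩ := hc g (fun e' => hs (by rw [e, e']; exact hE)) M a b
      by_cases hM : M ≤ stabilizer G q
      · refine fun y hy => prod_eq_one fun p hp => ?_
        obtain ⟨d, hd, rfl⟩ := mem_O.1 hp
        rw [hM hd, k y (hM hy) (h1 (e ▸ hM) y hy)]
      · exact hC.es h.toES a hM fun N a b c d => k z (c d) (h2 N a b (e ▸ c) d)
  exact hW.not_dvd (hK ▸ relIndex_dvd_of_le_left _ this)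

theorem nonab (h : ES E z) (hN : N ≤ E) (hz : z ∈ N) (hc : 2 * #E < #N * #N) :
    ∃ a ∈ N, ∃ b ∈ N, b⁻¹ * (a⁻¹ * b * a) = z := by
  by_contra hn
  push Not at hn
  have : N ≤ E ⊓ C[N] := fun a ha => ⟨hN ha, fun b hb => by
    have := h.comm a⁻¹ (inv_mem (hN ha)) b (hN hb)
    rw [inv_inv] at this
    rcases this with e | e
    · rw [← mul_inv_cancel_left a (b * a), ← mul_assoc a⁻¹, e]
    · exact absurd (by rw [e, inv_mul_cancel_left]) (hn a ha b hb)⟩
  have := Nat.mul_le_mul_left #N (card_le_card this)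
  rw [h.card_cent hN hz] at this; omega

theorem z_mem (h : ES E z) (hi : M.relIndex E = 2) : z ∈ M := by
  obtain ⟨x, hx, y, hy, hn⟩ := h.nab
  have := (comm_mem hi (inv_mem hx) hy).1
  rwa [inv_inv, h.conj_of_not hx hy hn, inv_mul_cancel_left] at this

theorem inner (h : LE E z) (hM : M ≤ E) (hi : M.relIndex E = 2) (hs : M ≤ C1[s]) (s2 : s * s = 1) : s ∈ E := by
  have hz := z_mem h.toES hi
  have sz : Commute s z := (mem_cent1.1 (hs hz)).symm
  obtain ⟨e, he, he'⟩ := exists_out hi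
  have all : ∀ x, (∀ a ∈ M, Commute x a) → Commute x e → x ∈ E := fun x h1 h2 => by
    rcases h.cQ x fun y hy => (two_cases hi he he' hy).elim (h1 y) fun k => by
      simpa using h2.mul_right (h1 _ k) with rfl | rfl
    exacts [one_mem _, h.zQ]
  have cs : ∀ a ∈ M, Commute s a := fun a ha => (mem_cent1.1 (hs ha)).symm
  obtain ⟨w, hw⟩ : ∃ w, s * e * s⁻¹ = e * w := ⟨e⁻¹ * (s * e * s⁻¹), by group⟩
  have hw1 : e * w ∈ E := hw ▸ h.conj_mem sz he
  have hwM : w ∈ M := (two_cases hi he he' hw1).elim (fun k => absurd (by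
    have := cs _ k
    rw [← hw] at this
    have e2 : s * e * s⁻¹ = e := by
      calc _ = s⁻¹ * (s * (s * e * s⁻¹)) := by group
        _ = s⁻¹ * (s * e * s⁻¹ * s) := by rw [this.eq]
        _ = e := by group
    rwa [← hw, e2] at k) he') (by simpa using ·)
  have w2 : w * w = 1 := by
    have : s * (s * e * s⁻¹) * s⁻¹ = e := by
      rw [show s * (s * e * s⁻¹) * s⁻¹ = s * s * e * (s * s)⁻¹ by group, s2]; simp
    rw [hw, show s * (e * w) * s⁻¹ = s * e * s⁻¹ * (s * w * s⁻¹) by group, hw, cj_eq_iff_comm.2 (cs w hwM),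
      mul_assoc, mul_eq_left] at this
    exact this
  have ce : ∀ u, u = 1 ∨ u = z → s * u * s⁻¹ = u := by
    rintro u (rfl | rfl)
    exacts [by simp, cj_eq_iff_comm.2 sz]
  have we : Commute w e := by
    have := ce _ (h.sq e he)
    rw [show s * (e * e) * s⁻¹ = s * e * s⁻¹ * (s * e * s⁻¹) by group, hw, mul_assoc, mul_right_inj] at this
    calc w * e = w * (e * w) * w := by rw [mul_assoc w, mul_assoc, w2, mul_one]
      _ = _ := by rw [this]
  have wa : ∀ a ∈ M, Commute w a := fun a ha => by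
    have h1 := h.comm e⁻¹ (inv_mem he) a (hM ha)
    have h2 : s * (e⁻¹ * a * e) * s⁻¹ = e⁻¹ * a * e := by
      rw [inv_inv] at h1
      rcases h1 with k | k <;> rw [k]
      exacts [cj_eq_iff_comm.2 (cs a ha), cj_eq_iff_comm.2 ((cs a ha).mul_right sz)]
    rw [show s * (e⁻¹ * a * e) * s⁻¹ = (s * e * s⁻¹)⁻¹ * (s * a * s⁻¹) * (s * e * s⁻¹) by group, hw,
      cj_eq_iff_comm.2 (cs a ha), ← we.eq] at h2
    have h3 : w⁻¹ * a * w = a := by
      calc _ = e * ((w * e)⁻¹ * a * (w * e)) * e⁻¹ := by group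
        _ = _ := by rw [h2]; group
    calc w * a = w * (w⁻¹ * a * w) := by rw [h3]
      _ = _ := by group
  rcases h.cQ w fun y hy => (two_cases hi he he' hy).elim (wa y) fun k => by
    simpa using we.mul_right (wa _ k) with rfl | rfl
  · exact all s cs (cj_eq_iff_comm.1 (by simpa using hw))
  have h4 := h.card_cent hM hz
  rw [← card_mul_relIndex hM, hi] at h4
  obtain ⟨v, hv, hv'⟩ : ∃ v ∈ E ⊓ C[M], v ∉ zpowers w := SetLike.not_le_iff_exists.1 fun k => by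
    have := card_le_card k
    rw [Nat.card_zpowers, h.z2] at this
    nlinarith [cardG_pos M]
  have va : ∀ a ∈ M, Commute v a := fun a ha => (hv.2 a ha).symm
  have ve : v * e * v⁻¹ = e * w := h.conj_of_not hv.1 he fun k => hv' ((mem_zp h.z2).2
    (h.cQ v fun y hy => (two_cases hi he he' hy).elim (va y) fun k' => by simpa using k.mul_right (va _ k')))
  have := all (v⁻¹ * s) (fun a ha => (va a ha).inv_left.mul_left (cs a ha)) (cj_eq_iff_comm.1 (by
    calc _ = v⁻¹ * (s * e * s⁻¹) * v := by group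
      _ = _ := by rw [hw, ← ve]; group))
  exact (mul_mem_cancel_left (inv_mem (mem_inf.1 hv).1)).1 this

end Cfsg.Agent.Small.Xs
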