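import Cfsg.Agent.Small.M23Ext
import Cfsg.Agent.Known.M23Eq
import Cfsg.Agent.FG.PermNat
import Mathlib.GroupTheory.SemidirectProduct

/-! A non-split extension of `M23` by the Golay cocode module, inside the wreath product `2 ≀ M23` of degree 253:
`M23NS.pres` (a presentation of `M23`), `M23NS.exists_ns`. -/

set_option autoImplicit false
set_option maxRecDepth 100000
set_option exponentiation.threshold 100000

namespace Cfsg.Agent.Small.M23NS

open Cfsg.Agent.Comp Cfsg.Agent.Known Cfsg.Agent.Golay Tl M23X Subgroup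
open Cfsg.Spor (M23)
open Cfsg.Agent.Spor (ev ev_cons genL genL_le)
open scoped Pointwise

theorem h0 : allL (c1 :: M23T.xs) in23 = true := by decide +kernel

/-- the generators -/
noncomputable def x : ℕ → M23 := lt M23T.xs h0

theorem ev_inv {G : Type*} [Group G] (z : ℕ → G) (w : List ℕ) : (ev (fun i => (z i)⁻¹) w)⁻¹ = W z w := by
  induction w with
  | nil => simp
  | cons a w ih => rw [ev_cons, mul_inv_rev, ih, inv_inv, W_cons]

theorem pres : genL x (List.range 9) = ⊤ ∧ ∀ (H : Type) [Group H] (z : ℕ → H), (∀ r ∈ M23P.rels, W z r = 1) →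
    ∃ ρ : M23 →* H, ∀ i < 9, ρ (x i) = z i := by
  have h : ∀ j < 9, ∀ i < 23, M23.subtype (x j) (EG.dec i) = EG.dec (M23T.act j i) := fun j hj i hi => by
    refine ((lt_rep _ h0 j).smul_dec (by omega)).trans (congrArg _ ?_)
    revert i
    revert j
    decide +kernel
  obtain ⟨e, he⟩ := M23T.mdl.equiv_of_card M23.subtype EG.dec x
    (fun i hi j hj => EG.dec_inj (by omega) (by omega)) h card_M23
  have e1 : ∀ j < 9, e (x j) = M23T.y j := fun j hj => M23T.mdl.ext fun i _ hi =>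
    EG.dec_inj (by have := M23T.mdl.lt (e (x j)) hi; omega) (by have := M23T.mdl.lt (M23T.y j) hi; omega)
      (by rw [← he _ i hi, h j hj i hi, M23T.mdl.apply j hi])
  refine ⟨map_injective (f := e.toMonoidHom) e.injective ?_, fun H _ z hz => ?_⟩
  · rw [map_genL, map_top_of_surjective _ e.surjective, ← M23T.mdl.top]
    exact genL_congr fun i hi => e1 i (List.mem_range.1 hi)
  · obtain ⟨ψ, hψ⟩ := M23P.lifts H (fun i => (z i)⁻¹) fun r hr => by rw [← inv_eq_one, ev_inv, hz r hr]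
    refine ⟨ψ.comp e.toMonoidHom, fun i hi => ?_⟩
    have : M23T.y i = (M23P.g i)⁻¹ := by
      rw [M23T.y, show nthL [0] M23T.wds i = [i] by revert i; decide]; simp
    rw [MonoidHom.comp_apply, MulEquiv.coe_toMonoidHom, e1 i hi, this, map_inv, hψ i hi, inv_inv]

/-- the code words of weight 16 vanishing at the extra point -/
def s : ℕ → ℕ := get 24 16777215 0x7ff38a7fe7157fdab47fce2b7fb5697fa1f67f9c577f7e4c7f6ad37f57727f43ed7f38af7efc997ed5a77eba7a7eaee57e87db7e715f7e4cfe7e37bc7df9337dedac7dbfd07dab4f7d96ee7d74f57d5dcb7d0fb77ce2bf7cdf1e7c99fd7c7be67c6f797bf2677be6f87bdb597bcfc67b9dba7b7fa17b6b3e7b569f7b2ddd7afd747ae9eb7abb977a1f6f79f8de79c57f79be3d7933fb78f7cd78def377e4cf77d96e77cdf177b6b3779f8d777d96773b75772fea76ff4376ebdc76d67d76ad3f765bbb75fae975ee7675d3d775772f74f5fa743edf73f1bd73b75e738aff737c7b72feae7267f771ef9b71bde7715ffc6ff43e6fc99f6fb2dd6f9be36f8f7c6f79f86f6d676f3f1b6efb2d6eefb26ebdce6e76eb6e5fd56dfe876dd7b96dacfb6d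67de6d5a7f6cb7776bf5d36bdced6ba7af6b3ef66aee5f6ad3fe69ff6a69ebf5687dbf67f7e467e37b67deda676ebd6715ff66f8f765fd5d65bbbe64cfef63df37637bcf62bff95ffce25fe87d5fd5dc5fae9e5f933f5f65bb5f37c75f1ef95ef3f15ee76e5edacf5e7e375df65b5ddf655dcbfa5d7b9d5d3d7e5cedd75cbfab5bfd0f5bbbec5baf735b59f75acfbd5ab4ff5a7fda59f7b6596eef57ff3857eba757b9db5772fe574f5f569ff6567ded55dcbf55a7fd53fed553d7eb50fb7f4ffb564fefc94fc6f74fbdb54f5fae4edd7b4e2bff4df1ef4cfefc4bfabb4b777d499fdf47be6f46f79f457ff33ff9c53fed5a3fd0fb3fbf263fabb93f5d3d3f267f3f1bde3ef6d63edfe83ecb773e6f8f3e3df33df37c3de7e33dcedd3db59f3d7eba3cfc6f3becb73bbecb3b97f53b75ee3af73b3a7afd39dbaf397f5738affe37fa1f37c7be37bcfc3777d9375ee736b3ef359f7b3569ff34ffb533fbf233ef6d32dddf2ffe712feaee2fd74f2f73b72ee5fd2e9ebf2dddf62d3fed2cfbdb2bff9c2bb97f2b4ffb27fdab27afd7267f7e1ff6ad1fdf931f8def1f7b6b1f6ff41ef9be1ebf5d1dbaf71c57ff1be3df17f5770fb7fa43edfe21f6ff1bde7e19fdf916eefb15ffce133fbf0f7cdf0def3f0affe707dbfd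

/-- the action on them -/
def act (a : ℕ) : ℕ → ℕ := get 8 255 (nthL 0 [0x9392d2d15b5c73e7e8a3a47107014c4d1d02111c6f70e6e5a25972d01b32104a49a6a7dcdd6bd6d59175121333427456d3a51e41557b7c99ca6afbfc3f40210d36f8f79a970b3d529ceb7f3722cb7ee90a5d8ac0bf6867af2728051929ae856689bd184e6286c32a17c1c204908fb7b54f0c60b42cb0b82e848354ce95539ff025243b3a9dedeecc810f3969f5f47935033c96f1dadb78ace045166caae3a147babb8b5fb10631502fb28db6c809c5777657d8d96dabdf1f44433415a8a9de51d7146ee2a0581a48cfe146cd94829eef23ec8038f3f20ec6c78887002663c42bad64bc5eb93098c97af9fa083ef6209b5a8e658cea7d4be4d461b32dbe,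
  0xc1c21213bbba0f706f2827697d2d76772bb308adf4f5e6e5055f393364463ed8d96768494a3cd6d504ccfaf9e134813175afc4155024254e1e969293a9a8009b1a5b5c18868e518d8902535887a59f1c6547603f40dadbcbf2f3e45e387e2e78b40db9c516b86a8030fcfbd4908f0b52095aaa9c2322979e84832f742ab2ae07c6c7146e664d4cd3cef6e2f1e7e83a4861d7c371a7a69d0a1b1f98038a5919abf7f80ce3374bcdc8827fb53d558c99edee06dddc355d32634443cfc9bfc010b66b7a797229b1bc6d42d0df5617548501881d95a0a3a4207c7b2cb0be0e45caece9e036a19a9462413bd1d2eade7326bd8bb7ac4f11f057a2916cebef21,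
  0x4c4dd2d1494ad0bfc02827bdf03aeeed3931b12fe8e7e6e53229afae3bceccbabb4344d9d8d7c6c726c4faf9f6b3df34de2b3ec942d5d641d3c3c2c1f4f535f1b2dcdd332a3cb64846cfbcea2de2e1ad1171106f70686766838481065f730772055d0f156d14637a0876776112136b6204797574696e647da3a41ca21b1918852524958b1d92938a899f9daba8a98798208e1f88a7a6a51786968d911ea01a9b5c5b01590a5350025457005156034efbfc36f7f8b52cb445dadbc8c5403fca3db7e0efec38304bbecdb9e4eb37e92eb047cbb8e3f3f2d47c7b0d0c166c6a607882805e7f7e652199978f90acaa9a0923220b580e949ea19c8c4f555a52,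
  0x6ba0121a8563181c15a36d042eb00b38ec4f30e94eade6513229afe10e9c606a9e01445bd8c1d65842c4905e7e9705881e72ca3f260ac641d3c359d79982218c7f071f7391b73d62a2141937efe2aee71764106fa86887a552f3b436fb33dc2bdf029ac027cf4a237b9377b8d2574c48bd0c8a74cda671f82800bf4656bcd0497c940d221d92767589b9cb8670a967f22cfcdd34a76e6611abf7b52ade4dd1555cd943c2d58f805d4013a4e51bebe85f8e06967d8d208145da5ad4c554c93eb63c092d39edb1a116699fe403ea2ff03a6c9d61e38498c825089579be47bacc78f550f9b2f6ac35f4b353fa65aa0fe07a8beec73b24bb4bcef1319bdb83,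
  0xf3f2403fc6c72a121376770c2eb94c4de26405828f90a7a61f004e55239c8a5c5b4344dcddb77c7b0e62bfc0eb7317882157a01d2dbabb4be3658384f4f53ec87825249b5a8e03beea3b06457aa18b5430b848e8e768677ffbfcc31575229e195802abbc29ef1142dfa3a44ffaf93c1661318dac9fe079f02827ad37cd5e6e07d9d8330d1a9293520a8699b0d2d15dca266b9401dadbb20869ce5f099835c995d5d634b56aaf71871c366d913ad453c2c12bf7f860147446e6e57e66a8a91e8c0b182c41de63ec109a56a247e42f7d0ff69d50aaeeedb6494ae180c43d8959a5e9bd72c5f18138cbae6f70b4d31b51cfb3d7b120328539966c0497d0cc,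
  0xa3a4908f494a2cbfc0fcfb188597282736d0b41ca9a8444330c4ec23879438d8d967687c7b0b5b5c4f10706f010d638000156d5ebdf7f81921a24d4cd1d2b51b99c6c7efabd72659110c660a71571482899a293f40e6e51d929332afca889e2bdfb934726002055d6a767751e7e8b78a3daede1fcd557307c1c2e91722a5422ed6d5b086bcf2f3a046cf1a5612137e52046b5864a7a641c3eb37d38c48627f6edddcb81e9ccb33e1ad4e750e2a91e2edeec52425aa3145b1dadb9539faf9be208eb350061681535f5a7a088bac2ff0c83a4bf69884836cbbbae09fcc09e43ec9540f789d3bce8da147f4f596352dd479f13c7461657db2ea03b69b69e3,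
  0x9392d2d1bbba8ba7a6dddcb298c9c7c6889beaaddbda908fb7e3a1b0cd94bef3f2e8e7a4a3b1d6d5918dfaf987bcace0b5b89eef9deeedae8596c2c1a9a8deb3cff8f79acbe48ccc89bdf1d7e197c5e9ce958ac0bff5f486d9d88ee2a099cac89cebb99ff0afc3abdffcfbd4e6e5a2d3b6f6aab4ecd0a5c48483540a5d694e627776576e557c7b52655a5e536867796d61586a7f706f507456637d6c605972805c5b735f6b7a64788271754f66517e25243b2827352a171f44431a2d403f2109374b3a19293c34483622301b322f1e412b2c47384a49204d4c1d333e26452e231c3142391846070106131208000c0e020f05813d1116140b04030d1510,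
  0xbfc02827dcdd334c4dd2d12a2eb0403fcaeb37b7c2c1e6e53241d3ae2cb4cbf7f84344d9d8adc6c726e2f3f2b9cd46cf2bdeec3842d5d629afc3e8e7fbfc36b8b5494ad0bde93dbcdf344830efc4e1d717861d9293a7a68a8f909c219918851ea21b9aa01a881f2394a8a98ca3a41c199122a5899787ab9e12136b055d6273077c7b0d0c106f7066747e606476776e5e0e82631468677511716a7f0472156d805c5b014e0a5255560b005751024f59f4f535babbb23bce45dadbc8e3eeed39b62f472d3ec9eabe4bb3f6e431b13cf03ae0ccf1c5faf9d42524958ba109969daa8e9b988d9fac065f69838465780f6c7a79545820087d16816103505a53,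
  0xd6f3daf94a3847f5d4fbd8393c3fcce4e1333ee63644e9cfed4542ecc9dc32cadfdbfad5f249fcd9f4464034cbe53543eed0dde02d2730c5c12eb4c4b8adba2bafb1beb0c029b628c2b331bbb9bc2cbf251a9697a81c23a5939e1e9f9ca1a320a0959a2224a9aa9b92a4941d90878d8e18091785888f86891608127d6f157e816a776978797b6d6b100e721370800d760f757c7a685e045f646005066365675d52585a0b5b02510154535c56504e4f37483af8d74cf6d3e3e7cde23dd2efea41f03b4bf1f74de8ced1ebdeb2c62fc3c8aebd26b7b5c72aac98a6991f9d21a291a71bab198c8a847f14718207746c736e0c59008b83116162660357550a] a)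

/-- the signs -/
def vb (a j : ℕ) : ZMod 2 := bif' (tb (nthL 0 [0x6736466f0e8c32043b114024010091806002000000000180000000000000000,
  0x600360100000000000000062da20c1c2214401415852194008013c8101,
  0x40a20a4f114d40c2c48a8a0000e48c012c25952121208216140016100000000,
  0x1a4f8386f307070c103de18f55252403c6a17d87da416160c440f4cc0f10a010,
  0xc96eb4ff13fb3d33318602e1e46bd58723e48045622039083bbdc8890c04f04,
  0xbc19113e75be0172300de110a992ccfcc9d8822d4529c543516c1aa7d537063,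
  0xc8d4bde3f54809cb6c9ad1f8fe754372d5a1c2eb7baa1f36175be63909bf75d,
  0x1f3f469418dfb073fbeea8ec7d716ef0dd3e63d54601738928d54ffcde15a106,
  0x2f470bb991c938c5e93dff39ffc163a7b8754648d9808f10d0076fe9dd8a13c] a) j) 1 0

/-- the values of the relators -/
def wm : List ℕ := [0, 0, 1574912, 0, 0, 0, 5136, 4196864, 16387, 0, 0, 2162696, 42, 768, 65539, 0, 0, 262150, 32834, 0, 147456, 2113664, 2130432, 0, 1049120, 768, 131264, 1310722]

/-- the invariant -/
def kl : List (ℕ × ℕ) := [(2, 0), (2, 1), (2, 5), (2, 6), (3, 0), (3, 4), (4, 2), (5, 0), (6, 1), (6, 5), (7, 0), (7, 1), (7, 2), (7, 5), (9, 1), (9, 3), (9, 4), (9, 5), (9, 7), (9, 8), (9, 9), (11, 4), (11, 5), (12, 0), (12, 5), (13, 0), (14, 5)]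

theorem s_ok : ∀ j < 253, okC (s j) ∧ pc24 (s j) = 16 := by decide +kernel

theorem s_inj : ∀ i < 253, ∀ j < 253, s i = s j → i = j := by decide +kernel

theorem s_all {m : ℕ} (h : okC m) (h' : pc24 m = 16) : ∃ j < 253, s j = m := by
  obtain ⟨a, ha, rfl⟩ := isG_iff_exists.1 h.1
  have := h.2
  revert a
  decide +kernel

theorem exists_α : ∃ α : M23 →* Equiv.Perm ℕ, (∀ a i, 253 ≤ i → α a i = i) ∧ ∀ (a : M23) c, R24 c a → ∀ i < 253,
    α a i < 253 ∧ img24 c (s i) = s (α a i) := by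
  obtain ⟨α, h1, h2⟩ := FG.exists_permNat (MulAction.toPermHom M23 (Finset GolayPt)) (fun j => EG.ofMask (s j)) 253
    (fun i hi j hj e => s_inj i hi j hj (EG.ofMask_inj (isG_lt (s_ok i hi).1.1) (isG_lt (s_ok j hj).1.1) e))
    fun g i hi => by
      have hc : R24 _ (g : Equiv.Perm GolayPt) := PRep.canon par24 _
      obtain ⟨j, hj, e⟩ := s_all (Coc.okC_img hc (s_ok i hi).1) (by
        rw [← card_ofMask24, ← hc.smul_ofMask, Finset.card_smul_finset, card_ofMask24, (s_ok i hi).2])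
      exact ⟨j, hj, by rw [e, ← hc.smul_ofMask]; rfl⟩
  refine ⟨α, h1, fun a c hc i hi => ⟨(h2 a i hi).1, EG.ofMask_inj (hc.imgP_lt _) (isG_lt (s_ok _ (h2 a i hi).1).1.1) ?_⟩⟩
  rw [← hc.smul_ofMask]
  exact (h2 a i hi).2

/-- the action on 253 points -/
noncomputable def α : M23 →* Equiv.Perm ℕ := exists_α.choose

theorem α_fix (a : M23) {i : ℕ} (h : 253 ≤ i) : α a i = i := exists_α.choose_spec.1 a i h

theorem α_lt (a : M23) {i : ℕ} (h : i < 253) : α a i < 253 :=
  (exists_α.choose_spec.2 a _ (PRep.canon par24 _) i h).1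

theorem dt_α (a : M23) (w : V) {i : ℕ} (h : i < 253) : dt (w ∘ ⇑(a : Equiv.Perm GolayPt)) (s i) = dt w (s (α a i)) := by
  have hc : R24 _ (a : Equiv.Perm GolayPt) := PRep.canon par24 _
  rw [dt_comp hc, (exists_α.choose_spec.2 a _ hc i h).2]; rfl

theorem α_x {a i : ℕ} (ha : a < 9) (h : i < 253) : α (x a) i = act a i := by
  have := (by decide +kernel : ∀ a < 9, ∀ i < 253, act a i < 253 ∧ img24 (nthL c1 M23T.xs a) (s i) = s (act a i)) a ha i h
  exact s_inj _ (α_lt _ h) _ this.1 ((exists_α.choose_spec.2 _ _ (lt_rep _ h0 a) i h).2.symm.trans this.2)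

/-- the wreath product -/
abbrev Γ : Type := (ℕ → Multiplicative (ZMod 2)) ⋊[mulAutArrow.comp α] M23

theorem mul_left (g h : Γ) (j : ℕ) : (g * h).left (α g.right j) = g.left (α g.right j) * h.left j := by
  rw [SemidirectProduct.mul_left, Pi.mul_apply, MonoidHom.comp_apply, mulAutArrow_apply_apply]
  exact congrArg (fun i => _ * h.left i) ((α g.right).symm_apply_apply j)

/-- the points visited by a word -/
def pth (r : List ℕ) (j : ℕ) : List (ℕ × ℕ) :=
  List.rec (motive := fun _ => List (ℕ × ℕ)) [] (fun a r ih => (a, actW act (a :: r) j) :: ih) r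

theorem volt {z : ℕ → Γ} (hz : ∀ i, (z i).right = x i) {j : ℕ} (hj : j < 253) (r : List ℕ) (hr : ∀ a ∈ r, a < 9) :
    actW act r j < 253 ∧ α (W z r).right j = actW act r j ∧ (∀ e ∈ pth r j, e.1 < 9 ∧ e.2 < 253) ∧
      ((W z r).left (actW act r j)).toAdd = ((pth r j).map fun e => ((z e.1).left e.2).toAdd).sum := by
  induction r with
  | nil => exact ⟨hj, DFunLike.congr_fun (map_one α) j, fun _ h => absurd h List.not_mem_nil, rfl⟩
  | cons a r ih =>
    obtain ⟨h1, h2, h3, h4⟩ := ih fun b hb => hr b (List.mem_cons_of_mem _ hb)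
    have ha := hr a List.mem_cons_self
    have e : actW act (a :: r) j = α (x a) (actW act r j) := (force_eq _ _).trans (α_x ha h1).symm
    have h5 : actW act (a :: r) j < 253 := e ▸ α_lt _ h1
    refine ⟨h5, by rw [W_cons, SemidirectProduct.mul_right, map_mul, Equiv.Perm.mul_apply, h2, hz, e],
      List.forall_mem_cons.2 ⟨⟨ha, h5⟩, h3⟩, ?_⟩
    rw [show pth (a :: r) j = (a, actW act (a :: r) j) :: pth r j from rfl, List.map_cons, List.sum_cons, ← h4, W_cons, e,
      ← hz, mul_left, toAdd_mul]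

/-- the cocode module -/
noncomputable def τ (w : V) : Γ := SemidirectProduct.inl fun j => .ofAdd (if j < 253 then dt w (s j) else 0)

theorem τ_add (w w' : V) : τ (w + w') = τ w * τ w' := by
  rw [τ, τ, τ, ← map_mul]
  congr 1
  funext j
  rw [Pi.mul_apply, ← ofAdd_add, dt_add]
  split_ifs <;> simp

theorem τ_conj (g : Γ) (w : V) : τ (w ∘ ⇑(g.right : Equiv.Perm GolayPt)) = g⁻¹ * τ w * g := by
  rw [mul_assoc, eq_inv_mul_iff_mul_eq]
  refine SemidirectProduct.ext (funext fun j => ?_) (by simp [τ])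
  obtain ⟨j, rfl⟩ := (α g.right).surjective j
  have := mul_left (τ w) g (α g.right j)
  rw [show (τ w).right = 1 from rfl, map_one, Equiv.Perm.one_apply] at this
  rw [mul_left, this, mul_comm]
  congr 1
  simp only [τ, SemidirectProduct.left_inl]
  by_cases hj : j < 253
  · rw [if_pos hj, if_pos (α_lt _ hj), dt_α _ _ hj]
  · rw [if_neg hj, α_fix _ (not_lt.1 hj), if_neg hj]

theorem τ_one (w : V) : τ w = 1 ↔ K w := by
  rw [τ, map_eq_one_iff _ SemidirectProduct.inl_injective, funext_iff]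
  refine ⟨fun h => mem_K fun f hf => ?_, fun h j => ?_⟩
  · obtain ⟨j, hj, rfl⟩ := (by decide +kernel : ∀ f ∈ F16, ∃ j < 253, s j = f) f hf
    simpa [hj] using h j
  · split_ifs with hj
    · rw [dt_K h (s_ok j hj).1]; rfl
    · rfl

/-- its image -/
def N : Subgroup Γ where
  carrier := Set.range τ
  one_mem' := ⟨0, (τ_one 0).2 (.inl (zero_mem _))⟩
  mul_mem' := by rintro _ _ ⟨w, rfl⟩ ⟨w', rfl⟩; exact ⟨_, τ_add w w'⟩
  inv_mem' := by
    rintro _ ⟨w, rfl⟩
    exact ⟨w, eq_inv_of_mul_eq_one_left (by rw [← τ_add, add_self₂, τ_one]; exact .inl (zero_mem _))⟩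

instance normal_N : N.Normal := ⟨by
  rintro _ ⟨w, rfl⟩ g
  exact ⟨_, (τ_conj g⁻¹ w).trans (by rw [inv_inv])⟩⟩

/-- the lifts -/
noncomputable def z (i : ℕ) : Γ := ⟨fun j => .ofAdd (if j < 253 then vb i j else 0), x i⟩

theorem rels_lt : ∀ r ∈ M23P.rels, ∀ a ∈ r, a < 9 := by decide

theorem W_right {y : ℕ → Γ} (hy : ∀ i, (y i).right = x i) {r : List ℕ} (hr : r ∈ M23P.rels) : (W y r).right = 1 := by
  rw [← SemidirectProduct.rightHom_eq_right, map_W]
  simp only [SemidirectProduct.rightHom_eq_right, hy]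
  refine eq_of_eqB (isCanon_PtC EG).func (lt_act _ h0) (isBase_range EG _) (v := []) ?_
  revert r
  decide +kernel

theorem rel_z : ∀ r ∈ M23P.rels, W z r ∈ N := fun r hr => by
  obtain ⟨m, -, h⟩ := (by decide +kernel : ∀ r ∈ M23P.rels, ∃ m ∈ wm, ∀ j < 253,
    ((pth r j).map fun e => vb e.1 e.2).sum = (pc24 (m &&& s j) : ZMod 2)) r hr
  have h1 := W_right (y := z) (fun _ => rfl) hr
  refine ⟨EG.word m, SemidirectProduct.ext (funext fun j => ?_) h1.symm⟩
  simp only [τ, SemidirectProduct.left_inl]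
  split_ifs with hj
  · obtain ⟨-, h2, h3, h4⟩ := volt (z := z) (fun _ => rfl) hj r (rels_lt r hr)
    rw [h1, map_one, Equiv.Perm.one_apply] at h2
    rw [← h2] at h4
    rw [dt_word, ← h j hj, ← ofAdd_toAdd ((W z r).left j), h4]
    exact congrArg _ (congrArg _ (List.map_congr_left fun e he => (if_pos (h3 e he).2).symm))
  · clear h h1 hr
    induction r with
    | nil => rfl
    | cons a r ih =>
      have := mul_left (z a) (W z r) j
      rw [α_fix _ (not_lt.1 hj)] at this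
      rw [W_cons, this, ← ih, show (z a).left j = .ofAdd 0 from congrArg Multiplicative.ofAdd (if_neg hj)]; rfl

theorem sum_pth (w : ℕ → V) (l : List (ℕ × ℕ)) (h : ∀ e ∈ l, e.1 < 9 ∧ e.2 < 253) :
    (l.map fun e => dt (w e.1) (s e.2) + vb e.1 e.2).sum =
      val (fun i => dt (w i)) (l.foldr (fun e r => s e.2 <<< (24 * e.1) ^^^ r) 0) + (l.map fun e => vb e.1 e.2).sum := by
  induction l with
  | nil => simp [(val_add fun i => dt_add2 (w i)).zero]
  | cons e l ih =>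
    have := h e List.mem_cons_self
    rw [List.map_cons, List.sum_cons, ih fun e he => h e (List.mem_cons_of_mem _ he), List.foldr_cons,
      val_add fun i => dt_add2 (w i), val_shift (fun i => dt_add2 (w i)) (isG_lt (s_ok _ this.2).1.1) (by omega),
      List.map_cons, List.sum_cons]
    ring

theorem not_split (w : ℕ → V) : ¬ ∀ r ∈ M23P.rels, W (fun i => τ (w i) * z i) r = 1 := fun h => by
  have hz : ∀ i, (τ (w i) * z i).right = x i := fun i => one_mul _
  have key : ∀ l : List (ℕ × ℕ), (∀ k ∈ l, nthL [] M23P.rels k.1 ∈ M23P.rels ∧ k.2 < 253) →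
      (∀ e ∈ l.flatMap fun k => pth (nthL [] M23P.rels k.1) k.2, e.1 < 9 ∧ e.2 < 253) ∧
      ((l.flatMap fun k => pth (nthL [] M23P.rels k.1) k.2).map fun e => dt (w e.1) (s e.2) + vb e.1 e.2).sum = 0 := by
    intro l hl
    induction l with
    | nil => simp
    | cons k l ih =>
      obtain ⟨h1, h2⟩ := ih fun k hk => hl k (List.mem_cons_of_mem _ hk)
      obtain ⟨h3, h4⟩ := hl k List.mem_cons_self
      obtain ⟨-, -, h5, h6⟩ := volt hz h4 _ (rels_lt _ h3)
      rw [List.flatMap_cons, List.map_append, List.sum_append, h2, add_zero, List.forall_mem_append]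
      refine ⟨⟨h5, h1⟩, Eq.trans (congrArg _ (List.map_congr_left fun e he => ?_)) (h6.symm.trans (by rw [h _ h3]; rfl))⟩
      have := mul_left (τ (w e.1)) (z e.1) e.2
      rw [show (τ (w e.1)).right = 1 from rfl, map_one, Equiv.Perm.one_apply] at this
      rw [this, toAdd_mul]
      simp [τ, z, (h5 e he).2]
  obtain ⟨h1, h2⟩ := key kl (by decide +kernel)
  rw [sum_pth w _ h1, show List.foldr _ _ _ = 0 by decide +kernel, (val_add fun i => dt_add2 (w i)).zero, zero_add] at h2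
  revert h2
  decide +kernel

theorem exists_ns : ∃ (E : Type) (_ : Group E) (π : E →* M23) (τ : V → E), Coc π τ ∧
    ∀ H : Subgroup E, H ⊓ π.ker = ⊥ → H ⊔ π.ker ≠ ⊤ := by
  let q := QuotientGroup.mk' N
  obtain ⟨ρ, hρ⟩ := pres.2 _ (fun i => q (z i)) fun r hr => by
    rw [← map_W]; exact (QuotientGroup.eq_one_iff _).2 (rel_z r hr)
  let f : Γ ⧸ N →* M23 := QuotientGroup.lift _ SemidirectProduct.rightHom fun g hg => by
    obtain ⟨w, rfl⟩ : ∃ w, τ w = g := hg
    rfl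
  have hf : ∀ a, f (ρ a) = a := fun a => by
    have : genL x (List.range 9) ≤ (f.comp ρ).eqLocus (MonoidHom.id _) := genL_le fun i hi => by
      show f (ρ _) = _
      rw [hρ i (List.mem_range.1 hi)]; rfl
    exact this (pres.1 ▸ mem_top a)
  let E := ρ.range.comap q
  let π : E →* M23 := SemidirectProduct.rightHom.comp E.subtype
  have hτ : ∀ w, τ w ∈ E := fun w => ⟨1, by rw [map_one]; exact ((QuotientGroup.eq_one_iff (N := N) _).2 ⟨w, rfl⟩).symm⟩
  have C : Coc π fun w => ⟨τ w, hτ w⟩ := by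
    refine ⟨fun a => ?_, fun w w' => Subtype.ext (τ_add w w'), fun e => ⟨fun h => ?_, fun ⟨w, h⟩ => h ▸ rfl⟩,
      fun w => Subtype.ext_iff.trans (τ_one w), fun g w => Subtype.ext (τ_conj g w)⟩
    · obtain ⟨g, hg⟩ := QuotientGroup.mk'_surjective N (ρ a)
      exact ⟨⟨g, a, hg.symm⟩, (congrArg f hg).trans (hf a)⟩
    · obtain ⟨a, ha⟩ := e.2
      obtain rfl : a = 1 := (hf a).symm.trans ((congrArg f ha).trans h)
      obtain ⟨w, hw⟩ := (QuotientGroup.eq_one_iff (N := N) e.1).1 (ha.symm.trans (map_one ρ))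
      exact ⟨w, Subtype.ext hw⟩
  refine ⟨E, inferInstance, π, _, C, fun H H1 H2 => ?_⟩
  have : ∀ i, ∃ h ∈ H, π h = x i ∧ ∃ w, i < 9 → (h : Γ) = τ w * z i := fun i => by
    obtain ⟨e, he⟩ := C.surj (x i)
    obtain ⟨h, hh, e1⟩ : x i ∈ H.map π := by rw [← he, ← mem_comap, comap_map_eq, H2]; trivial
    refine ⟨h, hh, e1, ?_⟩
    by_cases hi : i < 9
    · obtain ⟨w, hw⟩ := (C.ker (h * (⟨z i, x i, hρ i hi⟩ : E)⁻¹)).1 (by
        rw [map_mul, map_inv, e1]; exact mul_inv_cancel _)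
      exact ⟨w, fun _ => by rw [show τ w = h * (z i)⁻¹ from congrArg Subtype.val hw, inv_mul_cancel_right]⟩
    · exact ⟨0, fun h => absurd h hi⟩
  choose h hh e1 w hw using this
  refine not_split w fun r hr => ?_
  have h1 : W h r ∈ H ⊓ π.ker := ⟨W_mem _ fun a _ => hh a, by
    show (E.subtype (W h r)).right = 1
    rw [map_W]; exact W_right e1 hr⟩
  rw [H1, mem_bot] at h1
  rw [← W_congr fun a ha => hw a (rels_lt r hr a ha)]
  exact (map_W h E.subtype r).symm.trans (by rw [h1, map_one])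

end Cfsg.Agent.Small.M23NS
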