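import Cfsg.Agent.Solv.Frattini

/-! `2`-groups `T` with `|Z₄(T)| = 16` and `W = C_T(Z₃(T))` as in S3174, S3175 (helper9), part A:
`exists_step`, `Uni` (uniserial bottom), `Fr`, `Big.fr_eq`, `core_bound`, `Hyp.main`, `Hyp.aut`, `Hyp.weak`. -/

set_option autoImplicit false

namespace Cfsg.Agent.Small.Assa

open Subgroup Cfsg.Agent.Solv
open scoped commutatorElement

variable {T : Type*} [Group T]

local notation "Z" => Subgroup.upperCentralSeries T

theorem exists_step [Group.IsNilpotent T] {N M : Subgroup T} [N.Normal] (h : ¬ N ≤ M) :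
    ∃ x ∈ N, x ∉ M ∧ ∀ g, ⁅x, g⁆ ∈ M := by
  obtain ⟨n, hn⟩ := Group.IsNilpotent.nilpotent (G := T)
  have : ∀ i, N ⊓ Z i ≤ M ∨ ∃ x ∈ N, x ∉ M ∧ ∀ g, ⁅x, g⁆ ∈ M := fun i => by
    induction i with
    | zero => left; simp
    | succ i ih =>
      refine ih.elim (fun ih => or_iff_not_imp_left.2 fun h => ?_) Or.inr
      obtain ⟨x, hx, hxM⟩ := SetLike.not_le_iff_exists.1 h
      refine ⟨x, hx.1, hxM, fun g => ih ⟨?_, Subgroup.mem_upperCentralSeries_succ_iff.1 hx.2 g⟩⟩
      rw [commutatorElement_def, mul_assoc, mul_assoc, ← mul_assoc g]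
      exact mul_mem hx.1 (Normal.conj_mem inferInstance _ (inv_mem hx.1) g)
  exact (this n).resolve_left (by rwa [hn, inf_top_eq])

theorem index_cent_le [Finite T] {x : T} {M K : Subgroup T} (h : ∀ g ∈ K, ⁅x, g⁆ ∈ M) :
    (centralizer {x}).relIndex K ≤ Nat.card M := by
  refine Nat.card_le_card_of_injective (fun q : K ⧸ (centralizer {x}).subgroupOf K =>
    (⟨⁅x, q.out.1⁆, h _ q.out.2⟩ : M)) fun q q' e => ?_
  rw [← q.out_eq, ← q'.out_eq, QuotientGroup.eq, mem_subgroupOf, mem_centralizer_singleton_iff]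
  have e := congrArg Subtype.val e
  simp only [commutatorElement_def, mul_assoc, mul_right_inj] at e
  push_cast
  generalize q.out.1 = a at e; generalize q'.out.1 = b at e
  calc a⁻¹ * b * x = a⁻¹ * (b * (x⁻¹ * b⁻¹))⁻¹ * b := by group
    _ = _ := by rw [← e]; group

/-- The first four upper central factors have order two. -/
def Uni (T : Type*) [Group T] : Prop := ∀ i ≤ 4, Nat.card (Subgroup.upperCentralSeries T i) = 2 ^ i

theorem uni_of [Finite T] (hT : IsPGroup 2 T) (ha : 16 < Nat.card T) (hb : Nat.card (Z 4) = 16) : Uni T := by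
  haveI := hT.isNilpotent
  have st : ∀ i < 4, 2 * Nat.card (Z i) ≤ Nat.card (Z (i + 1)) := fun i hi => by
    have hle : Z i ≤ Z (i + 1) := Subgroup.upperCentralSeries_mono T (Nat.le_succ i)
    obtain ⟨x, -, hx, hx'⟩ := exists_step (N := ⊤) (M := Z i) fun h => by
      have := card_le_of_le (h.trans (Subgroup.upperCentralSeries_mono T hi.le))
      rw [card_top] at this; omega
    obtain ⟨k, hk⟩ := card_dvd_of_le hle
    have := Nat.card_pos (α := Z (i + 1))
    have h1 : k ≠ 1 := by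
      rintro rfl
      exact hx (eq_of_le_of_card_ge hle (by omega) ▸ Subgroup.mem_upperCentralSeries_succ_iff.2 hx')
    rcases k with _ | _ | k
    · omega
    · omega
    · nlinarith
  have h0 : Nat.card (Z 0) = 1 := by simp
  have := st 0 (by omega); have := st 1 (by omega); have := st 2 (by omega); have := st 3 (by omega)
  intro i hi
  interval_cases i <;> simp only [zero_add, Nat.reduceAdd] at * <;> omega

variable [Finite T]

theorem Uni.rel (h : Uni T) {i : ℕ} (hi : i < 4) : (Z i).relIndex (Z (i + 1)) = 2 := by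
  have := relIndex_mul_relIndex ⊥ (Z i) (Z (i + 1)) bot_le (Subgroup.upperCentralSeries_mono T (Nat.le_succ i))
  rw [relIndex_bot_left, relIndex_bot_left, h i hi.le, h (i + 1) hi, pow_succ] at this
  exact Nat.eq_of_mul_eq_mul_left (by positivity) this

theorem Uni.mul_iff (h : Uni T) {i : ℕ} (hi : i < 4) {x y : T} (hx : x ∈ Z (i + 1)) (hy : y ∈ Z (i + 1)) :
    x * y ∈ Z i ↔ (x ∈ Z i ↔ y ∈ Z i) :=
  mul_mem_iff_of_index_two (H := (Z i).subgroupOf (Z (i + 1))) (h.rel hi) (a := ⟨x, hx⟩) (b := ⟨y, hy⟩)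

theorem Uni.le_of (h : Uni T) {i : ℕ} (hi : i < 4) {N : Subgroup T} (h1 : Z i ≤ N) {x : T} (hx : x ∈ Z (i + 1))
    (hx' : x ∉ Z i) (hN : x ∈ N) : Z (i + 1) ≤ N := fun y hy => by
  by_cases e : y ∈ Z i
  · exact h1 e
  · simpa using mul_mem (h1 ((h.mul_iff hi hy hx).2 (iff_of_false e hx'))) (inv_mem hN)

theorem Uni.succ_le [Group.IsNilpotent T] (h : Uni T) {i : ℕ} (hi : i < 4) {N : Subgroup T} [N.Normal]
    (h1 : Z i ≤ N) (h2 : ¬ N ≤ Z i) : Z (i + 1) ≤ N := by
  obtain ⟨x, hx, hx', hc⟩ := exists_step h2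
  exact h.le_of hi h1 (Subgroup.mem_upperCentralSeries_succ_iff.2 hc) hx' hx

theorem Uni.exists_new (h : Uni T) {i : ℕ} (hi : i < 4) : ∃ x ∈ Z (i + 1), x ∉ Z i :=
  SetLike.not_le_iff_exists.1 fun e => by
    have := h.rel hi
    rw [relIndex_eq_one.2 e] at this; omega

theorem Uni.eq_of_card [Group.IsNilpotent T] (h : Uni T) {N : Subgroup T} [N.Normal] (hN : Nat.card N ≤ 8) :
    ∃ k ≤ 3, N = Z k := by
  by_contra! H
  have st : ∀ i < 4, Z i ≤ N → Z (i + 1) ≤ N := fun i hi h1 =>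
    h.succ_le hi h1 fun h2 => H i (by omega) (le_antisymm h2 h1)
  have := card_le_of_le (st 3 (by omega) (st 2 (by omega) (st 1 (by omega) (st 0 (by omega) (by simp)))))
  rw [h 4 le_rfl] at this; omega

/-- The Frattini subgroup of a subgroup. -/
abbrev Fr (X : Subgroup T) : Subgroup T := (frattini X).map X.subtype

/-- Every subgroup of index at most `16` contains the Frattini subgroup. -/
def Big (X : Type*) [Group X] : Prop := ∀ U : Subgroup X, U.index ≤ 16 → frattini X ≤ U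

omit [Finite T] in
theorem Big.equiv {X Y : Type*} [Group X] [Group Y] (h : Big X) (e : X ≃* Y) : Big Y := fun U hU => by
  have := h (U.comap e.toMonoidHom) (by rwa [index_comap_of_surjective _ e.surjective])
  rw [← map_frattini (f := e.toMonoidHom) e.surjective (by rw [(MonoidHom.ker_eq_bot_iff _).2 e.injective]; exact bot_le), map_le_iff_le_comap]
  exact this

theorem Big.fr_eq (hT : IsPGroup 2 T) {X Y : Subgroup T} (h : Big X) (hY : Y ≤ X) (hi : Y.relIndex X ≤ 8) :
    Fr Y = Fr X := by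
  refine le_antisymm (map_frattini_mono (hT.to_subgroup X) hY) ?_
  have key : ∀ U : Subgroup T, U.relIndex X ≤ 16 → Fr X ≤ U := fun U hU => by
    rw [map_le_iff_le_comap]; exact h _ hU
  intro x hx
  refine ⟨⟨x, key Y (by omega) hx⟩, mem_frattini_iff.2 fun M hM => ?_, rfl⟩
  have h2 : M.index = 2 := index_eq_of_isCoatom (hT.to_subgroup Y) hM
  have := relIndex_mul_relIndex (M.map Y.subtype) Y X (map_subtype_le _) hY
  rw [show (M.map Y.subtype).relIndex Y = M.index by rw [relIndex, subgroupOf, comap_map_eq_self_of_injective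
    Y.subtype_injective], h2] at this
  obtain ⟨y, hy, e⟩ := key (M.map Y.subtype) (by omega) hx
  rwa [show y = ⟨x, _⟩ from Subtype.ext e] at hy

theorem exists_sign {X : Type*} [Group X] {M : Subgroup X} (h : M.index = 2) : ∃ l : X →* ℤˣ, l.ker = M := by
  classical
  refine ⟨MonoidHom.mk' (fun x => if x ∈ M then 1 else -1) fun x y => ?_, ?_⟩
  · simp only [mul_mem_iff_of_index_two h]
    by_cases hx : x ∈ M <;> by_cases hy : y ∈ M <;> simp [hx, hy]
  · ext x; by_cases hx : x ∈ M <;> simp [hx]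

/-- Conjugation as a map into a normal subgroup. -/
def cjW (W : Subgroup T) [W.Normal] (t : T) : W →* W := (MulAut.conjNormal t⁻¹ : MulAut W).toMonoidHom

omit [Finite T] in
theorem cjW_val (W : Subgroup T) [W.Normal] (t : T) (w : W) : (cjW W t w : T) = t⁻¹ * w * t := by
  simp [cjW]

omit [Finite T] in
theorem cjW_mul {W : Subgroup T} [W.Normal] (l : W →* ℤˣ) (t : T) (u w : W) : l (cjW W (t * u) w) = l (cjW W t w) := by
  rw [show cjW W (t * u) w = u⁻¹ * cjW W t w * u from Subtype.ext (by simp [cjW_val, mul_assoc]), map_mul, map_mul,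
    mul_right_comm, ← map_mul, inv_mul_cancel, map_one, one_mul]

/-- The coordinates of `W / Φ(W)` as a module for `T / W`. -/
noncomputable def crd {W : Subgroup T} [W.Normal] (l : W →* ℤˣ) : W →* (T ⧸ W → ℤˣ) :=
  MonoidHom.pi fun q => l.comp (cjW W q.out)

omit [Finite T] in
theorem crd_mk {W : Subgroup T} [W.Normal] (l : W →* ℤˣ) (w : W) (t : T) : crd l w t = l (cjW W t w) := by
  obtain ⟨u, hu⟩ := QuotientGroup.mk_out_eq_mul W t
  rw [← cjW_mul l t u, ← hu]; rfl

theorem exists_crd (hT : IsPGroup 2 T) (h : Uni T) {W : Subgroup T} [W.Normal] {k : ℕ} (hk : k < 4)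
    (hF : Fr W = Z k) (hW : ¬ W ≤ Z k) :
    ∃ l : W →* ℤˣ, (crd l).ker = frattini W ∧ ∀ u : W, u.1 ∈ Z (k + 1) → u.1 ∉ Z k → l u = -1 := by
  haveI := hT.isNilpotent
  have mF : ∀ u : W, u ∈ frattini W ↔ u.1 ∈ Z k := fun u => by
    rw [← hF]; exact (mem_map_iff_mem W.subtype_injective).symm
  have hle : Z (k + 1) ≤ W := h.succ_le hk (hF.ge.trans (map_subtype_le _)) hW
  obtain ⟨x, hx, hx'⟩ := h.exists_new hk
  obtain ⟨M, hM, hxM⟩ : ∃ M : Subgroup W, IsCoatom M ∧ ⟨x, hle hx⟩ ∉ M := by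
    by_contra! H; exact hx' ((mF _).1 (mem_frattini_iff.2 H))
  obtain ⟨l, hl⟩ := exists_sign (index_eq_of_isCoatom (hT.to_subgroup W) hM)
  have l1 : ∀ u : W, u.1 ∈ Z k → l u = 1 := fun u hu => by
    rw [← MonoidHom.mem_ker, hl]; exact mem_frattini_iff.1 ((mF u).2 hu) M hM
  have l2 : ∀ u : W, u.1 ∈ Z (k + 1) → u.1 ∉ Z k → l u = -1 := fun u h1 h2 => by
    have := l1 (u * ⟨x, hle hx⟩) ((h.mul_iff hk h1 hx).2 (iff_of_false h2 hx'))
    rw [map_mul, (Int.units_eq_one_or (l ⟨x, hle hx⟩)).resolve_left (by rwa [← MonoidHom.mem_ker, hl])] at this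
    rw [← neg_inj, neg_neg, ← this, mul_neg, mul_one]
  have mk : ∀ w : W, w ∈ (crd l).ker ↔ ∀ t, l (cjW W t w) = 1 := fun w =>
    ⟨fun hw t => by rw [← crd_mk, MonoidHom.mem_ker.1 hw]; rfl, fun hw => funext fun q => hw _⟩
  refine ⟨l, le_antisymm (fun w hw => (mF w).2 ?_) fun w hw => (mk w).2 fun t => l1 _ ?_, l2⟩
  · haveI : ((crd l).ker.map W.subtype).Normal := ⟨by
      rintro _ ⟨w, hw, rfl⟩ g
      refine ⟨cjW W g⁻¹ w, (mk _).2 fun t => ?_, by simp [cjW_val]⟩
      rw [← (mk w).1 hw (g⁻¹ * t)]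
      exact congrArg l (Subtype.ext (by simp [cjW_val, mul_assoc]))⟩
    by_contra hn
    have := h.succ_le hk (N := (crd l).ker.map W.subtype) (fun y hy => ⟨⟨y, hle (Subgroup.upperCentralSeries_mono T
      (Nat.le_succ k) hy)⟩, (mk _).2 fun t => l1 _ (by
        rw [cjW_val]; exact Normal.conj_mem' inferInstance _ hy t), rfl⟩) fun e => hn (e ⟨w, hw, rfl⟩)
    obtain ⟨y, hy, e⟩ := this hx
    have := (mk y).1 hy 1
    rw [l2 _ (by simpa [cjW_val, show y.1 = x from e]) (by simpa [cjW_val, show y.1 = x from e])] at this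
    exact absurd this (by decide)
  · rw [cjW_val]; exact Normal.conj_mem' inferInstance _ ((mF w).1 hw) t

theorem card_fun (W : Subgroup T) : Nat.card (T ⧸ W → ℤˣ) = 2 ^ W.index := by
  rw [Nat.card_fun, Nat.card_eq_fintype_card (α := ℤˣ), Fintype.card_units_int]; rfl

theorem Uni.cent_eq (h : Uni T) {y z : T} (hy : y ∈ Z 2) (hy' : y ∉ Z 1) (hz : z ∈ Z 3) (hz' : z ∉ Z 2) :
    centralizer (Z 3 : Set T) = centralizer {z} ⊓ centralizer {y} := by
  refine le_antisymm (le_inf (centralizer_le (by simpa)) (centralizer_le (by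
    simpa using Subgroup.upperCentralSeries_mono T (show 2 ≤ 3 by omega) hy))) fun g hg => ?_
  have m : ∀ {x}, g ∈ centralizer {x} → x ∈ centralizer {g} := fun hx =>
    mem_centralizer_singleton_iff.2 (mem_centralizer_singleton_iff.1 hx).symm
  refine fun x hx => mem_centralizer_singleton_iff.1
    (h.le_of (by omega) (h.le_of (by omega) ?_ hy hy' (m hg.2)) hz hz' (m hg.1) hx)
  rw [Subgroup.upperCentralSeries_one]; exact center_le_centralizer _

/-- The hypotheses of S3174. -/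
structure Hyp (W : Subgroup T) : Prop where
  pg : IsPGroup 2 T
  ha : 2 ^ 14 ≤ Nat.card T
  uni : Uni T
  eq : W = centralizer (Z 3 : Set T)
  hc : Nat.card (frattini W) ≤ 8
  big : Big W

variable {W : Subgroup T}

omit [Finite T] in
theorem Hyp.normal (h : Hyp W) : W.Normal := h.eq ▸ inferInstance

theorem Hyp.index_le (h : Hyp W) : W.index ≤ 8 := by
  obtain ⟨y, hy, hy'⟩ := h.uni.exists_new (i := 1) (by omega)
  obtain ⟨z, hz, hz'⟩ := h.uni.exists_new (i := 2) (by omega)
  have h1 := index_cent_le (K := ⊤) fun g _ => Subgroup.mem_upperCentralSeries_succ_iff.1 hy g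
  have h2 := index_cent_le (K := ⊤) fun g _ => Subgroup.mem_upperCentralSeries_succ_iff.1 hz g
  rw [relIndex_top_right, h.uni _ (by omega)] at h1 h2
  rw [h.eq, h.uni.cent_eq hy hy' hz hz']
  exact index_inf_le.trans (by nlinarith)

theorem Hyp.main (h : Hyp W) : Fr W = Z 3 ∧ W.index = 8 ∧ Nat.card W = 2 ^ 11 ∧ Nat.card T = 2 ^ 14 := by
  haveI := h.normal
  haveI := h.pg.isNilpotent
  have hi := h.index_le
  have ha := h.ha
  have hm := W.card_mul_index
  have cF : Nat.card (Fr W) = Nat.card (frattini W) := card_map_of_injective W.subtype_injective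
  obtain ⟨k, hk, e⟩ := h.uni.eq_of_card (N := Fr W) (cF ▸ h.hc)
  obtain ⟨l, hl, -⟩ := exists_crd h.pg h.uni (by omega) e fun hW => by
    have := card_le_of_le (hW.trans (Subgroup.upperCentralSeries_mono T hk))
    rw [h.uni 3 (by omega)] at this; nlinarith
  have h1 := (frattini W).card_mul_index
  have h2 : (frattini W).index ≤ 2 ^ W.index := by
    rw [← hl, index_ker, ← card_fun]; exact card_le_card_group _
  rw [← cF, e, h.uni k (by omega)] at h1
  have : k = 3 ∧ W.index = 8 := by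
    generalize W.index = m at *
    interval_cases k <;> interval_cases m <;> omega
  obtain ⟨rfl, h8⟩ := this
  rw [h8] at h2 hm
  exact ⟨e, h8, by omega, by omega⟩

theorem Hyp.weak (h : Hyp W) {W' : Subgroup T} (e : W ≃* W') : W' = W := by
  have hc : Nat.card W = Nat.card W' := Nat.card_congr e.toEquiv
  have hi : W'.index = W.index := by
    have := W.card_mul_index; rw [← W'.card_mul_index, hc] at this
    exact (Nat.eq_of_mul_eq_mul_left Nat.card_pos this).symm
  have h8 := h.main.2.1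
  have r : ∀ A B : Subgroup T, A.index = 8 → A.relIndex B ≤ 8 := fun A B hA => by
    rw [← hA, ← relIndex_top_right]; exact relIndex_le_of_le_right le_top (by rw [relIndex_top_right]; omega)
  have e1 := h.big.fr_eq h.pg (Y := W' ⊓ W) inf_le_right (by rw [inf_relIndex_right]; exact r _ _ (hi ▸ h8))
  have e2 := (h.big.equiv e).fr_eq h.pg (Y := W' ⊓ W) inf_le_left (by rw [inf_relIndex_left]; exact r _ _ h8)
  refine eq_of_le_of_card_ge (fun x hx => ?_) hc.le
  rw [h.eq, ← h.main.1, ← e1, e2]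
  rintro _ ⟨y, hy, rfl⟩
  rw [← map_frattini (f := e.toMonoidHom) e.surjective
    (by rw [(MonoidHom.ker_eq_bot_iff _).2 e.injective]; exact bot_le)] at hy
  obtain ⟨y, hy, rfl⟩ := hy
  obtain ⟨w, hw⟩ := e.surjective ⟨x, hx⟩
  have : y * w = w * y := Subtype.ext (h.eq.le w.2 _ (h.main.1.le ⟨y, hy, rfl⟩))
  have := congrArg (fun a => (e a : T)) this
  simpa [hw] using this

theorem Hyp.aut (h : Hyp W) (φ : MulAut T) (ho : Odd (orderOf φ)) : φ = 1 := by
  haveI := h.normal
  haveI := h.pg.isNilpotent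
  have step : ∀ x, φ (x⁻¹ * φ x) = x⁻¹ * φ x → φ x = x := fun x hx => by
    have p : ∀ k : ℕ, (φ ^ k) x = x * (x⁻¹ * φ x) ^ k := fun k => by
      induction k with
      | zero => simp
      | succ k ih => rw [pow_succ', MulAut.mul_apply, ih, map_mul, map_pow, hx, pow_succ', ← mul_assoc, mul_inv_cancel_left]
    have h1 := p (orderOf φ)
    rw [pow_orderOf_eq_one, MulAut.one_apply, left_eq_mul, ← orderOf_dvd_iff_pow_eq_one] at h1
    obtain ⟨k, hk⟩ := h.pg.exists_orderOf_eq_pow (x⁻¹ * φ x)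
    have := Nat.Coprime.eq_one_of_dvd (Nat.Coprime.pow_left k (Nat.coprime_two_left.2 ho)) (hk ▸ h1)
    rw [← hk, orderOf_eq_one_iff, inv_mul_eq_one] at this
    exact this.symm
  have mem : ∀ i x, φ x ∈ Z i ↔ x ∈ Z i := fun i x =>
    SetLike.ext_iff.1 (characteristic_iff_comap_eq.1 inferInstance φ) x
  have fz : ∀ i ≤ 4, ∀ x ∈ Z i, φ x = x := fun i hi => by
    induction i with
    | zero => simp
    | succ i ih =>
      exact fun x hx => step x (ih (by omega) _ ((h.uni.mul_iff (by omega) (inv_mem hx) ((mem _ _).2 hx)).2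
        (by rw [inv_mem_iff, mem])))
  have hW : ∀ t, t⁻¹ * φ t ∈ W := fun t => h.eq.ge fun z hz => by
    have := fz 3 (by omega) _ (Normal.conj_mem inferInstance _ hz t)
    rw [map_mul, map_mul, map_inv, fz 3 (by omega) z hz] at this
    calc z * (t⁻¹ * φ t) = t⁻¹ * (t * z * t⁻¹) * φ t := by group
      _ = _ := by rw [← this]; group
  have hφ : ∀ w ∈ W, φ w ∈ W := fun w hw => by simpa using mul_mem hw (hW w)
  let π := QuotientGroup.mk' (Z 3)
  have cm : ∀ {u w}, u ∈ W → w ∈ W → π u * π w * (π u)⁻¹ = π w := fun {u w} hu hw => by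
    rw [← mul_inv_eq_one, ← map_inv, ← map_inv, ← map_mul, ← map_mul, ← map_mul]
    exact (QuotientGroup.eq_one_iff _).2 (h.main.1.le (commutator_le_map_frattini (h.pg.to_subgroup W)
      (commutator_mem_commutator hu hw)))
  have cj : ∀ t w, w ∈ W → π (φ (t * w * t⁻¹)) = π t * π (φ w) * (π t)⁻¹ := fun t w hw => by
    rw [← cm (hW t) (hφ w hw)]; simp only [map_mul, map_inv]; group
  let F : Subgroup T := W ⊓ (π.comp φ.toMonoidHom).eqLocus π
  haveI : F.Normal := ⟨fun w hw t => ⟨Normal.conj_mem inferInstance _ hw.1 t, by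
    have : π (φ w) = π w := hw.2
    show π (φ _) = π _
    rw [cj t w hw.1, this]; simp⟩⟩
  have hF : W ≤ F := by
    by_contra hn
    obtain ⟨x, hx, hx', hc⟩ := exists_step hn
    refine hx' ⟨hx, congrArg π (step x (fz 4 le_rfl _ (Subgroup.mem_upperCentralSeries_succ_iff.2 fun t => ?_)))⟩
    have h1 : π (φ ⁅x, t⁆) = π ⁅x, t⁆ := (hc t).2
    rw [show ⁅x, t⁆ = x * (t * x * t⁻¹)⁻¹ by group, map_mul, map_mul, map_inv, map_inv, cj t x hx] at h1
    rw [← QuotientGroup.eq_one_iff]
    show π _ = 1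
    simp only [commutatorElement_def, map_mul, map_inv] at h1 ⊢
    calc _ = (π x)⁻¹ * (π (φ x) * (π t * π (φ x) * (π t)⁻¹)⁻¹) * (π t * π x * (π t)⁻¹) := by group
      _ = _ := by rw [h1]; group
  have fw : ∀ w ∈ W, φ w = w := fun w hw => step w (fz 3 (by omega) _ (QuotientGroup.eq.1 (hF hw).2.symm))
  exact MulEquiv.ext fun t => step t (fw _ (hW t))

end Cfsg.Agent.Small.Assa
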