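import Cfsg.Agent.Small.Mn4A

/-! Groups with class sizes `1, p^a, q^b, p^a q^b` are nilpotent (Camina). -/

set_option autoImplicit false

namespace Cfsg.Agent.Small.Mn4

open Subgroup Cfsg Cfsg.Agent.BG Cfsg.Agent.Gen2 Cfsg.Agent.FG Cfsg.Agent.Small.Mmn
open scoped commutatorElement Pointwise

variable {G : Type*} [Group G] [Finite G] {m n p q r t l : ℕ} {x y s k g u w : G}

structure PQ (G : Type*) [Group G] (m n p q : ℕ) : Prop extends T4 G m n where
  hp : p.Prime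
  hq : q.Prime
  em : ∃ a, m = p ^ a
  en : ∃ b, n = q ^ b

omit [Finite G] in
theorem PQ.sym (h : PQ G m n p q) : PQ G n m q p := ⟨h.toT4.symm, h.hq, h.hp, h.en, h.em⟩

omit [Finite G] in
theorem PQ.eq (h : PQ G m n p q) (hr : r.Prime) (d : r ∣ m) : r = p :=
  let ⟨_, e⟩ := h.em; (Nat.prime_dvd_prime_iff_eq hr h.hp).1 (hr.dvd_of_dvd_pow (e ▸ d))

omit [Finite G] in
theorem PQ.d (h : PQ G m n p q) : p ∣ m :=
  let ⟨_, hr, d⟩ := Nat.exists_prime_and_dvd h.hm.ne'; h.eq hr d ▸ d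

omit [Finite G] in
theorem PQ.ne (h : PQ G m n p q) : p ≠ q := fun e => h.nd h.hp h.d (e ▸ h.sym.d)

theorem PQ.cen (h : PQ G m n p q) (hr : r.Prime) (rp : r ≠ p) (rq : r ≠ q) (pk : PiElt {r} k) : k ∈ center G :=
  h.central hr (fun d => rp (h.eq hr d)) (fun d => rq (h.sym.eq hr d)) pk

theorem PQ.exP (h : PQ G m n p q) (g : G) : ∃ s ∈ C1[g], s ∉ center G ∧ PiElt {p} s := by
  obtain ⟨x, hx⟩ := h.ex
  obtain ⟨r, hr, d, s, c, ns, ps⟩ := h.Zc hx
  exact h.eq hr d ▸ h.tr hr d hx.symm.dvd c ns ps g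

theorem PQ.solv (h : PQ G m n p q) : Group.IsSolvable G := by
  have h1 := piNat_relIndex (π := {p, q}) (E := center G) (D := ⊤) fun r hr nr y _ py =>
    h.cen hr (fun e => nr (Or.inl e)) (fun e => nr (Or.inr e)) py
  rw [relIndex_top_right] at h1
  have n0 : (center G).index ≠ 0 := index_ne_zero_of_finite
  obtain ⟨a, ea⟩ := (p_natP h.hp).1 (partn_pnat {p} (center G).index)
  obtain ⟨b, eb⟩ := (p_natP h.hq).1 (fun r hr d => (h1 r hr (d.trans (partn_dvd_self _ _))).resolve_left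
    (partn_pnat {p}ᶜ (center G).index r hr d) : PiNat {q} (partn {p}ᶜ (center G).index))
  have := S0144.result (G := G ⧸ center G) p q a b h.hp h.hq (by rw [← ea, ← eb, partnC _ n0]; rfl)
  have : Group.IsSolvable (center G) := abelian_sol (A := center G) inferInstance
  exact Group.isSolvable_of_ker_le_range (center G).subtype (QuotientGroup.mk' (center G)) (by simp)

theorem PQ.pe (h : PQ G m n p q) (hx : x ∈ pCore p G) : PiElt {p} x :=
  have := Fact.mk h.hp
  mem_p_elt (BG.IsPGroup.pi (Solv.isPGroup_pCore p G)) hx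

theorem PQ.WX (h : PQ G m n p q) (hx : C1[x].index ∣ m) : pCore q G ≤ C1[x] :=
  have := Fact.mk h.hq
  le_cent_of_coprime (pnat_coprime (BG.IsPGroup.pi (Solv.isPGroup_pCore q G))
    (((p'natE h.hq).2 (h.sym.nd h.hq h.sym.d)).of_dvd hx))

theorem PQ.inV (h : PQ G m n p q) (px : PiElt {p} x) (h1 : pCore p G ≤ C1[x]) (h2 : pCore q G ≤ C1[x]) :
    x ∈ pCore p G := by
  have := h.solv
  have := Fact.mk h.hp
  have : fittingSubgroup G ≤ C1[x] := by
    rw [Solv.fitting_eq_iSup_pCore]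
    refine iSup_le fun ⟨r, hr⟩ => ?_
    by_cases e : r = p
    · exact e ▸ h1
    by_cases e' : r = q
    · exact e' ▸ h2
    have := Fact.mk hr
    exact fun y hy => center_le_centralizer _ (h.cen hr e e' (mem_p_elt (BG.IsPGroup.pi (Solv.isPGroup_pCore r G)) hy))
  exact Solv.le_pCore_of_le_fitting (PiNat.pg (p_elt_zpowers.2 px))
    (zpowers_le.2 (Solv.centralizer_fitting_le fun a ha => Gen2.mem_cent.1 (this ha))) (mem_zpowers x)

theorem PQ.cV (h : PQ G m n p q) (px : PiElt {p} x) (z : x ∈ center G) : x ∈ pCore p G :=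
  h.inV px (by rw [cent_eq_top_iff.2 z]; exact le_top) (by rw [cent_eq_top_iff.2 z]; exact le_top)

theorem PQ.good (h : PQ G m n p q) (ps : PiElt {p} s) (hs : m ∣ C1[s].index) (pk : PiElt {q} k) (c : s ∈ C1[k]) :
    pCore p G ≤ C1[k] := by
  have := Fact.mk h.hp
  have hU := Solv.isPGroup_pCore p G
  have pk' : PiElt {p}ᶜ k := pe_ne h.ne.symm pk
  refine pxq hU ps pk' c (nN _ _) (nN _ _) (le_of_norm (D := C1[s]) inf_le_right
    (normsI (fun a _ => nN _ a) le_normalizer) ?_)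
  exact pnat_coprime (BG.IsPGroup.pi (hU.to_inf_left (K := C1[s])))
    (((p'natE h.hp).2 (h.nd h.hp h.d)).of_dvd (h.dvd hs (mem_cent_comm.1 c) (pnat_coprime ps pk')))

theorem PQ.aa (h : PQ G m n p q) (a : ∃ s : G, PiElt {p} s ∧ C1[s].index = m)
    (b : ∀ s : G, PiElt {p} s → C1[s].index ≠ n) [Fact q.Prime] (Q : Sylow q G) : (Q : Subgroup G).Normal := by
  obtain ⟨s, ps, hs⟩ := a
  have := Fact.mk h.hp
  obtain ⟨a, ea⟩ := h.em
  have sV := mem_pCore_of_cs (exists_pow_of_piElt ps) (hs.trans ea)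
  have k1 : ∀ k, PiElt {q} k → k ∈ C1[s] := fun k pk => by
    obtain ⟨t, c, nt, pt⟩ := h.exP k
    refine mem_cent_comm.1 (h.good pt ?_ pk c sV)
    rcases h.cs t nt with e | e | e
    exacts [e.symm.dvd, absurd e (b t pt), e ▸ dvd_mul_right m n]
  have qe : ∀ k ∈ (Q : Subgroup G), PiElt {q} k := fun k hk => mem_p_elt (BG.IsPGroup.pi Q.isPGroup') hk
  have k2 : C1[s] ≤ N[(Q : Subgroup G)] := by
    refine relIndex_eq_one.1 (pnat_1 (π := {q}) (piNat_relIndex fun r hr nr y hy py => centralizer_le_normalizer _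
      fun k hk => ?_) ((p'natE h.hq).2 fun d => ?_))
    · by_cases e : r = p
      · subst e
        exact (Gen2.mem_cent.1 (jlem (fun y hy py d => h.nd h.hp h.d (d.trans (h.dvd hs.symm.dvd hy (pnat_coprime ps py))))
          hy (k1 k (qe k hk)) py (pe_ne h.ne.symm (qe k hk)))).symm
      · exact mem_center_iff.1 (h.cen hr e nr py) k
    · refine not_dvd_index_of_sylow_le (H := N[(Q : Subgroup G)] ⊓ C1[s]) Q
        (le_inf le_normalizer fun k hk => k1 k (qe k hk)) ?_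
      rw [← relIndex_mul_index inf_le_right, inf_relIndex_right]
      exact d.mul_right _
  exact ⟨fun k hk g => mem_sylow_of_mem_normalizer Q (exists_pow_of_piElt (p_eltJ.2 (qe k hk)))
    (k2 (k1 _ (p_eltJ.2 (qe k hk))))⟩

structure BB (G : Type*) [Group G] (m n p q : ℕ) : Prop extends PQ G m n p q where
  na : ∀ s : G, PiElt {p} s → C1[s].index ≠ m
  nb : ∀ s : G, PiElt {q} s → C1[s].index ≠ n

omit [Finite G] in
theorem BB.sy (h : BB G m n p q) : BB G n m q p := ⟨h.sym, h.nb, h.na⟩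

omit [Finite G] in
theorem BB.dq (h : BB G m n p q) (pk : PiElt {q} k) (nk : k ∉ center G) : m ∣ C1[k].index := by
  rcases h.cs k nk with e | e | e
  exacts [e.symm.dvd, absurd e (h.nb k pk), e ▸ dvd_mul_right m n]

theorem BB.bad (h : BB G m n p q) (pk : PiElt {q} k) (bk : ¬ pCore p G ≤ C1[k]) (ps : PiElt {p} s) (ns : s ∉ center G)
    (c : s ∈ C1[k]) : C1[s].index = n :=
  (h.symm.up (h.sy.dq ps ns)).resolve_right fun e => bk (h.good ps (e ▸ dvd_mul_left m n) pk c)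

theorem PQ.L (h : PQ G m n p q) (hW : ∀ w ∈ pCore q G, w ∉ center G → C1[w].index = m) (ps : PiElt {p} s)
    (hs : C1[s].index = n) (hw : w ∈ pCore q G) (nw : w ∉ center G) (c : w ∈ C1[s]) : pCore q G ≤ C1[s] := by
  have idx : ∀ a ∈ pCore q G, a ∉ center G → (C1[a] ⊓ C1[s]).index = m * n := fun a ha na => by
    rw [index_inf_cop (by rw [hW a ha na, hs]; exact h.co), hW a ha na, hs]
  have key : ∀ a ∈ pCore q G, a ∉ C1[s] → C1[a] ⊓ C1[s] = C1[⁅a, s⁆] ⊓ C1[s] := fun a ha na => by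
    refine eq_of_idx (fun g hg => ⟨Gen2.mem_cent.2 ?_, hg.2⟩) ((idx a ha fun z => na (center_le_centralizer _ z)).trans
      (idx _ (PGrp.commutator_mem_of_normal_left ha s) fun z =>
        na (comm_of_central (pnat_coprime (h.sym.pe ha) (pe_ne h.ne ps)) z)).symm)
    have c1 : Commute g a := Gen2.mem_cent.1 hg.1
    have c2 : Commute g s := Gen2.mem_cent.1 hg.2
    exact (((c1.mul_right c2).mul_right c1.inv_right).mul_right c2.inv_right).eq
  intro a ha
  by_contra na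
  have e1 : ⁅a * w, s⁆ = ⁅a, s⁆ := by
    have := Gen2.mem_cent.1 c
    calc _ = a * (w * s) * w⁻¹ * a⁻¹ * s⁻¹ := by rw [commutatorElement_def]; group
      _ = _ := by rw [this, commutatorElement_def]; group
  have e2 := key (a * w) (mul_mem ha hw) fun H => na ((mul_mem_cancel_right c).1 H)
  rw [e1, ← key a ha na] at e2
  have e3 : C1[a] ⊓ C1[s] = C1[w] ⊓ C1[s] := eq_of_idx (fun g hg => ⟨Gen2.mem_cent.2 (by
    have c1 := Gen2.mem_cent.1 hg.1
    have c2 := Gen2.mem_cent.1 (e2.ge hg).1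
    rw [← mul_assoc, c1, mul_assoc, mul_assoc] at c2
    exact mul_left_cancel c2), hg.2⟩) ((idx a ha fun z => na (center_le_centralizer _ z)).trans (idx w hw nw).symm)
  exact na (mem_cent_comm.1 (e3.ge ⟨mem_cent_comm.1 c, self_mem_cent s⟩).1)

theorem PQ.VW (h : PQ G m n p q) (hw : w ∈ pCore q G) : pCore p G ≤ C1[w] := fun v hv => by
  have := Fact.mk h.hp
  have := Fact.mk h.hq
  exact (Gen2.mem_cent.2 (normal_pi_cent (normal_top (pCore p G)) (normal_top (pCore q G))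
    (BG.IsPGroup.pi (Solv.isPGroup_pCore p G)) (p'group_of_ne (Solv.isPGroup_pCore q G) h.ne.symm) hv w hw).symm)

theorem BB.card (h : BB G m n p q) (hw : w ∈ pCore q G) (nw : w ∉ center G) {P : Subgroup G} (hP : SylowIn p P C1[k]) :
    #(pCore p G) ≤ #P := by
  have := Fact.mk h.hp
  rw [card_Hall hP]
  exact (Nat.le_of_dvd (partn_pos _ _) (dvd_partn Nat.card_pos.ne' (BG.IsPGroup.pi (Solv.isPGroup_pCore p G))
    (card_dvd_of_le (h.VW hw)))).trans (h.part h.hp h.d (h.dq (h.sym.pe hw) nw) k)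

theorem BB.G1 (h : BB G m n p q) (hw : w ∈ pCore q G) (nw : w ∉ center G) (pk : PiElt {q} k)
    (bk : ¬ pCore p G ≤ C1[k]) : ∃ s ∈ C1[k], PiElt {p} s ∧ ¬ pCore q G ≤ C1[s] := by
  by_contra! H
  have := Fact.mk h.hp
  obtain ⟨P, hP⟩ := Sylow_exists p C1[k]
  have l : P ≤ pCore p G := fun s hs => by
    have ps := mem_p_elt hP.pi hs
    by_cases z : s ∈ center G
    exacts [h.cV ps z, h.inV ps (h.sym.WX (h.bad pk bk ps z (hP.le hs)).dvd) (H s (hP.le hs) ps)]
  exact bk (eq_of_le_of_card_ge l (h.card hw nw hP) ▸ hP.le)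

omit [Finite G] in
theorem nc_of_bad {U : Subgroup G} (b : ¬ U ≤ C1[k]) : k ∉ center G := fun z => b (by rw [cent_eq_top_iff.2 z]; exact le_top)

omit [Finite G] in
theorem ex_of_bad {U : Subgroup G} (b : ¬ U ≤ C1[k]) : ∃ w ∈ U, w ∉ center G :=
  SetLike.not_le_iff_exists.1 fun l => b (l.trans (center_le_centralizer _))

theorem BB.A (h : BB G m n p q) (H : ∀ k : G, PiElt {q} k → pCore p G ≤ C1[k]) : False := by
  obtain ⟨t, pt, bt⟩ : ∃ t : G, PiElt {p} t ∧ ¬ pCore q G ≤ C1[t] := by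
    by_contra! H'
    obtain ⟨r, x, hr, d, px, hx⟩ := h.exX
    obtain rfl := h.sym.eq hr (d.resolve_left fun d => h.na x (h.eq hr d ▸ px) hx)
    have xW := h.sym.inV px (h.WX hx.dvd) (H x px)
    refine (piNat_relIndex (π := {p}ᶜ) (E := C1[x]) (D := ⊤) fun p' _ np y _ py => ?_).not_dvd h.hp (by simp)
      (by rw [relIndex_top_right, hx]; exact h.d)
    obtain rfl : p' = p := by simpa using np
    exact mem_cent_comm.1 (H' y py xW)
  have VZ : pCore p G ≤ center G := fun v hv => by_contra fun nv =>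
    let ⟨k, _, pk, bk⟩ := h.sy.G1 hv nv pt bt; bk (H k pk)
  have ab : ∀ s : G, PiElt {p} s → s ∉ center G → ¬ pCore q G ≤ C1[s] := fun s ps ns l =>
    ns (VZ (h.inV ps (VZ.trans (center_le_centralizer _)) l))
  obtain ⟨r, x, hr, d, px, hx⟩ := h.symm.exX
  obtain rfl := h.eq hr (d.resolve_left fun d => h.nb x (h.sym.eq hr d ▸ px) hx)
  have bx := ab x px (h.symm.nc hx.symm.dvd)
  obtain ⟨k, c, nk, pk⟩ := h.sym.exP x
  refine bx (h.L (fun w hw nw => ?_) px hx (h.sym.inV pk (h.WX (h.sy.bad px bx pk nk c).dvd) (H k pk)) nk c)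
  obtain ⟨s, c, ns, ps⟩ := h.exP w
  exact h.sy.bad ps (ab s ps ns) (h.sym.pe hw) nw (mem_cent_comm.1 c)

theorem BB.VX (h : BB G m n p q) (hs : C1[s].index = n) (bs : ¬ pCore q G ≤ C1[s]) :
    ∀ v ∈ pCore p G, v ∉ center G → C1[v].index = n := fun v hv nv =>
  (h.symm.up (h.sy.dq (h.pe hv) nv)).resolve_right fun e => bs fun w hw => mem_cent_comm.1
    (h.symm.leY e (h.sym.VW hv hw) (pnat_coprime (h.pe hv) (pe_ne h.ne.symm (h.sym.pe hw)))
      (mem_cent_comm.1 (h.sym.WX hs.dvd hv)))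

theorem BB.I (h : BB G m n p q) (pk : PiElt {q} k) (bk : ¬ pCore p G ≤ C1[k]) (hk : C1[k].index = m)
    (hV : ∀ v ∈ pCore p G, v ∉ center G → C1[v].index = n) (hW : ∀ w ∈ pCore q G, w ∉ center G → C1[w].index = m)
    (hw : w ∈ pCore q G) (nw : w ∉ center G) : (center G).relIndex (pCore p G) ≤ (center G).relIndex (pCore q G) := by
  have := Fact.mk h.hp
  obtain ⟨P, hP⟩ := Sylow_exists p C1[k]
  have k1 : ∀ s ∈ P, ⁅s, w⁆ ∈ center G → s ∈ center G := fun s hs z => by_contra fun ns => by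
    have ps := mem_p_elt hP.pi hs
    have i := h.bad pk bk ps ns (hP.le hs)
    exact bk (h.sym.L hV pk hk (h.inV ps (h.sym.WX i.dvd) (h.L hW ps i hw nw (mem_cent_comm.1
      (comm_of_central (pnat_coprime ps (pe_ne h.ne.symm (h.sym.pe hw))) z)))) ns (hP.le hs))
  have e1 : center G ⊓ pCore p G = center G ⊓ P := le_antisymm (le_inf inf_le_left (normal_sub_Hall hP
    ⟨inf_le_left.trans (center_le_centralizer _), fun g _ => centralizer_le_normalizer _ fun a ha =>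
      (mem_center_iff.1 ha.1 g).symm⟩ (pgroupS inf_le_right (BG.IsPGroup.pi (Solv.isPGroup_pCore p G)))))
    fun a ha => ⟨ha.1, h.cV (mem_p_elt hP.pi ha.2) ha.1⟩
  have l1 : (center G).relIndex (pCore p G) ≤ (center G).relIndex P := by
    have := h.card hw nw hP
    rw [← card_inf_mul_relIndex (center G) (pCore p G), ← card_inf_mul_relIndex (center G) P, e1] at this
    exact Nat.le_of_mul_le_mul_left this Nat.card_pos
  refine l1.trans ?_
  set f := QuotientGroup.mk' (center G) with hf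
  have sf : Function.Surjective f := QuotientGroup.mk'_surjective _
  have e2 : ∀ H : Subgroup G, (center G).relIndex H = #(H.map f) := fun H => by
    rw [← relIndex_ker, QuotientGroup.ker_mk']
  have e3 : C1[f w] ⊓ P.map f = ⊥ := eq_bot_iff.2 (by
    rintro _ ⟨c, s, hs, rfl⟩
    refine (QuotientGroup.eq_one_iff s).2 (k1 s hs ((QuotientGroup.eq_one_iff _).1 ?_))
    change f ⁅s, w⁆ = 1
    rw [map_commutatorElement, commutatorElement_eq_one_iff_mul_comm]; exact Gen2.mem_cent.1 c)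
  have := (inferInstance : (pCore q G).Normal).map f sf
  rw [e2, e2, ← relIndex_bot_left, ← e3, inf_relIndex_right, ← ncard_conj_by, ← Nat.card_coe_set_eq]
  refine Nat.card_mono (Set.toFinite _) ?_
  rintro _ ⟨g, -, rfl⟩
  exact this.conj_mem _ (mem_map_of_mem f hw) g

theorem BB.false (h : BB G m n p q) : False := by
  by_cases H : ∀ k : G, PiElt {q} k → pCore p G ≤ C1[k]
  · exact h.A H
  by_cases H' : ∀ k : G, PiElt {p} k → pCore q G ≤ C1[k]
  · exact h.sy.A H'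
  push Not at H H'
  obtain ⟨k, pk, bk⟩ := H
  obtain ⟨t, -, bt⟩ := H'
  obtain ⟨v, hv, nv⟩ := ex_of_bad bk
  obtain ⟨w, hw, nw⟩ := ex_of_bad bt
  obtain ⟨s, c, ps, bs⟩ := h.G1 hw nw pk bk
  have i1 := h.bad pk bk ps (nc_of_bad bs) c
  have i2 := h.sy.bad ps bs pk (nc_of_bad bk) (mem_cent_comm.1 c)
  have e := le_antisymm (h.I pk bk i2 (h.VX i1 bs) (h.sy.VX i2 bk) hw nw)
    (h.sy.I ps bs i1 (h.sy.VX i2 bk) (h.VX i1 bs) hv nv)
  have := Fact.mk h.hp
  have := Fact.mk h.hq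
  exact nv (relIndex_eq_one.1 (pnat_1 ((BG.IsPGroup.pi (Solv.isPGroup_pCore p G)).of_dvd (relIndex_dvd_card _ _))
    (e ▸ (p'group_of_ne (Solv.isPGroup_pCore q G) h.ne.symm).of_dvd (relIndex_dvd_card _ _))) hv)

theorem PQ.nil (h : PQ G m n p q) : Group.IsNilpotent G := by
  have ex : ∀ {m n p q}, PQ G m n p q → (∃ s : G, PiElt {p} s ∧ C1[s].index = m) ∨ ∃ s : G, PiElt {q} s ∧ C1[s].index = m :=
    fun h => by
      obtain ⟨r, x, hr, d, px, hx⟩ := h.exX
      exact d.imp (fun d => ⟨x, h.eq hr d ▸ px, hx⟩) fun d => ⟨x, h.sym.eq hr d ▸ px, hx⟩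
  have ab : ∀ {m n p q}, PQ G m n p q → (∃ s : G, PiElt {q} s ∧ C1[s].index = n) → ∀ s : G, PiElt {q} s → C1[s].index ≠ m :=
    fun h ⟨u, pu, hu⟩ s ps hs => h.ab h.hq h.sym.d h.hq h.sym.d hs ps hu pu
  have st : ∀ {m n p q}, PQ G m n p q → (∃ s : G, PiElt {p} s ∧ C1[s].index = m) →
      ∃ s : G, PiElt {q} s ∧ C1[s].index = n := fun h a =>
    (ex h.sym).resolve_right fun ⟨s, ps, hs⟩ => ab h.sym a s ps hs
  by_cases a : ∃ s : G, PiElt {p} s ∧ C1[s].index = m
  · have b := st h a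
    refine Solv.isNilpotent_of_forall_sylow_normal fun r hr P => ?_
    by_cases e : r = q
    · subst e; exact h.aa a (ab h.sym a) P
    by_cases e' : r = p
    · subst e'; exact h.sym.aa b (ab h b) P
    exact ⟨fun y hy g => by
      rwa [mem_center_iff.1 (h.cen hr.out e' e (mem_p_elt (BG.IsPGroup.pi P.isPGroup') hy)) g, mul_inv_cancel_right]⟩
  · exact (BB.false ⟨h, fun s ps hs => a ⟨s, ps, hs⟩, fun s ps hs => a (st h.sym ⟨s, ps, hs⟩)⟩).elim

theorem T4.nil (h : T4 G m n) : Group.IsNilpotent G := by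
  obtain ⟨p, a, hp, -, ea⟩ := (isPrimePow_nat_iff m).1 h.symm.pp
  obtain ⟨q, b, hq, -, eb⟩ := (isPrimePow_nat_iff n).1 h.pp
  exact PQ.nil ⟨h, hp, hq, ⟨a, ea.symm⟩, ⟨b, eb.symm⟩⟩

end Cfsg.Agent.Small.Mn4
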