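import Cfsg.Agent.Small.Shp
import Cfsg.Agent.F24T.Thm

/-! Groups of `Fi24'`-type (helper9): the stabiliser of `x0` in `Xs` is `O-(6,2)` (`stab_iso`), `St.stab_iff`,
`equiv_of_ker`, evaluation of words on codes (`evL`, `IR_evL`). -/

set_option autoImplicit false

namespace Cfsg.Agent.F24T
open Cfsg.Agent.Comp Subgroup MulAction J4T Known Small

theorem equiv_of_ker {M A B : Type*} [Group M] [Group A] [Group B] {f : M →* A} {g : M →* B}
    (hf : Function.Surjective f) (hg : Function.Surjective g) (h : ∀ m, f m = 1 ↔ g m = 1) : Nonempty (A ≃* B) :=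
  ⟨(QuotientGroup.quotientKerEquivOfSurjective f hf).symm.trans ((QuotientGroup.quotientMulEquivOfEq (ext h)).trans
    (QuotientGroup.quotientKerEquivOfSurjective g hg))⟩

def evL (one : ℕ) (L w : List ℕ) : ℕ := List.rec one (fun x _ ih => mulM ih (nthL one L x)) w

theorem IR_evL {n one : ℕ} {L : List ℕ} {g : ℕ → MulAut (XV n)} (hn : n ≤ 12) (h1 : one = oneN n)
    (h : ∀ i, MR n (nthL one L i) (g i)) (w : List ℕ) : MR n (evL one L w) (Spor.ev g w) := by
  induction w with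
  | nil => exact h1 ▸ MR.one hn
  | cons a w ih => exact MR.mul hn ih (h a)

def L6 : List ℕ := [0x3d7169cbe4d7e3e7177c79497d3961ebc7d4, 0x300100c0040000800c0010020800c0010020,
   0x1663ddcbb866e8b94692671deb39629647dc, 0x17e3e9c9787ee939727c9e87729e1797c7e8,
   0x1ff3aac558ff78ae4572ae157a2e517a8e54, 0x80040020010000100300c0080100300c0080]

theorem stab_iso (hX : Nat.card Xs = 19595520) :
    Nonempty (↥(Xs ⊓ stabilizer (MulAut (XV 12)) (XV.mk' 12 x0)) ≃* O6mP.G) := by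
  have c6 : CodesIn IR L6 Xs := (codes_of_okI (by decide +kernel)).mono (closure_le_of_words codesX
    [[5,1,4,2,0,10,4,6,6,5,0,3,7,1,8,7,5,7,1,3,1],[6,3,7,3,0,4,6,6,10,2,5,2,4,3,5],[3,0,6,1,7,4,0,7,1,5,0,3,0,6,4,
  2,5,7,0],[4,7,0,6,3,0,2,0,3,0,6,4,2,5,7,0],[4,2,5,5,5,3,5,0,2,5,5,5,0,4,4,7,4,2,4,6,5],[6,2,7,3,1,2,2,4,3,5]] (by decide +kernel))
  obtain ⟨g, hg, hr⟩ := isGrp_IR.exists_elts c6
  have fx : ∀ i, g i ∈ stabilizer (MulAut (XV 12)) (XV.mk' 12 x0) := fun i => by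
    refine ((hr i).1.mk'_eq (by decide)).trans (congrArg _ ?_)
    rcases nthL_mem_or one12 L6 i with h | h
    · exact (by decide +kernel : ∀ c ∈ L6, app c x0 = x0) _ h
    · rw [h]; decide +kernel
  have ev := IR_evL le_rfl one12_eq fun i => (hr i).1
  have e1 : ∀ w, (Spor.ev (fun i => (⟨g i, hg i, fx i⟩ : ↥(Xs ⊓ stabilizer _ (XV.mk' 12 x0)))) w).1 = Spor.ev g w :=
    fun w => Spor.map_ev (Subgroup.subtype _) _ w
  obtain ⟨φ, hφ⟩ := O6mP.lifts _ (fun i => (⟨g i, hg i, fx i⟩ : ↥(Xs ⊓ stabilizer _ (XV.mk' 12 x0)))) fun r h =>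
    Subtype.ext ((e1 r).trans ((ev r).func (by
      rw [(by decide +kernel : ∀ r ∈ O6mP.rels, evL one12 L6 r = one12) r h]; exact ev [])))
  have inj : φ.ker = ⊥ := by_contra fun h => by
    have := o6.1 _ inferInstance h (O6mP.g 1 * O6mP.g 0)
    rw [MonoidHom.mem_ker, map_mul, map_mul, hφ 0 (by decide), hφ 1 (by decide)] at this
    have e : Spor.ev g [0, 1, 0, 1] = Spor.ev g [] := by simpa [mul_assoc] using congrArg Subtype.val this
    exact absurd ((e ▸ ev [0, 1, 0, 1]).canon le_rfl (ev [])) (by decide +kernel)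
  exact ⟨(MulEquiv.ofBijective φ (((MonoidHom.ker_eq_bot_iff φ).1 inj).bijective_of_nat_card_le
    (by rw [card_stab_x hX, O6mP.card]))).symm⟩

variable {G : Type*} [Group G] {z p : G} {θ : ℕ → G} {μ : centralizer ({z} : Set G) →* MulAut (XV 12)}
  {X : Subgroup (MulAut (XV 12))}

theorem St.stab_iff (S : St X z p θ μ) {s : ℕ} (hs : s < 4096) (h : centralizer ({z} : Set G)) :
    μ h (XV.mk' 12 s) = XV.mk' 12 s ↔ h * θ s * h⁻¹ = θ s ∨ h * θ s * h⁻¹ = θ s * z := by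
  obtain ⟨c, hc⟩ := S.exists_IR h
  obtain ⟨b, hb, e⟩ := S.act' h hc.1 (x := s) (by omega)
  rw [hc.1.mk'_eq hs, e]
  refine ⟨fun k => ?_, fun k => congrArg _ (k.elim
    (fun k => (S.toFr.cancel (b := 0) (app_lt _ _) hs hb two_pos (by simpa using k)).1)
    fun k => (S.toFr.cancel (b := 1) (app_lt _ _) hs hb one_lt_two (by simpa using k)).1)⟩
  have := congrArg XV.val k
  rw [XV.mk'_val (app_lt _ _), XV.mk'_val hs] at this
  rw [this]
  interval_cases b <;> simp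

end Cfsg.Agent.F24T
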