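import Cfsg.Agent.Small.F24O
import Cfsg.Agent.J4F.Trio
import Cfsg.Agent.GW.D8A6
import Cfsg.Agent.Spor.MAct
import Cfsg.Agent.Comp.ES
import Cfsg.Agent.Gen2.FixCount

/-! Groups of `Fi24'`-type (helper9): the `2`-local subgroup `2^{3+12}.(L₃(2) × A₆)` (`St.trio`); `prod_quot`
(a criterion for `N/O₂(N)` to be a direct product of two simple groups), `Y3 = 2^4 : A₆` (`exπ3`). -/

set_option autoImplicit false

namespace Cfsg.Agent.F24T
open Cfsg.Agent.Comp Subgroup MulAction J4T Small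
open scoped commutatorElement

theorem prod_quot {N S A : Type*} [Group N] [Finite N] [Group S] [Group A] [IsSimpleGroup S] [IsSimpleGroup A]
    (hS : ¬ IsMulCommutative S) (hA : ¬ IsMulCommutative A) {γ : N →* S} (hγ : Function.Surjective γ)
    {π : γ.ker →* A} (hπ : Function.Surjective π) (h2 : IsPGroup 2 π.ker) {e : N} (he : γ e ≠ 1)
    (h : ∀ c c' : γ.ker, c'.1 = e * c * e⁻¹ → π c' = π c) :
    pCore 2 N = π.ker.map γ.ker.subtype ∧ Nonempty (N ⧸ pCore 2 N ≃* S × A) := by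
  have := Fact.mk Nat.prime_two
  have := Finite.of_surjective _ hγ
  have := Finite.of_surjective _ hπ
  have h1 : pCore 2 N = π.ker.map γ.ker.subtype := by
    rw [← Comp.pCore_eq_ker hπ h2 (Gen2.pCore_eq_bot_of_isSimpleGroup hA 2), Solv.map_subtype_pCore, eq_comm, inf_eq_left,
      ← Subgroup.map_eq_bot_iff]
    have := (inferInstance : (pCore 2 N).Normal).map γ hγ
    exact Solv.eq_bot_of_pCore_eq_bot (Gen2.pCore_eq_bot_of_isSimpleGroup hS 2) ((Solv.isPGroup_pCore 2 N).map γ)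
  have hR : ∀ c : γ.ker, π c = 1 ↔ c.1 ∈ pCore 2 N := fun c => h1 ▸ (mem_map_iff_mem (K := π.ker) (subtype_injective _)).symm
  have hC : pCore 2 N ≤ γ.ker := h1 ▸ map_subtype_le _
  refine ⟨h1, ?_⟩
  let q := QuotientGroup.mk' (pCore 2 N)
  have hq : ∀ c c' : γ.ker, q c = q c' ↔ π c = π c' := fun c c' => by
    rw [← inv_mul_eq_one (a := π c), ← map_inv, ← map_mul, hR]; exact QuotientGroup.eq
  have := (inferInstance : γ.ker.Normal).map q (QuotientGroup.mk'_surjective _)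
  let K := (centralizer (γ.ker.map q : Set (N ⧸ pCore 2 N))).comap q
  have hK : K.map γ = ⊤ := (((inferInstance : K.Normal).map γ hγ).eq_bot_or_eq_top).resolve_left fun k =>
    he ((Subgroup.map_eq_bot_iff _).1 k (by
      rintro _ ⟨c, hc, rfl⟩
      rw [eq_comm, ← mul_inv_eq_iff_eq_mul, ← map_inv, ← map_mul, ← map_mul]
      exact (hq ⟨_, (inferInstance : γ.ker.Normal).conj_mem c hc e⟩ ⟨c, hc⟩).2 (h _ _ rfl)))
  have k1 : ∀ k : γ.ker, k.1 ∈ K → π k = 1 := fun k hk => by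
    refine ((inferInstance : (center A).Normal).eq_bot_or_eq_top.resolve_right fun e => hA
      ⟨⟨fun a b => (mem_center_iff.1 (e.ge (mem_top b)) a)⟩⟩).le (mem_center_iff.2 fun a => ?_)
    obtain ⟨c, rfl⟩ := hπ a
    rw [← map_mul, ← map_mul, ← hq]
    exact hk _ ⟨c, c.2, rfl⟩
  refine equiv_of_ker (f := (q.comp K.subtype).noncommCoprod (q.comp γ.ker.subtype) fun k c => (k.2 _ ⟨c, c.2, rfl⟩).symm)
    (g := (γ.comp K.subtype).prodMap π) (fun n => ?_) (fun ⟨s, a⟩ => ?_) fun ⟨k, c⟩ => ?_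
  · obtain ⟨n, rfl⟩ := QuotientGroup.mk'_surjective _ n
    obtain ⟨k, hk, e⟩ := hK.ge (mem_top (γ n))
    exact ⟨(⟨k, hk⟩, ⟨k⁻¹ * n, by simp [MonoidHom.mem_ker, e]⟩), (map_mul q _ _).symm.trans (by simp [q])⟩
  · obtain ⟨k, hk, rfl⟩ := hK.ge (mem_top s)
    obtain ⟨c, rfl⟩ := hπ a
    exact ⟨(⟨k, hk⟩, c), rfl⟩
  · rw [Prod.ext_iff]
    refine (show _ ↔ k.1 * c.1 ∈ pCore 2 N from QuotientGroup.eq_one_iff _).trans ⟨fun e => ?_, fun e => ?_⟩
    · have e1 := (mul_mem_cancel_right c.2).1 (hC e)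
      exact ⟨e1, (hR c).2 ((mul_mem_cancel_left ((hR ⟨_, e1⟩).1 (k1 _ k.2))).1 e)⟩
    · exact mul_mem ((hR ⟨_, e.1⟩).1 (k1 _ k.2)) ((hR c).1 e.2)

def LO : List ℕ := [0x800400200100080040020010008004002001, 0x800400200100002001008004020010080040,
  0x8554ff2ff1aad8ab45d2ab15da8b54da2b51, 0x8554ff2ff1aada2b51da8b54d2ab15d8ab45, 0x8ff4aa2551ff78ae4572ae157a8e547a2e51,
  0x8ff4aa2551ff7a2e517a8e5472ae1578ae45, 0x8aa4552aa155a2a515a8a545aa2551aa8554, 0x8aa4552aa155aa8554aa2551a8a545a2a515,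
  0x8aa4552aa155a8a545a2a515aa8554aa2551, 0x8aa4552aa155aa2551aa8554a2a515a8a545, 0x8ff4aa2551ff72ae1578ae457a2e517a8e54,
  0x8ff4aa2551ff7a8e547a2e5178ae4572ae15, 0x8554ff2ff1aad2ab15d8ab45da2b51da8b54, 0x8554ff2ff1aada8b54da2b51d8ab45d2ab15,
  0x800400200100020010080040002001008004, 0x800400200100008004002001080040020010]
/-- `O₂(Y3) = 2^4`. -/
def O3 : Subgroup (MulAut (XV 12)) := closure (genSet IR LO)
/-- the pointwise stabiliser of the `F₄`-point spanned by `s0`. -/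
abbrev Y3 : Subgroup (MulAut (XV 12)) := Xs ⊓ stabilizer _ (XV.mk' 12 85) ⊓ stabilizer _ (XV.mk' 12 170)
def sg3 : List ℕ := slpW mulM invM one12 [[2], [5, 3, 6, 2, 4, 2, 5, 3, 6, 2, 4], [1, 7, 1, 4, 6, 0, 3, 1, 7, 5, 0, 6, 0],
  [0, 6, 0, 4, 7, 1, 3, 0, 6, 5, 1, 7, 1], [14, 17, 18, 15], [2, 14, 2, 14], [2, 17, 2]] LX
def LY : List ℕ := fixL (fixL sg3 85) 170

theorem codesO : CodesIn IR LO O3 := codes_of_okI (by decide +kernel)
theorem listsO : Lists IR LO O3 := lists_of_closed isGrp_IR (by decide +kernel)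
theorem card_O3 : Nat.card O3 = 16 := (card_of_lists listsO codesO (by decide +kernel)).trans (by decide +kernel)
theorem O3_le : O3 ≤ Xs := ((codesT.mono (Ts_le.trans Bs_le)).of_subset (by decide +kernel)).closure_le isCanon_IR.func

section
variable (hX : Nat.card Xs = 19595520)
include hX

theorem sgs3 : SGS 12 1800 [5, 17, 256] LY Y3 :=
  (show SGS 12 1800 [85, 170, 5, 17, 256] sg3 Xs from
    ⟨by decide +kernel, (isGrp_IR.slpW _ codesX).toMR, hX.trans_le (by decide +kernel)⟩).stab.stab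

theorem codesY : CodesIn IR LY Y3 := fun c hc => let ⟨g, h1, h2⟩ := (sgs3 hX).codes c hc; ⟨g, h1, h2, Xs_le h1.1.1⟩

theorem Y3_le {K : Subgroup (MulAut (XV 12))} (h : ∀ c ∈ LY, ∀ g, IR c g → g ∈ K) : Y3 ≤ K :=
  (sgs3 hX).le.trans ((closure_le _).2 fun g ⟨c, hc, hg⟩ =>
    let ⟨_, _, h2⟩ := codesY hX c hc; h c hc g (h2.1.func hg ▸ h2))

theorem exπ3 : ∃ π : Y3 →* alternatingGroup (Fin 6), Function.Surjective π ∧ ∀ y, π y = 1 ↔ y.1 ∈ O3 := by
  have hO : O3 ≤ Y3 := fun a ha => by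
    obtain ⟨c, hc, e⟩ := listsO.forall (f := fun c => band (Nat.beq (app c 85) 85) (Nat.beq (app c 170) 170))
      (by decide +kernel) ha
    rw [band_eq, Bool.and_eq_true, nbeq, nbeq] at e
    exact ⟨⟨O3_le ha, (hc.1.mk'_eq (by decide)).trans (congrArg _ e.1)⟩, (hc.1.mk'_eq (by decide)).trans (congrArg _ e.2)⟩
  have hn : (O3.subgroupOf Y3).Normal := (normal_subgroupOf_iff_le_normalizer hO).2 (Y3_le hX fun c hc g hg =>
    mem_normalizer_fintype fun r hr => by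
      obtain ⟨d, hd, h⟩ := listsO r hr
      obtain ⟨a, ha, h'⟩ := codesO _ (memL_iff.1 (allL_iff.1 (allL_iff.1 (by decide +kernel : allL LY (fun c => allL LO
        fun d => memL (conjC mulM invM c d) LO) = true) c hc) d hd))
      exact isCanon_IR.func h' (isGrp_IR.conj hg h) ▸ ha)
  obtain ⟨g, hg, hr⟩ := isGrp_IR.exists_elts ((codesY hX).of_subset (L' := (sg3.drop 6).take 4) (by decide +kernel))
  have ev := IR_evL le_rfl one12_eq fun i => (hr i).1
  let q := QuotientGroup.mk' (O3.subgroupOf Y3)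
  have e1 : ∀ w, Spor.ev (fun i => q ⟨g i, hg i⟩) w = 1 ↔ memL (evL one12 ((sg3.drop 6).take 4) w) LO = true := fun w => by
    rw [← Spor.map_ev q, QuotientGroup.mk'_apply, QuotientGroup.eq_one_iff, mem_subgroupOf, memL_iff,
      show (Spor.ev (fun i => (⟨g i, hg i⟩ : Y3)) w).1 = Spor.ev g w from Spor.map_ev (Subgroup.subtype _) _ w]
    exact ⟨fun h => let ⟨c, h1, h2⟩ := listsO _ h; (h2.1.canon le_rfl (ev w)) ▸ h1,
      fun h => let ⟨a, h1, h2⟩ := codesO _ h; h2.1.func (ev w) ▸ h1⟩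
  obtain ⟨f, -, hf⟩ := Spor.carm_hom (n := 4) (y := fun i => q ⟨g i, hg i⟩) fun r hr => (e1 r).2 (by
    revert r; decide +kernel)
  have := alternatingGroup.isSimpleGroup (α := Fin 6) (by simp)
  obtain ⟨a, ha, -⟩ := hf 0
  have bij := (Spor.injective_of_simple f (x := a) fun e => absurd ((e1 [0]).1 (by
    simpa [Spor.ev] using ha.symm.trans e)) (by decide +kernel)).bijective_of_nat_card_le (by
      have h1 := card_eq_card_quotient_mul_card_subgroup (O3.subgroupOf Y3)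
      rw [Nat.card_congr (subgroupOfEquivOfLe hO).toEquiv, card_O3, (sgs3 hX).card_eq,
        show chainL _ _ _ _ _ = 5760 by decide +kernel] at h1
      rw [nat_card_alternatingGroup, Nat.card_fin]
      simp only [Nat.factorial]; omega)
  exact ⟨(MulEquiv.ofBijective f bij).symm.toMonoidHom.comp q, (MulEquiv.ofBijective f bij).symm.surjective.comp (QuotientGroup.mk'_surjective _),
    fun y => ((MulEquiv.ofBijective f bij).symm.map_eq_one_iff (x := q y)).trans (QuotientGroup.eq_one_iff _)⟩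
end

def tab (a : ℕ) : ℕ := nthL 0 [0, 85, 170, 255, 4096, 4181, 4266, 4351] a
theorem tab_lt : ∀ a < 8, tab a < 8192 := by decide +kernel

variable {G : Type*} [Group G] [Finite G] {z p : G} {θ : ℕ → G} {μ : centralizer ({z} : Set G) →* MulAut (XV 12)}

namespace St
variable (S : St Xs z p θ μ)

/-- the `2^3` generated by `z`, `θ s0`, `θ (ω s0)`. -/
def ι3 : XV 3 →* G := MonoidHom.mk' (fun v => θ (tab v.val)) fun a b => by
  rw [S.mul _ (tab_lt _ a.lt) _ (tab_lt _ b.lt),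
    (by decide +kernel : ∀ a < 8, ∀ b < 8, emul (tab a) (tab b) = tab (a ^^^ b)) _ a.lt _ b.lt]; rfl

omit [Finite G] in
theorem ι3_inj : Function.Injective S.ι3 := fun a b e => XV.ext ((by decide +kernel : ∀ a < 8, ∀ b < 8,
  tab a = tab b → a = b) _ a.lt _ b.lt (S.inj _ (tab_lt _ a.lt) _ (tab_lt _ b.lt) e))

omit [Finite G] in
theorem ι3_le {K : Subgroup G} (h0 : θ 85 ∈ K) (h1 : θ 170 ∈ K) (h2 : z ∈ K) : S.ι3.range ≤ K := by
  rintro _ ⟨v, rfl⟩
  rw [← XV.mk'_self v]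
  refine xind (n := 3) (P := fun a => S.ι3 (XV.mk' 3 a) ∈ K) (map_one S.ι3 ▸ K.one_mem) (fun i hi => ?_)
    (fun a ha b hb h h' => by rw [mk'_xor ha hb, map_mul]; exact mul_mem h h') _ v.lt
  interval_cases i
  exacts [h0, h1, S.hz ▸ h2]

omit [Finite G] in
theorem tab_mem {a : ℕ} (h : a < 8) : θ (tab a) ∈ S.ι3.range := ⟨⟨a, h⟩, rfl⟩
omit [Finite G] in
theorem z_mem : z ∈ S.ι3.range := S.hz ▸ S.tab_mem (a := 4) (by decide)
omit [Finite G] in
theorem card_ι3 : Nat.card S.ι3.range = 8 := by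
  rw [← Nat.card_congr (MonoidHom.ofInjective S.ι3_inj).toEquiv, XV.card]; rfl

omit [Finite G] in
theorem mem_C3 {g : G} : g ∈ centralizer (S.ι3.range : Set G) ↔
    g ∈ centralizer {z} ∧ g * θ 85 * g⁻¹ = θ 85 ∧ g * θ 170 * g⁻¹ = θ 170 := by
  simp only [mul_inv_eq_iff_eq_mul, mem_centralizer_singleton_iff]
  refine ⟨fun h => ⟨(h _ S.z_mem).symm, (h _ (S.tab_mem (a := 1) (by decide))).symm,
    (h _ (S.tab_mem (a := 2) (by decide))).symm⟩, fun h v hv => mem_centralizer_singleton_iff.1 ?_⟩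
  exact S.ι3_le (K := centralizer {g}) (mem_centralizer_singleton_iff.2 h.2.1.symm)
    (mem_centralizer_singleton_iff.2 h.2.2.symm) (mem_centralizer_singleton_iff.2 h.1.symm) hv

/-- the action of `N(V)` on `V = 2^3`. -/
noncomputable def δ3 : normalizer (S.ι3.range : Set G) →* MulAut (XV 3) :=
  (MulAut.congr (MonoidHom.ofInjective S.ι3_inj).symm).toMonoidHom.comp S.ι3.range.normalizerMonoidHom

omit [Finite G] in
theorem δ3_apply (n : normalizer (S.ι3.range : Set G)) (v : XV 3) : S.ι3 (S.δ3 n v) = n.1 * S.ι3 v * n.1⁻¹ :=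
  congrArg Subtype.val ((MonoidHom.ofInjective S.ι3_inj).apply_symm_apply
    (S.ι3.range.normalizerMonoidHom n ⟨S.ι3 v, v, rfl⟩))

omit [Finite G] in
theorem δ3_ker (n : normalizer (S.ι3.range : Set G)) : S.δ3 n = 1 ↔ n.1 ∈ centralizer (S.ι3.range : Set G) :=
  ⟨by rintro h _ ⟨v, rfl⟩; exact (mul_inv_eq_iff_eq_mul.1 ((S.δ3_apply n v).symm.trans (by rw [h]; rfl))).symm, fun h =>
    MulEquiv.ext fun v => S.ι3_inj ((S.δ3_apply ..).trans (mul_inv_eq_iff_eq_mul.2 (h _ ⟨v, rfl⟩).symm))⟩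

theorem code3 {n : G} {a b c : ℕ} (h : a < 8 ∧ b < 8 ∧ c < 8) (h0 : n * θ 85 * n⁻¹ = θ (tab a))
    (h1 : n * θ 170 * n⁻¹ = θ (tab b)) (h2 : n * z * n⁻¹ = θ (tab c)) :
    ∃ hn : n ∈ normalizer (S.ι3.range : Set G), MR 3 (pack 12 3 (nthL 0 [a, b, c])) (S.δ3 ⟨n, hn⟩) := by
  have hn : n ∈ normalizer (S.ι3.range : Set G) := mem_normalizer_fintype fun _ hv => S.ι3_le
    (K := S.ι3.range.comap (MulAut.conj n).toMonoidHom) ⟨⟨a, h.1⟩, h0.symm⟩ ⟨⟨b, h.2.1⟩, h1.symm⟩ ⟨⟨c, h.2.2⟩, h2.symm⟩ hv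
  have l : ∀ i < 3, nthL 0 [a, b, c] i < 4096 := fun i hi => by
    interval_cases i
    exacts [h.1.trans (by decide), h.2.1.trans (by decide), h.2.2.trans (by decide)]
  refine ⟨hn, MR.of_col (by decide) (pack_lt l) fun i hi => ?_⟩
  rw [col_pack l hi]
  have k : ∀ a (ha : a < 8) v, n * S.ι3 v * n⁻¹ = θ (tab a) → a = (S.δ3 ⟨n, hn⟩ v).val := fun a ha v e =>
    congrArg XV.val (S.ι3_inj (a₁ := ⟨a, ha⟩) (e.symm.trans (S.δ3_apply ⟨n, hn⟩ v).symm))
  interval_cases i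
  exacts [k _ h.1 _ h0, k _ h.2.1 _ h1, k _ h.2.2 _ (S.hz ▸ h2)]

theorem δ3_surj {g : G} (hg : g * z * g⁻¹ = θ s0) : Function.Surjective S.δ3 := by
  have F := S.toFr
  have cz : ∀ {n : G}, Commute n z → n * z * n⁻¹ = θ (tab 4) := fun h => (mul_inv_eq_iff_eq_mul.2 h.eq).trans S.hz.symm
  have P := S.pair (by decide) (by decide) hg
  obtain ⟨y, hy, e⟩ := P.exq
  obtain ⟨b, hb, e'⟩ : ∃ b ∈ [2, 3], y * θ 170 * y⁻¹ = θ (tab b) := by
    rcases P.hQ.comm y hy _ ((S.D hg (x := 170) (by decide)).2 (by decide +kernel)) with h | h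
    exacts [⟨2, by simp, h⟩, ⟨3, by simp, h.trans (S.mul _ (by decide) _ (by decide))⟩]
  obtain ⟨k, hk, hc⟩ := S.exK codesX le_rfl (c := cρ) (by simp [LX, LXc])
  obtain ⟨n1, h1⟩ := S.code3 (a := 5) (b := 2) (c := 4) (by decide) ((F.conjE (e := 2) (by decide) (by decide)).trans
    (congrArg θ (by decide +kernel))) ((F.conjE (by decide) (by decide)).trans (congrArg θ (by decide +kernel)))
    (cz (F.cz (by decide)))
  obtain ⟨n2, h2⟩ := S.code3 (a := 1) (b := 6) (c := 4) (by decide) ((F.conjE (e := 1) (by decide) (by decide)).trans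
    (congrArg θ (by decide +kernel))) ((F.conjE (by decide) (by decide)).trans (congrArg θ (by decide +kernel)))
    (cz (F.cz (by decide)))
  obtain ⟨n3, h3⟩ := S.code3 (a := 2) (b := 3) (c := 4) (by decide) ((F.pθ _ (by decide)).trans
    (congrArg θ (by decide +kernel))) ((F.pθ _ (by decide)).trans (congrArg θ (by decide +kernel))) (cz F.pz)
  obtain ⟨n4, h4⟩ := S.code3 (a := 1) (b := 3) (c := 4) (by decide) ((S.kact hk hc.1 (by decide)).trans
    (congrArg θ (by decide +kernel))) ((S.kact hk hc.1 (by decide)).trans (congrArg θ (by decide +kernel)))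
    (cz (mem_centralizer_singleton_iff.1 k.2))
  obtain ⟨n5, h5⟩ := S.code3 (a := 1) (b := b) (c := 5) (by clear e'; revert b; decide)
    (mul_inv_eq_iff_eq_mul.2 (P.hQ.zc y hy).eq) e' (e.trans (S.hz ▸ S.mul _ (by decide) _ (by decide)))
  have c : CodesIn (MR 3) ([[5, 2, 4], [1, 6, 4], [2, 3, 4], [1, 3, 4], [1, b, 5]].map fun l => pack 12 3 (nthL 0 l))
      S.δ3.range := .cons ⟨_, rfl⟩ h1 (.cons ⟨_, rfl⟩ h2 (.cons ⟨_, rfl⟩ h3 (.cons ⟨_, rfl⟩ h4 (.cons ⟨_, rfl⟩ h5 (.nil _)))))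
  refine MonoidHom.range_eq_top.1 (eq_top_of_le_card _ (le_trans ?_ (chainM_le_card (B := [4, 1, 2]) (by decide) c 10)))
  rw [card_aut]
  clear c h5 e'
  revert b; decide +kernel

/-- the special group of order `2^15`. -/
def R3 : Subgroup G := (O3.comap μ).map (Subgroup.subtype _) ⊓ centralizer (S.ι3.range : Set G)

omit [Finite G] in
theorem mem_R3 {g : centralizer ({z} : Set G)} : g.1 ∈ S.R3 ↔ μ g ∈ O3 ∧ g.1 ∈ centralizer (S.ι3.range : Set G) :=
  and_congr_left' (mem_map_iff_mem (subtype_injective _))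

omit [Finite G] in
theorem D_le : twoCoreOfCentralizer z ⊓ centralizer (S.ι3.range : Set G) ≤ S.R3 := fun g hg =>
  (S.mem_R3 (g := ⟨g, (S.mem_C3.1 hg.2).1⟩)).2 ⟨(S.ker ⟨g, _⟩).2 hg.1 ▸ one_mem _, hg.2⟩

omit [Finite G] in
theorem mem_D {e : ℕ} (he : e < 8192) : θ e ∈ centralizer (S.ι3.range : Set G) ↔ bf e 85 = 0 ∧ bf e 170 = 0 := by
  rw [S.mem_C3, and_iff_right (S.θH he), mul_inv_eq_iff_eq_mul, mul_inv_eq_iff_eq_mul,
    ← S.toFr.comm_iff he (by decide), ← S.toFr.comm_iff he (by decide)]; rfl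

theorem exK3 {c : ℕ} {a : MulAut (XV 12)} (ha : a ∈ Xs) (hc : IR c a) (h : J4T.kact c 85 = 85 ∧ J4T.kact c 170 = 170) :
    ∃ k : centralizer ({z} : Set G), k.1 ∈ centralizer (S.ι3.range : Set G) ∧ μ k = a ∧
      ∀ x < 8192, k * θ x * k⁻¹ = θ (J4T.kact c x) := by
  obtain ⟨k, hk, rfl⟩ := S.frat a ha
  exact ⟨k, S.mem_C3.2 ⟨k.2, (S.kact hk hc.1 (by decide)).trans (congrArg θ h.1),
    (S.kact hk hc.1 (by decide)).trans (congrArg θ h.2)⟩, rfl, fun x hx => S.kact hk hc.1 hx⟩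

theorem exR3 {c : ℕ} (hc : c ∈ LO) {a : MulAut (XV 12)} (h : IR c a) : ∃ k : centralizer ({z} : Set G),
    k.1 ∈ S.R3 ∧ μ k = a ∧ ∀ x < 8192, k * θ x * k⁻¹ = θ (J4T.kact c x) := by
  obtain ⟨b, hb, h'⟩ := codesO c hc
  obtain rfl := isCanon_IR.func h h'
  obtain ⟨k, h1, rfl, h2⟩ := S.exK3 (O3_le hb) h ((by decide +kernel : ∀ c ∈ LO, J4T.kact c 85 = 85 ∧
    J4T.kact c 170 = 170) c hc)
  exact ⟨k, S.mem_R3.2 ⟨hb, h1⟩, rfl, h2⟩

omit [Finite G] in
theorem V_E : S.ι3.range ≤ twoCoreOfCentralizer z := S.ι3_le (S.θE (by decide)) (S.θE (by decide)) S.es.zQ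
omit [Finite G] in
theorem V_C : S.ι3.range ≤ centralizer (S.ι3.range : Set G) := by
  rintro _ ⟨a, rfl⟩ _ ⟨b, rfl⟩; rw [← map_mul, ← map_mul, mul_comm]

theorem card_D3 : Nat.card ↥(twoCoreOfCentralizer z ⊓ centralizer (S.ι3.range : Set G)) = 2 ^ 11 := by
  have := S.es.card_cent S.V_E S.z_mem
  rw [S.card_ι3, S.card_E] at this
  omega

theorem V_eq : S.ι3.range = twoCoreOfCentralizer z ⊓
    centralizer (twoCoreOfCentralizer z ⊓ centralizer (S.ι3.range : Set G) : Subgroup G) := by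
  have := S.es.card_cent (A := _ ⊓ centralizer (S.ι3.range : Set G)) inf_le_left ⟨S.es.zQ, S.V_C S.z_mem⟩
  rw [S.card_D3, S.card_E] at this
  exact eq_of_le_of_card_ge (le_inf S.V_E fun v hv d hd => (hd.2 v hv).symm) (by rw [S.card_ι3]; omega)

theorem card_R3 : Nat.card S.R3 = 2 ^ 15 := by
  let f := μ.comp (inclusion (show S.R3 ≤ centralizer {z} from inf_le_left.trans (map_subtype_le _)))
  have h := card_ker_mul f
  rw [show f.range = O3 from le_antisymm (by rintro _ ⟨r, rfl⟩; exact (S.mem_R3.1 r.2).1) fun a ha =>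
      let ⟨c, hc, h⟩ := listsO a ha; let ⟨k, h1, h2, _⟩ := S.exR3 hc h; ⟨⟨k, h1⟩, h2⟩,
    show f.ker = (twoCoreOfCentralizer z ⊓ centralizer (S.ι3.range : Set G)).subgroupOf S.R3 from
      Subgroup.ext fun r => (S.ker _).trans (and_iff_left r.2.2).symm,
    Nat.card_congr (subgroupOfEquivOfLe S.D_le).toEquiv, S.card_D3, card_O3] at h
  exact h.symm

theorem special3 : IsSpecial 2 S.R3 ∧ center S.R3 = S.ι3.range.subgroupOf S.R3 := by
  have F := S.toFr
  have ex : ∀ r ∈ S.R3, ∃ h : r ∈ centralizer ({z} : Set G), ∃ c ∈ LO, IR c (μ ⟨r, h⟩) := fun r hr =>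
    ⟨_, listsO _ ((S.mem_R3 (g := ⟨r, (S.mem_C3.1 hr.2).1⟩)).1 hr).1⟩
  refine J4F.special_of (IsPGroup.of_card S.card_R3) (le_antisymm (fun r hr => S.V_eq.ge ⟨?_,
    fun d hd => hr.2 d (S.D_le hd)⟩) (le_inf ((le_inf S.V_E S.V_C).trans S.D_le) fun v hv r hr => (hr.2 v hv).symm))
    (fun r hr => ?_) ?_
  · obtain ⟨h, c, hc, h1⟩ := ex r hr.1
    refine (S.ker ⟨r, h⟩).1 (isCanon_IR.func ((by decide +kernel : ∀ c ∈ LO, (∀ e ∈ [5, 17, 256], app c e = e) →
      c = one12) c hc (fun e he => ?_) ▸ h1) isGrp_IR.one)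
    obtain ⟨l, h2⟩ := (by decide +kernel : ∀ e ∈ [5, 17, 256], e < 4096 ∧ bf e 85 = 0 ∧ bf e 170 = 0) e he
    obtain ⟨b, hb, e1⟩ := S.act' _ h1.1 (x := e) (by omega)
    refine (F.cancel (app_lt _ _) l hb two_pos ?_).1
    rw [← e1, pow_zero, mul_one]
    exact mul_inv_eq_iff_eq_mul.2 (hr.2 _ (S.D_le ⟨S.θE (by omega), (S.mem_D (by omega)).2 h2⟩)).symm
  · obtain ⟨h, c, hc, h1⟩ := ex r hr
    refine S.V_eq.ge ⟨(S.ker (⟨r, h⟩ * ⟨r, h⟩)).1 (map_mul μ _ _ ▸ isCanon_IR.func ((by decide +kernel : ∀ c ∈ LO,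
      mulM c c = one12) c hc ▸ isGrp_IR.mul h1 h1) isGrp_IR.one), fun d hd => ?_⟩
    have k : ∀ x < 4096, θ x ∈ centralizer (S.ι3.range : Set G) → θ x * (r * r) = r * r * θ x := fun x hx hd => by
      obtain ⟨b, hb, e1⟩ := S.act' _ h1.1 (x := x) (by omega)
      obtain ⟨a, ha, e2⟩ : ∃ a < 4, tab a = x ^^^ app c x := all4096 (f := fun x => bor (Nat.beq (bf x 85) 1)
        (bor (Nat.beq (bf x 170) 1) (allL LO fun c => force (Nat.xor x (app c x)) fun y => anyLt 4 fun a =>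
          Nat.beq (tab a) y))) (by decide +kernel) (P := fun x => bf x 85 = 0 ∧ bf x 170 = 0 → ∀ c ∈ LO,
            ∃ a < 4, tab a = x.xor (app c x)) (fun x h h' => by
          simpa only [bor_eq, h'.1, h'.2, Bool.or_eq_true, nbeq, allL_iff, force_eq, anyLt_iff, zero_ne_one, false_or]
            using h) x hx ((S.mem_D (by omega)).1 hd) c hc
      have e3 := F.mul' (x := x) (by omega) (tab_lt a (by omega))
      rw [e2, Nat.xor_xor_cancel_left, ← e2, ← mul_inv_eq_iff_eq_mul] at e3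
      obtain ⟨v, hv, e4⟩ : ∃ v ∈ S.ι3.range, r * θ x * r⁻¹ = θ x * v := ⟨_, mul_mem (mul_mem (S.tab_mem (a := a) (by omega))
        (inv_mem (pow_mem S.z_mem (bt x (tab a))))) (pow_mem S.z_mem b), e1.trans (by rw [← e3]; group)⟩
      obtain ⟨w, rfl⟩ := hv
      have e5 := hr.2 _ ⟨w, rfl⟩
      rw [mul_inv_eq_iff_eq_mul] at e4
      rw [mul_assoc r, e4, ← mul_assoc r, ← mul_assoc r, e4, mul_assoc (θ x), mul_assoc (θ x), mul_assoc (θ x), e5,
        mul_assoc r, ← map_mul, ← sq w, XV.sq, map_one, mul_one]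
    obtain ⟨x, hx, rfl⟩ := (S.core _).1 hd.1
    have l := Nat.mod_lt x (show 0 < 4096 by decide)
    rcases S.θmod hx with e | e
    · rw [e] at hd ⊢; exact k _ l hd.2
    · rw [e] at hd ⊢
      rw [mul_assoc, ← mem_centralizer_singleton_iff.1 (mul_mem h h), ← mul_assoc,
        k _ l ((mul_mem_cancel_right (S.V_C S.z_mem)).1 hd.2), mul_assoc]
  · have m : ∀ e < 8192, bf e 85 = 0 ∧ bf e 170 = 0 → θ e ∈ S.R3 := fun e he h => S.D_le ⟨S.θE he, (S.mem_D he).2 h⟩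
    obtain ⟨a, -, ha⟩ := codesO (nthL 0 LO 1) (by decide +kernel)
    obtain ⟨k, h1, -, h2⟩ := S.exR3 (by decide +kernel) ha
    have c : ∀ e < 8192, bf e 85 = 0 ∧ bf e 170 = 0 → θ (emul (J4T.kact (nthL 0 LO 1) e) (einv e)) ∈ ⁅S.R3, S.R3⁆ :=
      fun e he h => by
        rw [← S.mul _ (kact_lt _ _) _ (einv_lt he), ← h2 e he, ← F.inv he]; exact commutator_mem_commutator h1 (m e he h)
    refine S.ι3_le
      ((by decide +kernel : emul (J4T.kact (nthL 0 LO 1) 5) (einv 5) = 85) ▸ c 5 (by decide) (by decide +kernel))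
      ((by decide +kernel : emul (J4T.kact (nthL 0 LO 1) 10) (einv 10) = 170) ▸ c 10 (by decide) (by decide +kernel)) ?_
    have := commutator_mem_commutator (m 256 (by decide) (by decide +kernel)) (m 512 (by decide) (by decide +kernel))
    rwa [commutatorElement_def, F.conjE (by decide) (by decide), F.θb (by decide) (bf_lt _ _), mul_assoc,
      (F.cz (by decide)).inv_left.pow_right _ |>.eq.symm, mul_inv_cancel_left, show bf 256 512 = 1 by decide +kernel,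
      pow_one] at this

theorem trio {g : G} (hg : g * z * g⁻¹ = θ s0) :
    (pCore 2 (normalizer (S.ι3.range : Set G))).map (Subgroup.subtype _) = S.R3 ∧
    Nonempty (normalizer (S.ι3.range : Set G) ⧸ pCore 2 (normalizer (S.ι3.range : Set G)) ≃*
      J4F.SL3 × alternatingGroup (Fin 6)) := by
  obtain ⟨e⟩ := J4F.autSL (A := S.ι3.range) (by rintro _ ⟨v, rfl⟩; rw [← map_mul, ← sq, XV.sq, map_one]) S.card_ι3
  replace e := (MulAut.congr (MonoidHom.ofInjective S.ι3_inj)).trans e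
  let γ := e.toMonoidHom.comp S.δ3
  have kγ : ∀ n, n ∈ γ.ker ↔ n.1 ∈ centralizer (S.ι3.range : Set G) := fun n =>
    e.map_eq_one_iff.trans (S.δ3_ker n)
  obtain ⟨π, h1, h2⟩ := exπ3 S.card_Xs
  let j : γ.ker →* centralizer ({z} : Set G) := ((Subgroup.subtype _).comp γ.ker.subtype).codRestrict _ fun c =>
    (S.mem_C3.1 ((kγ _).1 c.2)).1
  let π' := π.comp ((μ.comp j).codRestrict Y3 fun c => let h := S.mem_C3.1 ((kγ _).1 c.2)
    ⟨⟨S.μ_mem _, (S.stab_iff (by decide) _).2 (.inl h.2.1)⟩, (S.stab_iff (by decide) _).2 (.inl h.2.2)⟩)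
  have k : ∀ c, c ∈ π'.ker ↔ c.1.1 ∈ S.R3 := fun c =>
    (h2 _).trans ((S.mem_R3 (g := j c)).trans (and_iff_left ((kγ _).1 c.2))).symm
  have nc : ∀ {A : Type} [Group A] [IsSimpleGroup A], ¬ (Nat.card A).Prime → ¬ IsMulCommutative A := fun {A} _ _ h h' =>
    h (@IsSimpleGroup.prime_card A { (inferInstance : Group A) with mul_comm := h'.1.1 } ‹_›)
  have := GW.isSimpleGroup_SL3_two
  have := alternatingGroup.isSimpleGroup (α := Fin 6) (by simp)
  have n2 : θ 2 ∈ normalizer (S.ι3.range : Set G) := mem_normalizer_fintype fun v hv => by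
    rcases S.es.comm _ (S.θE (x := 2) (by decide)) v (S.V_E hv) with e | e <;> rw [e]
    exacts [hv, mul_mem hv S.z_mem]
  obtain ⟨h3, h4⟩ := prod_quot (π := π') (γ := γ) (e := ⟨_, n2⟩) (nc (by rw [J4F.card_SL3]; norm_num))
    (nc (by rw [nat_card_alternatingGroup, Nat.card_fin]; norm_num [Nat.factorial]))
    (e.surjective.comp (S.δ3_surj hg)) (h1.comp fun ⟨a, ha⟩ => by
      obtain ⟨c, -, rfl⟩ := Y3_le S.card_Xs (K := (μ.comp j).range) (fun c hc a h => by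
        obtain ⟨b, hb, h'⟩ := codesY S.card_Xs c hc
        obtain ⟨k, h1, h2, -⟩ := S.exK3 (isCanon_IR.func h' h ▸ hb.1.1) h ((by decide +kernel : ∀ c ∈ LY,
          J4T.kact c 85 = 85 ∧ J4T.kact c 170 = 170) c hc)
        exact ⟨⟨⟨k, centralizer_le_normalizer _ h1⟩, (kγ _).2 h1⟩, h2⟩) ha
      exact ⟨c, rfl⟩)
    (fun x => ⟨15, Subtype.ext (Subtype.ext (Subtype.ext (congrArg Subtype.val
      (S.card_R3 ▸ pow_card_eq_one' (x := (⟨_, (k _).1 x.2⟩ : S.R3))) :)))⟩)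
    (fun h => absurd ((S.mem_D (by decide)).1 ((kγ _).1 h)).1 (by decide +kernel)) fun c c' h => congrArg π (Subtype.ext (by
      show μ (j c') = μ (j c)
      rw [show j c' = ⟨_, S.θH (x := 2) (by decide)⟩ * j c * ⟨_, S.θH (x := 2) (by decide)⟩⁻¹ from
        Subtype.ext (congrArg Subtype.val h :), map_mul, map_mul, map_inv, S.μθ (by decide)]; simp))
  refine ⟨?_, h4⟩
  rw [h3]
  refine le_antisymm (by rintro _ ⟨_, ⟨c, hc, rfl⟩, rfl⟩; exact (k c).1 hc) fun r hr => ?_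
  exact ⟨⟨r, centralizer_le_normalizer _ hr.2⟩, ⟨⟨_, (kγ _).2 hr.2⟩, (k _).2 hr, rfl⟩, rfl⟩
end St

end Cfsg.Agent.F24T
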