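import Cfsg.Agent.Small.F22C
import Cfsg.Agent.Small.Pc2
import Cfsg.Agent.Known.Fi22I
import Cfsg.Agent.Known.S62Eq

/-! The outer involutions of `Aut(Fi22)` and their centralisers (helper9): `P72`, `F22S.p72`. -/

set_option autoImplicit false
set_option maxRecDepth 100000

namespace Cfsg.Agent.Small

open Known Comp Subgroup Equiv Function Fischer Spor.Ct

section
variable {G H : Type*} [Group G] [Group H]

/-- transport of fixed points. -/
def fxE (e : G ≃* H) (α : MulAut G) : Fx (MulAut.congr e α) ≃* Fx α where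
  toFun c := ⟨e.symm c, e.injective (c.2.trans (e.apply_symm_apply _).symm)⟩
  invFun c := ⟨e c, (congrArg (fun t => e (α t)) (e.symm_apply_apply c)).trans (congrArg e c.2)⟩
  left_inv c := Subtype.ext (e.apply_symm_apply _)
  right_inv c := Subtype.ext (e.symm_apply_apply _)
  map_mul' a b := Subtype.ext (map_mul e.symm _ _)

theorem congr_conj (e : G ≃* H) (g : G) : MulAut.congr e (MulAut.conj g) = MulAut.conj (e g) :=
  MulEquiv.ext fun x => by simp

theorem genL_cons (a : ℕ → G) (i : ℕ) (l : List ℕ) : Spor.genL a (i :: l) = zpowers (a i) ⊔ Spor.genL a l :=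
  le_antisymm (Spor.genL_le fun _ hl => (List.mem_cons.1 hl).elim (fun k => k ▸ mem_sup_left (mem_zpowers _))
    fun k => mem_sup_right (Spor.mem_genL _ k)) (sup_le (zpowers_le.2 (Spor.mem_genL _ List.mem_cons_self))
      (Spor.genL_le fun _ k => Spor.mem_genL _ (List.mem_cons_of_mem _ k)))

theorem elem_ab [Finite G] {a : ℕ → G} {l : List ℕ} (h : ∀ i ∈ l, a i * a i = 1 ∧ ∀ j ∈ l, Commute (a i) (a j)) :
    (∀ x ∈ Spor.genL a l, x * x = 1) ∧ Nat.card (Spor.genL a l) ≤ 2 ^ l.length := by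
  induction l with
  | nil => simp [Spor.genL]
  | cons i l ih =>
    obtain ⟨h1, h2⟩ := ih fun j hj => ⟨(h j (List.mem_cons_of_mem _ hj)).1,
      fun k hk => (h j (List.mem_cons_of_mem _ hj)).2 k (List.mem_cons_of_mem _ hk)⟩
    have s := h i List.mem_cons_self
    have c : ∀ k ∈ Spor.genL a l, Commute (a i) k := fun k hk => (mem_centralizer_singleton_iff.1 (Spor.genL_le
      (fun j hj => mem_centralizer_singleton_iff.2 (s.2 j (List.mem_cons_of_mem _ hj)).symm) hk)).symm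
    rw [genL_cons]
    refine ⟨fun x hx => (mem_sup_two s.1 c hx).elim (h1 x) fun k => ?_,
      (card_sup_two s.1 c).trans (by rw [List.length_cons, pow_succ']; omega)⟩
    have e : a i * (a i * x) = x := by rw [← mul_assoc, s.1, one_mul]
    rw [← e, (c _ k).symm.mul_mul_mul_comm, s.1, h1 _ k, mul_one]

theorem Pts.fix {φ : G →* Perm ℕ} {N k n kt : ℕ} {y τ : ℕ → G} {act : ℕ → ℕ → ℕ} {B : List ℕ} {pt : ℕ → ℕ}
    (P : Pts φ N y τ pt kt) (M : Mdl φ N k n y act B) {g : G} {p : ℕ} (hp : p < N) : φ g p = p ↔ Commute g (τ p) :=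
  ⟨fun e => mul_inv_eq_iff_eq_mul.1 (by rw [← P.conj g p hp, e]),
    fun c => P.inj _ (M.lt g hp) _ hp (by rw [P.conj g p hp, c.mul_inv_cancel])⟩

/-- the outer involutions `s`, `s a`, `s a b`. -/
def P72 (U V Y : Type) [Group U] [Group V] [Group Y] (s : MulAut G) (a b : G) : Prop := orderOf s = 2 ∧
  s ∉ (MulAut.conj : G →* _).range ∧ Nonempty (Fx s ≃* V) ∧ s a = a ∧ s b = b ∧
  (∀ t : MulAut G, orderOf t = 2 → t ∉ (MulAut.conj : G →* _).range →
    IsConj t s ∨ IsConj t (s * MulAut.conj a) ∨ IsConj t (s * MulAut.conj (a * b))) ∧ ¬ IsConj s (s * MulAut.conj a) ∧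
  ¬ IsConj s (s * MulAut.conj (a * b)) ∧ ¬ IsConj (s * MulAut.conj a) (s * MulAut.conj (a * b)) ∧
  Fx (s * MulAut.conj a) = Fx s ⊓ centralizer {a} ∧ Nonempty (Fx (s * MulAut.conj a) ≃* Y) ∧
  ∃ π : Fx (s * MulAut.conj (a * b)) →* U, Shp π ∧ Nat.card π.ker = 64 ∧ ∀ x, π x = 1 → x * x = 1

theorem P72.map {U V Y : Type} [Group U] [Group V] [Group Y] {s : MulAut G} {a b : G} (h : P72 U V Y s a b) (e : G ≃* H) :
    P72 U V Y (MulAut.congr e s) (e a) (e b) := by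
  obtain ⟨h1, h2, ⟨f⟩, h4, h5, h6, h7, h8, h9, h10, ⟨f'⟩, π, h12, h13, h14⟩ := h
  have c : ∀ {u v}, IsConj (MulAut.congr e u) (MulAut.congr e v) → IsConj u v := fun {u v} k =>
    (MulAut.congr e).symm_apply_apply u ▸ (MulAut.congr e).symm_apply_apply v ▸
      (MulAut.congr e).symm.toMonoidHom.map_isConj k
  have r : ∀ t, MulAut.congr e t ∈ (MulAut.conj : H →* _).range ↔ t ∈ (MulAut.conj : G →* _).range := fun t =>
    ⟨fun ⟨g, k⟩ => ⟨e.symm g, (MulAut.congr e).injective (by rw [congr_conj, e.apply_symm_apply, k])⟩,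
      fun ⟨g, k⟩ => ⟨e g, by rw [← congr_conj, k]⟩⟩
  unfold P72
  rw [← map_mul e, ← congr_conj, ← congr_conj, ← map_mul, ← map_mul]
  have f2 : π.ker ≃* (π.comp (fxE e _).toMonoidHom).ker := ((fxE e _).symm.subgroupMap _).trans
    (MulEquiv.subgroupCongr (map_equiv_eq_comap_symm' _ _))
  refine ⟨((MulAut.congr e).orderOf_eq s).trans h1, mt (r s).1 h2, ⟨(fxE e s).trans f⟩, by simp [h4], by simp [h5],
    fun t a1 a2 => ?_, mt c h7, mt c h8, mt c h9, Subgroup.ext fun g => ?_, ⟨(fxE e _).trans f'⟩, _, h12.congr (fxE e _),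
    (Nat.card_congr f2.toEquiv).symm.trans h13,
    fun x k => (fxE e _).injective ((map_mul _ _ _).trans ((h14 _ k).trans (map_one _).symm))⟩
  · obtain ⟨t, rfl⟩ := (MulAut.congr e).surjective t
    exact (h6 t (((MulAut.congr e).orderOf_eq t).symm.trans a1) (mt (r t).2 a2)).imp
      (MulAut.congr e).toMonoidHom.map_isConj
      (.imp (MulAut.congr e).toMonoidHom.map_isConj (MulAut.congr e).toMonoidHom.map_isConj)
  · obtain ⟨g, rfl⟩ := e.surjective g
    have k : ∀ α, e g ∈ Fx (MulAut.congr e α) ↔ g ∈ Fx α := fun α => by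
      show MulAut.congr e α _ = e g ↔ α g = g
      simp
    rw [k, h10, mem_inf, mem_inf, k, mem_centralizer_singleton_iff, mem_centralizer_singleton_iff, ← map_mul, ← map_mul,
      e.injective.eq_iff]

end

namespace F22S

open F22A

local notation "G₀" => Cfsg.Spor.Fi22
local notation "y" => Fi22T.y
local notation "Inn₀" => MonoidHom.range (MulAut.conj : G₀ →* MulAut G₀)

theorem inn_W (w : List ℕ) : W x w ∈ Inn₀ ↔ w.count 11 % 2 = 0 := by
  induction w with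
  | nil => simp
  | cons a w ih =>
    rw [W_cons, mul_mem_iff_of_index_two idx, ih, List.count_cons, x]
    by_cases h : a = 11
    · simp only [h, if_true, s_out, false_iff, beq_self_eq_true]; omega
    · simp [h]

theorem fx_W {c w : List ℕ} (h : band (allL w fun l => Nat.blt l 11) (eqB act [3488,3265,3489,2409,3490,3285,3494,3491,3457] (w ++ c) (c ++ w)) = true) :
    W y w ∈ Fx (W x c) := by
  rw [band_eq, Bool.and_eq_true] at h
  exact (comm_conj F22.fl.z).1 (by rw [conj_W h.1]; exact (W_append _ _ _).symm.trans ((mdl.eq h.2).trans (W_append _ _ _)))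

theorem bound (c : List ℕ) (h : c.count 11 % 2 ≠ 0) {ds lv m} (e : ub 3510 act [3488,3265,3489,2409,3490,3285,3494,3491,3457] pt 9 ds lv [c] [] = m + 1) :
    2 * Nat.card (Fx (W x c)) ≤ m + 1 :=
  (two_mul_le F22.fl.z (K := centralizer {W x c}) (fun _ k => mem_centralizer_singleton_iff.2 ((comm_conj F22.fl.z).2 k))
    (mem_centralizer_singleton_iff.2 rfl) (mt (inn_W c).1 h)).trans (e ▸ card_le_ub mdl pts ds lv _ _ _
      (fun g k _ h => List.mem_singleton.1 h ▸ mem_centralizer_singleton_iff.1 k) (by simp) (by omega))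

theorem e1 : W x [11] = s := mul_one _

theorem e2 : W x [11, 8] = s * MulAut.conj (y 8) := by simp [x]

theorem e3 : W x [11, 8, 0] = s * MulAut.conj (y 8 * y 0) := by simp [x]

def lv1 : List (List ℕ × ℕ × List (List ℕ × Bool)) := [([], 8, [([0], true)]), ([], 7, [([1], false), ([0], false)]), ([], 1, [([0,1,2], true)]), ([], 0, [([0,1,2],
   true), ([3], false)]), ([], 5, [([0,1,2], true), ([3,4], true)]), ([], 4, [([0,1,2], true), ([5], false)]),
   ([], 3, [([5,4,3,1], true), ([0], true), ([6], false), ([2], false)]), ([], 2, [([0,4,2,6], true), ([1,5],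
   true)])]

def ds1 (b : ℕ) : List ℕ × ℕ := (List.lookup b [(3488, [], 3488), (3265, [], 3265), (3489, [], 3489), (2409, [], 2409), (3490, [], 3490), (3285, [], 3285),
   (3494, [5,6,7,8,2,7,3,8,6,7,5,6,0,2,7,4,3], 3489), (3491, [], 3491), (3457, [], 3457)]).getD ([], 0)

theorem iso1 : Nonempty (Fx s ≃* MulAut (Omega (ZMod 2) (quadFormPlus 4 (ZMod 2)))) := by
  have M := Fi22X.fm0
  obtain ⟨e1⟩ := O82T.equiv (F := ZMod 2) (by simp)
  haveI := S0296.result (F := ZMod 2) 4 le_rfl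
  haveI := e1.symm.isSimpleGroup
  have h := S2607.result (F := ZMod 2) (f := 1) (m := 4) le_rfl (by simp) le_rfl
  rw [if_pos rfl] at h
  obtain ⟨e2⟩ := h
  have e3 := (QuotientGroup.quotientMulEquivOfEq Fi22I.hz).trans QuotientGroup.quotientBot
  obtain ⟨-, ⟨a2⟩, a3⟩ := M.autI (r := Fi22I.r) (t := Fi22I.t) (O := Fi22I.O) (M.equiv_of_lifts (ks := Fi22I.ks)
    O82P.lifts O82P.rep.top rfl (allL_iff.1 Fi22I.rl) (a := 3265) (by decide) (by decide +kernel))
    (by rw [← card_out_congr e1, Nat.card_congr e2.toEquiv]; simp [Fintype.card_perm, Nat.factorial])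
    (M.cent_bot (M.mem_of Fi22I.vu (by decide +kernel)) (Fi22I.clK M)) (M.nr_mem (vs := Fi22I.vr) rfl (by decide +kernel))
    (M.nr_mem (vs := Fi22I.vt) rfl (by decide +kernel)) (by decide +kernel)
  have f := fxE (W x [10,11,5,10,9,1,11,9,5,11,7,8,10,11]) s
  rw [show MulAut.congr (W x [10,11,5,10,9,1,11,9,5,11,7,8,10,11]) s = W x [10,11,5,10,9,1,11,9,5,11,7,8,10,11,11,11,10,8,7,11,5,9,11,1,9,10,5,11,10] from (show _ = _ * s * _⁻¹ from rfl).trans (by
    rw [mul_inv_eq_iff_eq_mul, ← F22S.e1, ← W_append, ← W_append]; exact mdl.eq (by decide +kernel))] at f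
  have b := bound [11] (by decide) (ds := ds1) (lv := lv1) (m := 2090188799) (by decide +kernel)
  rw [F22S.e1, ← Nat.card_congr f.toEquiv] at b
  refine ⟨f.symm.trans ((MulEquiv.subgroupCongr (eq_of_le_of_card_ge (Spor.genW_le fun w hw => ?_)
    (by rw [a3, O82P.card]; omega)).symm).trans (a2.trans (MulAut.congr (e1.symm.trans e3))))⟩
  refine (comm_conj F22.fl.z).1 (mdl.ext fun p hp k => ?_)
  rw [map_mul, map_mul, Perm.mul_apply, Perm.mul_apply, ρ_conj _ (mdl.lt _ k), ρ_conj _ k,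
    mdl.applyW _ (M.lt _ _ k), M.app _ (mdl.lt _ k), mdl.applyW _ k, M.app _ k]
  revert w p
  decide +kernel

theorem c2 : allLt 3510 (fun q => bor (not (Nat.beq (actW act [11, 8] q) q)) (band (Nat.beq (act 8 q) q)
    (bor (Nat.beq q 3457) (anyLt 7 fun l => not (Nat.beq (act l q) q))))) = true := by decide +kernel

theorem fx2 : Fx (s * MulAut.conj (y 8)) = Fx s ⊓ centralizer {y 8} := by
  have key : ∀ g, Commute g (y 8) → ((s * MulAut.conj (y 8)) g = g ↔ s g = g) := fun g c => by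
    rw [MulAut.mul_apply, MulAut.conj_apply, c.symm.mul_inv_cancel]
  refine Subgroup.ext fun g => ⟨fun h => ?_, fun h => (key g (mem_centralizer_singleton_iff.1 h.2)).2 h.1⟩
  suffices c : Commute g (y 8) from ⟨(key g c).1 h, mem_centralizer_singleton_iff.2 c⟩
  have c := (comm_conj F22.fl.z).2 h
  have f : ∀ {α}, Commute α (W x [11, 8]) → ∀ p < 3510, actW act [11, 8] p = p → act 8 (ρ α p) = ρ α p ∧
      (ρ α p = 3457 ∨ ∃ l < 7, act l (ρ α p) ≠ ρ α p) := fun {α} c p hp e => by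
    have : actW act [11, 8] (ρ α p) = ρ α p := by
      rw [← mdl.applyW _ (mdl.lt α hp), ← Perm.mul_apply, ← map_mul, ← c.eq, map_mul, Perm.mul_apply, mdl.applyW _ hp, e]
    simpa [nbeq_false, anyLt_iff, this] using allLt_iff.1 c2 _ (mdl.lt α hp)
  rw [← e2] at c
  have a := pts.pt 8 (by decide)
  refine conj_inj F22.fl.z ?_
  rw [map_mul, map_mul, show MulAut.conj (y 8) = _ from a.2.symm]
  refine (pts.fix mdl a.1).1 ((f c _ a.1 (by decide +kernel)).2.resolve_right fun ⟨l, hl, k⟩ => k ?_)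
  have b := pts.pt l (by omega)
  have := (f c.inv_left _ b.1 ((by decide +kernel : ∀ l < 7, actW act [11, 8] (pt l) = pt l) l hl)).1
  rw [← mdl.apply 8 (mdl.lt _ b.1), pts.fix mdl (mdl.lt _ b.1), pts.conj _ _ b.1, b.2] at this
  rw [← mdl.apply l (mdl.lt _ a.1), pts.fix mdl (mdl.lt _ a.1), pts.conj _ _ a.1, a.2]
  simpa [mul_assoc] using (this.conj (MulAut.conj g)).symm

def sw62 : List (List ℕ) := [[2,0,1,8,0,2],[1,8],[7,8,3,2,4,3,9,3,4,2,3,8,7,8],[10,7,3,8,7,4,3,9,1,9,3,7,4,3,8,7,8,10],[1,7,8,3,2,4,3,9,3,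
  4,2,3,8,7,8,4],[4,6],[0,3,2,1,10,9,8,7,8,9,3,9,8,3,2,4,3,9,3,4,2,3,9,8,9,0,6],[4,0,3,2,1,10,9,8,7,8,9,4,3,7,8,
  1,9,10,1,2,1,10,9,1,8,7,4,0,6],[7,3,8,7,5,10,3,5,10,8,4,5,10,5,9,4,5,9,8,9,4,0,2,6],[5,6,9,1,0,5,9,1,5,7,4,3,
  9,6,4,5,3,2,7,9,3,9,7,2,3,9,8,0,2,6]]

theorem iso2 : Nonempty (Fx (s * MulAut.conj (y 8)) ≃* Multiplicative (ZMod 2) × PSp 3 (ZMod 2)) := by
  obtain ⟨e⟩ := S62T.equiv (F := ZMod 2) (by simp)
  have := Classical.isSimpleGroup_PSp (F := ZMod 2) (m := 3) (by decide) (by decide)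
  have := e.symm.isSimpleGroup
  obtain ⟨ι, h⟩ : ∃ α : S62P.G →* G₀, Au (fun j => (S62P.g j)⁻¹) y 10 α sw62 :=
    exists_au S62P.lifts (fun _ _ => rfl) Fi22T.mdl sw62 (by decide +kernel)
  have inj := Spor.injective_of_simple ι (x := (S62P.g 1)⁻¹) (h 1 (by decide) ▸
    ne_of_chk Fi22T.mdl (v := []) 0 (by decide +kernel))
  have l : ι.range ≤ Fx (s * MulAut.conj (y 8)) := by
    rw [MonoidHom.range_eq_map, ← S62P.rep.top, map_genL, ← e2]
    exact Spor.genL_le fun j hj => inv_mem_iff.1 (by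
      rw [← map_inv, h j (List.mem_range.1 hj)]; exact fx_W (by revert j; decide +kernel))
  have c : ∀ k ∈ ι.range, Commute (y 8) k := fun k hk => (mem_centralizer_singleton_iff.1 (fx2.le (l hk)).2).symm
  have f := MonoidHom.ofInjective inj
  have a := pts.pt 8 (by decide)
  have m : y 8 ∈ Fx (W x [11, 8]) := by simpa using fx_W (w := [8]) (c := [11, 8]) (by decide +kernel)
  have b := (two_mul_le F22.fl.z (L := Fx (s * MulAut.conj (y 8))) (K := centralizer {s} ⊓ centralizer {x 8})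
    (fun g k => ⟨mem_centralizer_singleton_iff.2 ((comm_conj F22.fl.z).2 (fx2.le k).1), mem_centralizer_singleton_iff.2
      (Commute.map (mem_centralizer_singleton_iff.1 (fx2.le k).2) MulAut.conj)⟩)
    ⟨mem_centralizer_singleton_iff.2 rfl, mem_centralizer_singleton_iff.2 (by
      simpa [e1.symm] using mdl.eq (u := [11, 8]) (v := [8, 11]) (by decide +kernel))⟩ s_out).trans
    (card_le_ub mdl pts ds1 lv1.tail [[11], [8]] [3457] _ (fun g k => by
      simpa [e1.symm, Commute, SemiconjBy] using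
        And.intro (mem_centralizer_singleton_iff.1 k.1) (mem_centralizer_singleton_iff.1 k.2))
      (fun g k p hp => List.mem_singleton.1 hp ▸ (pts.fix mdl a.1).2 (a.2 ▸ mem_centralizer_singleton_iff.1 k.2))
      (by decide +kernel))
  rw [show ub _ _ _ _ _ _ _ _ _ = 5806080 by decide +kernel] at b
  obtain ⟨-, ⟨k⟩⟩ := prod_two (K := ι.range) (F22.wt.sq _ (y_eq (j := 8) (by decide) ▸ F22.g_mem (by decide))) (e2 ▸ m)
    (fun ⟨u, k⟩ => ne_of_chk Fi22T.mdl (u := [8]) (v := []) 0 (by decide +kernel) (by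
      have : u ∈ center _ := mem_center_iff.2 fun g => inj (by rw [map_mul, map_mul, k, (c _ ⟨g, rfl⟩).eq])
      simpa [mem_bot.1 (S62T.cen.le this)] using k.symm)) l c
    (by rw [← Nat.card_congr f.toEquiv, S62P.card]; omega)
  exact ⟨k.trans (.prodCongr (.refl _) (f.symm.trans e.symm))⟩

def lv3 : List (List ℕ × ℕ × List (List ℕ × Bool)) := [([], 3, [([0], true)]), ([], 2, [([0], true), ([1], false)]), ([], 5, [([0,1,2], true)]), ([], 4, [([0,2],
   true), ([2], true), ([3], false), ([1], false)]), ([], 8, [([4,3,0,1], true), ([2], true)]), ([10], 1, [([0,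
  2], true), ([4,5], true), ([3], false), ([2], false)]), ([9,7], 3, [([0,5], true), ([3,1,4,3], true), ([2],
   false), ([3], false), ([5], false)])]

def ds3 (b : ℕ) : List ℕ × ℕ := (List.lookup b [(3488, [6,3,4,7,1,4,2,7,3,1], 3450), (3265, [6,7,3,6,4,3,0,6], 2548), (3489, [], 3489), (2409, [], 2409),
   (3490, [], 3490), (3285, [], 3285), (3494, [3,7,2,1,6,3,2,6,1,4], 2548), (3491, [7,6,1,4,7,0], 3450), (3457,
   [], 3457)]).getD ([], 0)

def us : List (List ℕ) := [[0],[1],[2],[3],[4],[5],[6],[7],[8],[9],[10],[8,0],[3,10,3,9,8,7,8,9,3,10],[7,8,3,2,4,3,9,3,4,2,3,8,7,2],[7,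
  8,3,9,10,3,2,3,10,9,3,8,7,4],[5,4,3,4,5,5,10,4,3,9,8,7,8,9,3,4,10,5],[10,8,3,9,5,10,1,0,1,10,5,9,3,8,10,10,3,
  9,5,10,1,10,5,9,3,10],[6],[4,5,4],[5,4,2,3,5,6,4,5,4,2],[6,10,3,9,5,10,1,10,5,9,3,10,4,5,4,6],[2,8,10,3,9,5,
  10,1,10,5,10,9,3,8,10,2],[4,10,3,9,5,10,1,10,5,10,9,3,10,4]]

noncomputable def a (j : ℕ) : G₀ := W y (nthL [] us j)

noncomputable def ac (j : ℕ) : ℕ → ℕ := actW Fi22T.act (nthL [] us j)

theorem M : Mdl Spor.Fi22M.φ 3510 9 64561751654400 a ac [0,1248,2400,3456,3484,3494,3490,3489,3488] := mdl_wd Fi22T.mdl us (by decide)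

def E : List (List ℕ × List ℕ) := [([11,17], [17,11]), ([12,17], [17,12]), ([13,17], [17,13]), ([14,17], [17,14]), ([15,17], [17,15,14,13,11]),
   ([16,17], [17,16,14,13,11]), ([11,18], [18,11]), ([12,18], [18,15]), ([13,18], [18,13]), ([14,18], [18,15,14,
  12]), ([15,18], [18,12]), ([16,18], [18,16]), ([11,19], [19,11]), ([12,19], [19,15,14,13,11]), ([13,19], [19,
  15]), ([14,19], [19,15,13,12,11]), ([15,19], [19,13]), ([16,19], [19,16,14,12,11]), ([11,20], [20,16,14,13]),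
   ([12,20], [20,15,14,13,11]), ([13,20], [20,16,14,11]), ([14,20], [20,16,15,14,12]), ([15,20], [20,16,15,14,
  13,11]), ([16,20], [20,15,12]), ([11,21], [21,16,13]), ([12,21], [21,16,11]), ([13,21], [21,16,13,12,11]),
   ([14,21], [21,16,14,12,11]), ([15,21], [21,16,15,13,11]), ([16,21], [21,16,13,12]), ([11,22], [22,16,14,11]),
   ([12,22], [22,16]), ([13,22], [22,16,13,12]), ([14,22], [22,16,14,12]), ([15,22], [22,15,14,12]), ([16,22],
   [22,12]), ([17,17], []), ([18,18], []), ([17,18,17,18,17,18], []), ([19,19], []), ([17,18,19,18,19,17,19],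
   []), ([20,20], []), ([19,20,19,20], []), ([17,18,20,18,20,17,20], []), ([21,21], []), ([17,18,19,21,18,21,
  18], []), ([17,21,17,21,18,19,18,21], []), ([17,21,20,21,17,21,20,21], []), ([22,22], []), ([18,19,18,22,21,
  22], []), ([17,21,22,17,21,22], []), ([17,19,21,19,22,18,22], []), ([19,20,22,19,20,22,20,19,22], []), ([18,
  17,18,17,18,17], [])]

theorem hE : Eqs a E := eqs_of_mdl M (by decide +kernel)

theorem ch : 2 ^ 6 * 51840 ≤ Nat.card (Spor.genL a ([11,12,13,14,15,16] ++ [17,18,19,20,21,22])) :=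
  le_card_genL M [[11,21],[22,20],[17,19],[22,18,20,21,12],[17,18],[13,14],[20,22,17,22,20],[11],[17],[21,20,22,20,21],[20,22,
  18,22,20],[11,13],[21,20,22,20,18,21,20,22,21,20,21,18,22,20]]
    [3457,3489,3490,208,2408,2424] (by decide +kernel)

theorem shp3 : ∃ π : Fx (s * MulAut.conj (y 8 * y 0)) →* O6mP.G, Shp π ∧ Nat.card π.ker = 64 ∧
    ∀ x, π x = 1 → x * x = 1 := by
  have b := bound [11, 8, 0] (by decide) (ds := ds3) (lv := lv3) (m := 6635519) (by decide +kernel)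
  rw [← e3]
  have hle : Spor.genL a ([11,12,13,14,15,16] ++ [17,18,19,20,21,22]) ≤ Fx (W x [11, 8, 0]) :=
    Spor.genL_le fun l hl => fx_W (by revert l; decide +kernel)
  obtain ⟨h1, h2⟩ := elem_ab (a := a) (l := [11,12,13,14,15,16]) fun i hi =>
    ⟨by simpa using M.eq (u := [i, i]) (v := []) (by revert i; decide +kernel), fun j hj => by
      simpa [Commute, SemiconjBy] using M.eq (u := [i, j]) (v := [j, i]) (by revert i j; decide +kernel)⟩
  have := O6mT.mdl.finite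
  obtain ⟨h3, π, h4, h5⟩ := quot_pack hE O6mP.lifts hle (e := 2 ^ 6) (by rw [O6mP.card]; omega) (O6mP.card ▸ ch) h2
    (by decide +kernel)
  have c := (Nat.card_congr (subgroupOfEquivOfLe ((Spor.genL_mono a (by decide)).trans hle)).toEquiv).trans h3
  rw [← h5] at c
  exact ⟨π, ⟨h4, .of_card c, odd_of hE hle h5 [18,17] 12 (by decide +kernel) (ne_of_chk M 0 (by decide +kernel))⟩,
    c, fun x k => Subtype.ext (h1 _ (h5.le k))⟩

def us' : List (List ℕ) := [[0],[1],[2],[3],[4],[5],[6],[7],[8],[9],[10],[11],[5,10,9,5,11,9,10,2],[11,10,11,2,6],[11,8,9,5,8,9,7,8,9,10,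
  11,6],[10,6,5,10,6],[1,2,0,1,5,9,11,9,11],[9,6,5,7,9,4,2],[5,7,4,0,6],[9,8,9,11,9,5,11,8,9,11,9,11,8,9],[9,4,
  5,7,9,4,2],[9,8,5,4,9,5,10,5,9,4,5,9,8,9,4,6],[5,6,4,5,4,0,6],[11,9,11,8,7,11,7,8,9,11],[10,11,9,5,9,11,10],
  [2],[7,11,7,11],[5,10,4,5,7,11,7,11,10,4],[5,6,9,5,10,5,9,4,5,9,10,2,6],[0,2]]

noncomputable def a' (j : ℕ) : MulAut G₀ := W x (nthL [] us' j)

noncomputable def ac' (j : ℕ) : ℕ → ℕ := actW act (nthL [] us' j)

theorem M' : Mdl ρ 3510 12 129123503308800 a' ac' [3488,3265,3489,2409,3490,3285,3494,3491,3457] := mdl_wd mdl us' (by decide)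

def cw (k j : ℕ) : ℕ := nthL 0 (nthL [] [[125056],[38984,0],[3988,4352,4352],[2320,11264,3670,0],[288,1833,4118,1960,4008],[400,1808,3416,144,3472,
  3328],[490,384,1476,72,802,712,1096],[728,494,606,821,565,200,728,0],[384,482,170,0,160,416,416,448,0],[202,0,
  0,9,187,96,200,224,224,0],[8,64,100,0,72,0,0,112,0,0,0],[24,0,0,44,44,48,8,16,48,0,32,0],[0,21,21,0,0,8,8,0,0,
  0,0,0,0],[0,0,0,0,8,0,0,0,0,0,0,0,0,0],[0,0,1,0,0,0,0,2,0,4,0,0,0,0,0],[3,0,0,0,1,2,2,0,0,0,0,0,0,0,0,0],[0,1,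
  1,0,0,0,0,0,0,0,0,0,0,0,0,0,0],[0,0,0,0,0,0,0,0,0,0,0,0,0,0,0,0,0,0]] k) j

noncomputable def T : C2 := (.sp (.leaf 1) (.sp (.sp (.sp (.sp (.mer 4 (nat_lit 1418) (.sp (.mer 6 (nat_lit 391) (.pr (nat_lit 488))) (.mer 6 (nat_lit 797) (.mer (nat_lit 64) (nat_lit 506) (.sp (.sp (.mer (nat_lit 512) 8 (.sp (.sp (.pr 2) (.pr 2)) (.sp (.pr 0) (.pr 0)))) (.mer (nat_lit 512) (nat_lit 40) (.sp (.sp (.mer (nat_lit 1024) 0 (.sp (.pr 0) (.mer (nat_lit 32768) 0 (.mer (nat_lit 32800) 0 (.leaf (nat_lit 7387976255545347556459136090509348153870101028930)))))) (.mer (nat_lit 1024) 0 (.sp (.pr 0) (.mer (nat_lit 32768) 0 (.mer (nat_lit 32800) 0 (.leaf (nat_lit 5971783482234765380239332754341650399379903832260))))))) (.sp (.mer (nat_lit 1024) 0 (.sp (.mer (nat_lit 32768) 0 (.mer (nat_lit 1104) 0 (.leaf (nat_lit 23550333087136769054763641865339450692313645378)))) (.pr 0))) (.mer (nat_lit 1024) 0 (.sp (.mer (nat_lit 32768) 0 (.sp (.leaf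 (nat_lit 4005980468885446814035031727086248128)) (.leaf (nat_lit 809823291156450140157892695123758082437480644)))) (.pr 0))))))) (.mer (nat_lit 80) (nat_lit 17) (.pr (nat_lit 28)))))))) (.mer 4 (nat_lit 3573) (.sp (.sp (.mer (nat_lit 128) (nat_lit 86) (.sp (.mer (nat_lit 512) (nat_lit 96) (.sp (.sp (.mer (nat_lit 576) 9 (.pr 4)) (.mer (nat_lit 576) (nat_lit 13) (.pr 4))) (.sp (.mer (nat_lit 576) (nat_lit 11) (.mer (nat_lit 2048) 4 (.sp (.mer (nat_lit 2304) 1 (.mer (nat_lit 32768) 0 (.leaf (nat_lit 1690337615864691514235379786598883460)))) (.mer (nat_lit 2304) 1 (.pr 0))))) (.mer (nat_lit 576) (nat_lit 15) (.mer (nat_lit 2048) 4 (.sp (.mer (nat_lit 2304) 1 (.mer (nat_lit 32768) 0 (.leaf (nat_lit 8422842641618428772829470516890273686061378)))) (.mer (nat_lit 2304) 1 (.pr 0)))))))) (.pr (nat_lit 40)))) (.pr (nat_lit 310))) (.sp (.mer (nat_lit 128) (nat_lit 90) (.sp (.mer (nat_lit 512) 4 (.sp (.sp (.mer 2 9 (.mer (nat_lit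 2048) 5 (.mer (nat_lit 2624) 1 (.pr 0)))) (.sp (.mer (nat_lit 2048) 5 (.mer (nat_lit 2624) 0 (.mer (nat_lit 4096) 0 (.mer (nat_lit 8192) 0 (.leaf (nat_lit 18234689754166022591110278010675330)))))) (.mer (nat_lit 2048) 5 (.mer (nat_lit 2624) 0 (.mer (nat_lit 4096) 0 (.pr 0)))))) (.sp (.mer 2 9 (.pr 7)) (.sp (.pr 5) (.pr 1))))) (.pr (nat_lit 36)))) (.pr (nat_lit 282)))))) (.sp (.mer 2 4 (.mer 4 (nat_lit 69) (.sp (.mer (nat_lit 128) (nat_lit 86) (.sp (.mer (nat_lit 512) (nat_lit 57) (.sp (.mer (nat_lit 704) (nat_lit 23) (.sp (.pr 6) (.pr 6))) (.mer (nat_lit 704) (nat_lit 27) (.sp (.mer (nat_lit 2048) 6 (.sp (.mer (nat_lit 32768) 1 (.mer (nat_lit 35840) 0 (.leaf (nat_lit 426355296171809303474057091458929877442)))) (.pr 1))) (.mer (nat_lit 2048) 6 (.sp (.mer (nat_lit 32768) 1 (.mer (nat_lit 35840) 0 (.leaf (nat_lit 1076076462866759642588580927602944179641066116)))) (.pr 1))))))) (.pr (nat_lit 17)))) (.pr (nat_lit 438)))))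 (.sp (.sp (.sp (.mer (nat_lit 16) (nat_lit 232) (.mer 4 7 (.pr (nat_lit 68)))) (.mer 8 (nat_lit 72) (.mer 2 (nat_lit 90) (.pr (nat_lit 31))))) (.sp (.sp (.sp (.mer 4 (nat_lit 47) (.mer 6 (nat_lit 19) (.sp (.sp (.mer (nat_lit 32) 4 (.mer (nat_lit 512) 3 (.pr 0))) (.mer (nat_lit 32) 4 (.mer (nat_lit 512) 3 (.pr 1)))) (.sp (.mer (nat_lit 32) 6 (.mer (nat_lit 512) 3 (.mer (nat_lit 4096) 0 (.mer (nat_lit 8192) 0 (.leaf (nat_lit 14707171469952552076415445373853302281336493507268)))))) (.mer (nat_lit 32) 6 (.mer (nat_lit 512) 3 (.mer (nat_lit 4096) 0 (.pr 0)))))))) (.mer (nat_lit 16) (nat_lit 125) (.mer (nat_lit 24) (nat_lit 20) (.mer (nat_lit 20) 3 (.mer (nat_lit 64) 8 (.mer (nat_lit 32) 3 (.pr 2))))))) (.sp (.sp (.mer 4 0 (.sp (.sp (.mer (nat_lit 64) 4 (.sp (.mer (nat_lit 4096) 0 (.mer (nat_lit 8192) 0 (.leaf (nat_lit 1421148792591372395424062300467093693350656)))) (.mer (nat_lit 4096) 0 (.mer (nat_lit 8192) 0 (.leaf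 (nat_lit 80199817580090602161197196807618569762272002628)))))) (.mer (nat_lit 64) 4 (.sp (.mer (nat_lit 4096) 0 (.pr 0)) (.mer (nat_lit 4096) 0 (.pr 0))))) (.mer 2 2 (.mer (nat_lit 64) 6 (.sp (.pr 0) (.pr 0)))))) (.mer 4 (nat_lit 18) (.sp (.sp (.mer (nat_lit 64) 4 (.mer (nat_lit 128) 3 (.mer (nat_lit 4096) 0 (.pr 0)))) (.mer (nat_lit 64) 4 (.mer (nat_lit 128) 3 (.mer (nat_lit 4096) 0 (.mer (nat_lit 8192) 0 (.leaf (nat_lit 49514423116751795876324103999265674666436))))))) (.mer 2 (nat_lit 10) (.mer (nat_lit 64) 6 (.mer (nat_lit 128) 3 (.pr 1))))))) (.mer (nat_lit 16) (nat_lit 21) (.mer (nat_lit 24) (nat_lit 32) (.sp (.mer (nat_lit 64) (nat_lit 13) (.sp (.mer (nat_lit 256) 2 (.mer (nat_lit 4096) 0 (.mer (nat_lit 16384) 0 (.leaf (nat_lit 7433648197959759296513943646543738312658854674564))))) (.mer (nat_lit 256) 2 (.mer (nat_lit 4096) 0 (.pr 0))))) (.mer (nat_lit 64) 9 (.mer (nat_lit 92) 1 (.mer (nat_lit 256) 2 (.pr 0)))))))))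 (.mer (nat_lit 16) (nat_lit 410) (.mer 4 (nat_lit 96) (.sp (.mer (nat_lit 64) (nat_lit 53) (.mer (nat_lit 96) 2 (.mer (nat_lit 213030) 6 (.mer (nat_lit 24) 2 (.pr 2))))) (.mer (nat_lit 64) (nat_lit 21) (.mer (nat_lit 96) 2 (.sp (.sp (.mer (nat_lit 1024) 1 (.pr 1)) (.mer (nat_lit 1024) 1 (.mer (nat_lit 16384) 0 (.pr 0)))) (.sp (.mer (nat_lit 1024) 1 (.pr 0)) (.mer (nat_lit 1024) 1 (.mer (nat_lit 16384) 0 (.mer (nat_lit 8192) 0 (.leaf (nat_lit 11703793516725056934102129116365850922158102962628)))))))))))))) (.sp (.sp (.mer (nat_lit 16) (nat_lit 378) (.sp (.mer (nat_lit 64) (nat_lit 12) (.mer 4 (nat_lit 44) (.mer (nat_lit 128) (nat_lit 16) (.mer (nat_lit 512) 4 (.pr 4))))) (.mer (nat_lit 64) (nat_lit 40) (.mer 4 (nat_lit 12) (.mer (nat_lit 128) (nat_lit 12) (.pr (nat_lit 13))))))) (.mer 8 (nat_lit 410) (.mer 4 (nat_lit 37) (.mer (nat_lit 64) (nat_lit 71) (.mer 6 1 (.pr 2)))))) (.sp (.sp (.mer 4 (nat_lit 170) (.mer (nat_lit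 64) (nat_lit 12) (.mer (nat_lit 128) (nat_lit 12) (.sp (.sp (.mer (nat_lit 256) 4 (.sp (.sp (.mer (nat_lit 32768) 0 (.leaf (nat_lit 65677503358768233968377551264730528686528))) (.mer (nat_lit 32768) 0 (.leaf (nat_lit 626517476174024616453934606443387845571805316)))) (.mer (nat_lit 336) 1 (.pr 0)))) (.mer (nat_lit 256) 4 (.sp (.sp (.pr 0) (.pr 0)) (.mer (nat_lit 336) 0 (.mer (nat_lit 32768) 0 (.leaf (nat_lit 80915521189734907810998663413284088220529762820))))))) (.mer 2 2 (.mer (nat_lit 256) 4 (.sp (.mer (nat_lit 288) 0 (.mer (nat_lit 32768) 0 (.leaf (nat_lit 298746691208958354916915453157129158850)))) (.mer (nat_lit 288) 1 (.pr 0))))))))) (.mer 4 (nat_lit 95) (.mer (nat_lit 64) (nat_lit 100) (.mer (nat_lit 128) 4 (.sp (.mer (nat_lit 66) (nat_lit 11) (.pr 4)) (.sp (.pr 4) (.pr 0))))))) (.mer (nat_lit 16) (nat_lit 456) (.mer 2 (nat_lit 251) (.mer (nat_lit 64) (nat_lit 71) (.pr (nat_lit 28)))))))))) (.sp (.sp (.pr (nat_lit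 150)) (.pr (nat_lit 633))) (.sp (.mer 8 (nat_lit 913) (.pr (nat_lit 1827))) (.mer 8 (nat_lit 3729) (.mer (nat_lit 16) (nat_lit 463) (.sp (.sp (.pr (nat_lit 91)) (.pr (nat_lit 142))) (.sp (.mer (nat_lit 128) (nat_lit 59) (.mer (nat_lit 256) (nat_lit 74) (.mer (nat_lit 192) (nat_lit 54) (.sp (.mer (nat_lit 4096) 6 (.sp (.mer (nat_lit 16384) 0 (.sp (.mer (nat_lit 65536) 0 (.leaf (nat_lit 4883948553208948132200266508633040462348932))) (.pr 0))) (.pr 0))) (.pr 6))))) (.mer (nat_lit 128) (nat_lit 251) (.pr (nat_lit 74)))))))))) (.sp (.sp (.sp (.pr (nat_lit 2752)) (.mer (nat_lit 16) (nat_lit 3844) (.mer (nat_lit 20) (nat_lit 1090) (.sp (.mer (nat_lit 128) (nat_lit 199) (.sp (.mer (nat_lit 512) (nat_lit 32) (.sp (.sp (.pr (nat_lit 15)) (.mer (nat_lit 4096) 6 (.pr 4))) (.sp (.pr (nat_lit 14)) (.mer (nat_lit 4096) 6 (.mer (nat_lit 2048) 0 (.mer (nat_lit 2816) 0 (.sp (.pr 0) (.mer (nat_lit 65536) 0 (.leaf (nat_lit 245134488754078525257140391739842))))))))))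 (.pr (nat_lit 92)))) (.pr (nat_lit 183)))))) (.sp (.pr (nat_lit 1556)) (.mer (nat_lit 16) (nat_lit 3136) (.sp (.sp (.sp (.mer (nat_lit 128) (nat_lit 119) (.pr (nat_lit 72))) (.mer (nat_lit 128) (nat_lit 183) (.mer (nat_lit 256) (nat_lit 24) (.sp (.sp (.mer (nat_lit 4096) 6 (.mer (nat_lit 4416) 3 (.pr 2))) (.pr (nat_lit 12))) (.sp (.mer (nat_lit 4096) 6 (.mer (nat_lit 4416) 4 (.mer (nat_lit 2048) 0 (.sp (.pr 0) (.mer (nat_lit 65536) 0 (.leaf (nat_lit 65593086956989074424184843251268135690436))))))) (.pr (nat_lit 14))))))) (.mer 8 (nat_lit 122) (.pr (nat_lit 134)))) (.sp (.sp (.mer (nat_lit 128) (nat_lit 105) (.pr (nat_lit 48))) (.mer (nat_lit 128) (nat_lit 105) (.mer (nat_lit 256) (nat_lit 48) (.sp (.sp (.mer (nat_lit 4096) (nat_lit 10) (.mer (nat_lit 4360) 7 (.mer (nat_lit 4416) 3 (.sp (.mer (nat_lit 65536) 0 (.leaf (nat_lit 2156499981954225481548151425748665674793476))) (.pr 0))))) (.pr (nat_lit 10))) (.sp (.mer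 (nat_lit 4096) (nat_lit 10) (.sp (.sp (.sp (.pr 0) (.mer (nat_lit 65536) 0 (.leaf (nat_lit 2357527159131301847621719303037976708)))) (.sp (.mer (nat_lit 65536) 0 (.leaf (nat_lit 60402809861529577078608368005520775225536))) (.pr 0))) (.mer (nat_lit 388) 3 (.sp (.pr 0) (.mer (nat_lit 65536) 0 (.leaf (nat_lit 18234050957538597819602708534952452))))))) (.pr 2)))))) (.mer 8 (nat_lit 168) (.pr (nat_lit 232)))))))) (.sp (.sp (.mer (nat_lit 16) (nat_lit 3159) (.mer (nat_lit 20) (nat_lit 1980) (.pr (nat_lit 326)))) (.pr (nat_lit 1241))) (.sp (.pr (nat_lit 2491)) (.mer (nat_lit 16) (nat_lit 2135) (.sp (.mer (nat_lit 24) (nat_lit 144) (.sp (.pr (nat_lit 97)) (.pr (nat_lit 189)))) (.mer (nat_lit 24) (nat_lit 253) (.sp (.mer (nat_lit 64) (nat_lit 174) (.mer (nat_lit 68) (nat_lit 60) (.pr (nat_lit 35)))) (.mer (nat_lit 64) (nat_lit 222) (.sp (.pr (nat_lit 48)) (.pr (nat_lit 26)))))))))))))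

theorem cov (t : MulAut G₀) (h2 : t ^ 2 = 1) (h1 : t ∉ Inn₀) : ∃ i < 3, IsConj t (W a' (nthL [] [[11],[11,8],[11,8,0]] i)) :=
  haveI := normal_of_index_eq_two idx
  cover2 M' (rs := [[11], [11, 8], [11, 8, 0]]) (s := 12) (n := 18) (cw := cw) (by decide +kernel) (r := 492567075) (by decide) (by decide)
    [1,2,4,8,16,32,64,128,256,512,1024,2048,4096,8192,16384,32768,65536,131072,14401,66656] [3488,3491,3499,3285,2440,548,4,0] (by decide +kernel) T (b := true)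
    (fun _ j h1 h2 => (inn_W _).2 (by revert j; decide +kernel)) (by decide +kernel) t h2 h1

theorem p72 : P72 O6mP.G (MulAut (Omega (ZMod 2) (quadFormPlus 4 (ZMod 2)))) (Multiplicative (ZMod 2) × PSp 3 (ZMod 2))
    s (y 8) (y 0) := by
  have n : ∀ u v, countLt 3510 (fun p => Nat.beq p (actW act u p)) ≠ countLt 3510 (fun p => Nat.beq p (actW act v p)) →
      ¬ IsConj (W x u) (W x v) := fun u v h c => h (by
    rw [← cnt_W mdl, ← cnt_W mdl, cnt_cj mdl invR_beq ((isConj_iff.1 c).imp fun _ => .inl)])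
  have := Fact.mk Nat.prime_two
  refine ⟨orderOf_eq_prime ((pow_two _).trans exs.choose_spec.1) fun e => s_out ⟨1, by rw [e, map_one]⟩, s_out, iso1,
    (exs.choose_spec.2 8 (by decide)).trans (mul_one _), (exs.choose_spec.2 0 (by decide)).trans (mul_one _),
    fun t h1 h2 => ?_, e1 ▸ e2 ▸ n _ _ (by decide +kernel), e1 ▸ e3 ▸ n _ _ (by decide +kernel),
    e2 ▸ e3 ▸ n _ _ (by decide +kernel), fx2, iso2, shp3⟩
  obtain ⟨i, hi, c⟩ := cov t (h1 ▸ pow_orderOf_eq_one t) h2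
  rw [← e3, ← e2, ← e1]
  interval_cases i
  exacts [.inl (by simpa [a', us', nthL_eq] using c), .inr (.inl (by simpa [a', us', nthL_eq] using c)),
    .inr (.inr (by simpa [a', us', nthL_eq] using c))]

end F22S

end Cfsg.Agent.Small
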