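import Cfsg.Agent.Comp.Pc
import Cfsg.Agent.Known.Bridge
import Cfsg.Agent.Known.Cover

/-! Classes of subgroups of order `3` (helper9): the predicate `C3` (representatives), its transport, the cover theorem
`cover3` for models with a power-commutator series, class functions `cnt`, automorphisms on words `Au`. -/

set_option autoImplicit false

namespace Cfsg.Agent.Small

open Known Comp Subgroup Equiv

section abstract
variable {G : Type*} [Group G]

/-- `z` is conjugate to `r` or to its inverse. -/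
def Cj3 (z r : G) : Prop := ∃ g : G, g * z * g⁻¹ = r ∨ g * z * g⁻¹ = r⁻¹

/-- `L` has `m` classes (under `G`) of subgroups of order `3`. -/
def C3 (L : Subgroup G) (m : ℕ) : Prop := ∃ r : Fin m → G, (∀ i, r i ∈ L ∧ r i ^ 3 = 1 ∧ r i ≠ 1) ∧
  (∀ i j, Cj3 (r i) (r j) → i = j) ∧ ∀ z ∈ L, z ^ 3 = 1 → z ≠ 1 → ∃ i, Cj3 z (r i)

theorem Cj3.conj {z r : G} (u : G) (h : Cj3 (u * z * u⁻¹) r) : Cj3 z r :=
  let ⟨g, h⟩ := h
  ⟨g * u, by simpa [mul_assoc] using h⟩

theorem Cj3.inv {z r : G} (h : Cj3 z⁻¹ r) : Cj3 z r :=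
  let ⟨g, h⟩ := h
  ⟨g, h.symm.imp (fun e => by rw [← inv_inj, ← e]; group) fun e => by rw [← e]; group⟩

theorem Cj3.map {H : Type*} [Group H] (f : G →* H) {z r : G} (h : Cj3 z r) : Cj3 (f z) (f r) :=
  let ⟨g, h⟩ := h
  ⟨f g, by simpa [← map_mul, ← map_inv] using h.imp (congrArg f) (congrArg f)⟩

theorem Cj3.trans {a b c : G} (h : Cj3 a b) (k : Cj3 b c) : Cj3 a c := by
  obtain ⟨g, rfl | h⟩ := h
  · exact k.conj g
  · rw [← inv_inv b, ← h] at k
    exact k.inv.conj g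

theorem C3.congr {H : Type*} [Group H] (e : G ≃* H) {L : Subgroup G} {K : Subgroup H} (hK : ∀ x, e x ∈ K ↔ x ∈ L)
    {m : ℕ} (h : C3 K m) : C3 L m := by
  obtain ⟨r, h1, h2, h3⟩ := h
  refine ⟨fun i => e.symm (r i), fun i => ⟨(hK _).1 (by simpa using (h1 i).1), by rw [← map_pow, (h1 i).2.1, map_one],
    by simpa using (h1 i).2.2⟩, fun i j c => h2 i j (by simpa using c.map e.toMonoidHom), fun z hz a b => ?_⟩
  obtain ⟨i, c⟩ := h3 (e z) ((hK z).2 hz) (by rw [← map_pow, a, map_one]) (by simpa using b)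
  exact ⟨i, by simpa using c.map e.symm.toMonoidHom⟩

theorem mem_zpowers_three {r z : G} (h : r ^ 3 = 1) (hz : z ∈ zpowers r) : z = 1 ∨ z = r ∨ z = r⁻¹ := by
  obtain ⟨k, rfl⟩ := mem_zpowers_iff.1 hz
  have e : r ^ k = r ^ (k % 3) := by
    conv_lhs => rw [← Int.mul_ediv_add_emod k 3, zpow_add, zpow_mul]
    rw [show r ^ (3 : ℤ) = 1 from (zpow_natCast r 3).trans h, one_zpow, one_mul]
  obtain c | c | c : k % 3 = 0 ∨ k % 3 = 1 ∨ k % 3 = 2 := by omega
  · exact .inl (by rw [e, c, zpow_zero])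
  · exact .inr (.inl (by rw [e, c, zpow_one]))
  · refine .inr (.inr ?_)
    rw [e, c, eq_inv_iff_mul_eq_one, ← zpow_add_one]
    exact (zpow_natCast r 3).trans h

theorem C3.spec {L : Subgroup G} {m : ℕ} (h : C3 L m) : ∃ Y : Fin m → Subgroup G, (∀ i, Y i ≤ L ∧ Nat.card (Y i) = 3) ∧
    (∀ i j, (∃ g : G, (Y i).map (MulAut.conj g).toMonoidHom = Y j) → i = j) ∧
    ∀ X : Subgroup G, X ≤ L → Nat.card X = 3 → ∃ i, ∃ g : G, X.map (MulAut.conj g).toMonoidHom = Y i := by
  obtain ⟨r, h1, h2, h3⟩ := h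
  have : Fact (Nat.Prime 3) := ⟨Nat.prime_three⟩
  refine ⟨fun i => zpowers (r i), fun i => ⟨zpowers_le.2 (h1 i).1, ?_⟩, fun i j ⟨g, e⟩ => h2 i j ⟨g, ?_⟩,
    fun X hX c => ?_⟩
  · rw [Nat.card_zpowers, orderOf_eq_prime (h1 i).2.1 (h1 i).2.2]
  · have : g * r i * g⁻¹ ∈ zpowers (r j) := by
      rw [← show _ = zpowers (r j) from e]
      exact mem_map_of_mem _ (mem_zpowers _)
    exact (mem_zpowers_three (h1 j).2.1 this).resolve_left fun k => (h1 i).2.2 (by simpa using k)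
  · have hc : IsCyclic X := isCyclic_of_prime_card c
    obtain ⟨z, hz⟩ := (isCyclic_iff_exists_zpowers_eq_top).1 hc
    have e : zpowers (z : G) = X := by
      have := congrArg (map X.subtype) hz
      rwa [MonoidHom.map_zpowers, ← MonoidHom.range_eq_map, X.range_subtype] at this
    have o : orderOf (z : G) = 3 := by rw [← Nat.card_zpowers, e, c]
    obtain ⟨i, g, k⟩ := h3 z (hX z.2) (o ▸ pow_orderOf_eq_one _) fun k => by simp [k] at o
    refine ⟨i, g, ?_⟩
    rw [← e, MonoidHom.map_zpowers]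
    rcases k with k | k
    · exact congrArg zpowers k
    · exact (congrArg zpowers k).trans zpowers_inv

theorem C3.spec_top {m : ℕ} (h : C3 (⊤ : Subgroup G) m) : ∃ Y : Fin m → Subgroup G, (∀ i, Nat.card (Y i) = 3) ∧
    (∀ i j, (∃ g : G, (Y i).map (MulAut.conj g).toMonoidHom = Y j) → i = j) ∧
    ∀ X : Subgroup G, Nat.card X = 3 → ∃ i, ∃ g : G, X.map (MulAut.conj g).toMonoidHom = Y i :=
  let ⟨Y, h1, h2, h3⟩ := h.spec
  ⟨Y, fun i => (h1 i).2, h2, fun X => h3 X le_top⟩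

/-- the covering property. -/
def Gd3 (ρ : ℕ → G) (z : G) : Prop := z ^ 3 = 1 → ∃ i, Cj3 z (ρ i)

theorem Gd3.conj {ρ : ℕ → G} (g z : G) (h : Gd3 ρ (g * z * g⁻¹)) : Gd3 ρ z := fun e =>
  let ⟨i, h⟩ := h (by rw [conj_pow, e, mul_one, mul_inv_cancel])
  ⟨i, h.conj g⟩

theorem Gd3.inv {ρ : ℕ → G} (z : G) (h : Gd3 ρ z⁻¹) : Gd3 ρ z := fun e =>
  let ⟨i, h⟩ := h (by rw [inv_pow, e, inv_one])
  ⟨i, h.inv⟩

end abstract

/-- leaves: conjugation to a listed word, or a jump to a listed coset. -/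
def lf3 (eq : List ℕ → List ℕ → Bool) (n : ℕ) (rs : List (List ℕ)) (js : List (ℕ × List ℕ)) (k : ℕ) (c : List ℕ)
    (a : ℕ) : Bool :=
  force (Nat.div a 2) fun a' => Nat.rec (motive := fun _ => Bool)
    (band (Nat.ble n k) (eq (appendL (decV 128 99 (Nat.div a' 32)) c)
      (appendL (nthL [] rs (Nat.mod a' 32)) (decV 128 99 (Nat.div a' 32)))))
    (fun _ _ => band (Nat.blt a' (lenL js)) (band (Nat.beq k (nthL (0, []) js a').1) (eq c (nthL (0, []) js a').2)))
    (Nat.mod a 2)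

/-- the letters of the word belong to the series. -/
def inP (s n : ℕ) (c : List ℕ) : Bool := allL c fun l => band (Nat.ble s l) (Nat.blt l (Nat.add s (Nat.mul 2 n)))

/-- the torus letters normalise the series. -/
def chkT3 (eq : List ℕ → List ℕ → Bool) (s n nm nb : ℕ) (cw : ℕ → ℕ → ℕ) : Bool :=
  band (Nat.blt nm (Nat.pow 2 nb)) (allLt nb fun j => bor (not (tb nm j)) (chkNrm eq s n 0 (fun i => i) [j] (cw j)))

section cover
variable {G : Type*} [Group G] [Finite G] {x : ℕ → G} {eq : List ℕ → List ℕ → Bool} {s n : ℕ}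

theorem W_inP (h : PcOk x s n) {c : List ℕ} (e : inP s n c = true) : W x c ∈ Pk x s n 0 := W_mem _ fun l hl => by
  have := allL_iff.1 e l hl
  simp only [band_eq, Bool.and_eq_true, nble, nblt, Nat.add_eq, Nat.mul_eq] at this
  obtain ⟨k, c | c⟩ : ∃ k, l = s + 2 * k ∨ l = s + 2 * k + 1 := ⟨(l - s) / 2, by omega⟩
  · exact c ▸ mem_Pk k.zero_le (by omega)
  · rw [c, h.sq k (by omega)]; exact pow_mem (mem_Pk k.zero_le (by omega)) _

/-- data for cover trees. -/
structure Cv (x : ℕ → G) (eq : List ℕ → List ℕ → Bool) (s n nm : ℕ) : Prop where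
  or : Or x eq
  pc : PcOk x s n
  ge : 3 ^ n ≤ Nat.card (Pk x s n 0)
  tor : ∀ j, nm.testBit j = true → ∀ k, x j ∈ normalizer (Pk x s n k : Set G)

theorem tor_of_chk (ho : Or x eq) (h : PcOk x s n) {nm nb : ℕ} {cw : ℕ → ℕ → ℕ} (hT : chkT3 eq s n nm nb cw = true) :
    ∀ j, nm.testBit j = true → ∀ k, x j ∈ normalizer (Pk x s n k : Set G) := fun j hj k => by
  simpa using nrm_of_chk ho h.sq (forall_mask hT j hj) k.zero_le fun _ => id

theorem Cv.tree {nm : ℕ} (h : Cv x eq s n nm) {rs : List (List ℕ)} {js : List (ℕ × List ℕ)}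
    (hJ : ∀ p ∈ js, Cl (Pk x s n p.1) (Gd3 fun i => W x (nthL [] rs i)) (W x p.2)) (T : CT) {k : ℕ} {c : List ℕ}
    (e : band (inP s n c) (T.chk eq s n nm 3 (lf3 eq n rs js) k c) = true) :
    Cl (Pk x s n k) (Gd3 fun i => W x (nthL [] rs i)) (W x c) := by
  rw [band_eq, Bool.and_eq_true] at e
  refine CT.sound h.or h.pc (Γ := ⊤) le_top (fun j hj => ⟨mem_top _, h.tor j hj⟩) (fun g _ => Gd3.conj g)
    (fun _ => Gd3.inv) (fun _ => ⟨fun z a b => absurd b a, h.ge⟩) (fun k c a _ e => ?_) T k c (W_inP h.pc e.1) e.2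
  rw [lf3, force_eq] at e
  generalize Nat.div a 2 = a' at e
  rcases hm : Nat.mod a 2 with _ | t <;> rw [hm] at e
  · simp only [Nat.rec_zero, band_eq, Bool.and_eq_true, nble, appendL_eq] at e
    intro z hz _
    rw [Pk_bot e.1, mem_bot, mul_inv_eq_one] at hz
    have := h.or _ _ e.2
    rw [W_append, W_append] at this
    exact ⟨_, W x (decV 128 99 (Nat.div a' 32)), .inl (by rw [hz, this, mul_inv_cancel_right])⟩
  · change band _ _ = true at e
    simp only [band_eq, Bool.and_eq_true, nblt, nbeq, lenL_eq, nthL_eq] at e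
    obtain ⟨e1, e2, e3⟩ := e
    rw [List.getD_eq_getElem _ _ e1] at e2 e3
    rw [e2, h.or _ _ e3]
    exact hJ _ (List.getElem_mem e1)

theorem Cv.cover {nm r : ℕ} (h : Cv x eq s n nm) (hG : Nat.card G = 3 ^ n * r) (hr : ¬ 3 ∣ r) {rs : List (List ℕ)}
    (e : Cl (Pk x s n 0) (Gd3 fun i => W x (nthL [] rs i)) (W x [])) (z : G) (h3 : z ^ 3 = 1) (h1 : z ≠ 1) :
    ∃ i < rs.length, Cj3 z (W x (nthL [] rs i)) := by
  obtain ⟨u, hu⟩ := exists_conj_mem (h.pc.card_eq h.ge n.zero_le) hG hr h3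
  obtain ⟨i, c⟩ := Gd3.conj u z (e _ (by simpa using hu)) h3
  refine ⟨i, not_le.1 fun k => h1 ?_, c⟩
  simp only [nthL_eq, List.getD_eq_default _ _ k] at c
  obtain ⟨g, c⟩ := c
  simpa using c

end cover

section model
variable {Γ : Type*} [Group Γ] {φ : Γ →* Perm ℕ} {N k n : ℕ} {y : ℕ → Γ} {act : ℕ → ℕ → ℕ} {B : List ℕ}

/-- the table of the letter `j` is that of the word `us j`. -/
def chkX (N : ℕ) (act act' : ℕ → ℕ → ℕ) (us : List (List ℕ)) (j : ℕ) : Bool :=
  allLt N fun i => Nat.beq (act' j i) (actW act (nthL [] us j) i)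

/-- new letters with tables. -/
theorem mdl_ext (M : Mdl φ N k n y act B) (us : List (List ℕ)) {w t0 : ℕ} {tabs : List ℕ} {l : ℕ}
    (h : ∀ j < l + 1, chkX N act (fun j => get2 w (nthL t0 tabs j)) us j = true) (h1 : us.length ≤ l)
    (h2 : tabs.length ≤ l) (h3 : ∀ j < k, nthL [] us j = [j]) :
    Mdl φ N k n (fun j => W y (nthL [] us j)) (fun j => get2 w (nthL t0 tabs j)) B := by
  letI := actOf φ
  refine ⟨M.fix, ?_, M.base, eq_top_iff.2 (M.top ▸ Spor.genL_le fun i hi => ?_), M.card, M.pos⟩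
  · rintro j _ a _ rfl ⟨rfl, ha⟩
    refine ⟨?_, M.lt _ ha⟩
    show _ = φ _ a
    rw [M.applyW _ ha]
    rcases lt_or_ge j (l + 1) with c | c
    · exact nbeq.1 (allLt_iff.1 (h j c) a ha)
    · have := nbeq.1 (allLt_iff.1 (h l l.lt_succ_self) a ha)
      simp only [nthL_eq] at this ⊢
      rw [List.getD_eq_default _ _ h1, List.getD_eq_default _ _ h2] at this
      rwa [List.getD_eq_default _ _ (by omega), List.getD_eq_default _ _ (by omega)]
  · have := Spor.mem_genL (fun j => W y (nthL [] us j)) hi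
    simpa [h3 i (List.mem_range.1 hi)] using this

theorem cv_of_mdl (M : Mdl φ N k n y act B) {s d nm nb : ℕ} (h : chkSq (eqB act B) s d = true) {cw cn : ℕ → ℕ → ℕ}
    (h' : ∀ j < d, chkPc (eqB act B) s d cw j = true) (hT : chkT3 (eqB act B) s d nm nb cn = true)
    (ws : List (List ℕ)) (B' : List ℕ) (e : band (band (allL ws (inP s d)) (allL B' fun b => Nat.blt b N))
      (Nat.ble (Nat.pow 3 d) (chainL (fun j => actW act (nthL [] ws j)) (fun a => a) (Nat.succ N) B'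
        (List.range (lenL ws)))) = true) : haveI := M.finite; Cv y (eqB act B) s d nm := by
  letI := actOf φ
  haveI := M.finite
  have ho : Or y (eqB act B) := fun _ _ => M.eq
  have hp := pcOk_of_chk ho h h'
  simp only [band_eq, Bool.and_eq_true, nble] at e
  refine ⟨ho, hp, e.2.trans (chainL_le_card (M.hy.words ws) (isCanon_PtN N).func (isCanon_PtN N).canon B'
    (exists_PtN e.1.2) _ _ fun c _ => ⟨_, ?_, rfl⟩), tor_of_chk ho hp hT⟩
  rcases nthL_mem_or [] ws c with k | k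
  · exact W_inP hp (allL_iff.1 e.1.1 _ k)
  · simp only [k]; exact one_mem _

/-- the number of points related to their image. -/
def cnt (φ : Γ →* Perm ℕ) (N : ℕ) (rel : ℕ → ℕ → Bool) (z : Γ) : ℕ := countLt N fun p => rel p (φ z p)

/-- an invariant symmetric relation. -/
def InvR (φ : Γ →* Perm ℕ) (N : ℕ) (rel : ℕ → ℕ → Bool) : Prop :=
  (∀ g, ∀ a < N, ∀ b < N, rel a b = true → rel (φ g a) (φ g b) = true) ∧ ∀ a < N, ∀ b < N, rel a b = true → rel b a = true

theorem invR_beq : InvR φ N Nat.beq := ⟨fun _ _ _ _ _ h => by rw [nbeq.1 h, nbeq], fun _ _ _ _ h => by rw [nbeq.1 h, nbeq]⟩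

theorem cnt_W (M : Mdl φ N k n y act B) (rel : ℕ → ℕ → Bool) (w : List ℕ) :
    cnt φ N rel (W y w) = countLt N fun p => rel p (actW act w p) := by
  rw [cnt, countLt_eq, countLt_eq]
  exact congrArg _ (Finset.filter_congr fun p hp => by rw [M.applyW w (Finset.mem_range.1 hp)])

theorem cnt_le (M : Mdl φ N k n y act B) {rel : ℕ → ℕ → Bool} {z z' : Γ} (g : Γ)
    (h : ∀ p < N, rel p (φ z p) = true → rel (φ g p) (φ z' (φ g p)) = true) : cnt φ N rel z ≤ cnt φ N rel z' := by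
  rw [cnt, cnt, countLt_eq, countLt_eq]
  refine Finset.card_le_card_of_injOn (φ g) (fun p hp => ?_) (φ g).injective.injOn
  simp only [Finset.coe_filter, Finset.mem_range, Set.mem_setOf_eq] at hp ⊢
  exact ⟨M.lt g hp.1, h p hp.1 hp.2⟩

theorem cnt_cj (M : Mdl φ N k n y act B) {rel : ℕ → ℕ → Bool} (h : InvR φ N rel) {z r : Γ} (c : Cj3 z r) :
    cnt φ N rel z = cnt φ N rel r := by
  have a : ∀ g z, cnt φ N rel z ≤ cnt φ N rel (g * z * g⁻¹) := fun g z => cnt_le M g fun p hp e => by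
    simpa using h.1 g p hp _ (M.lt z hp) e
  have b : ∀ z, cnt φ N rel z ≤ cnt φ N rel z⁻¹ := fun z => cnt_le M z fun p hp e => by
    simpa using h.2 p hp _ (M.lt z hp) e
  have a' : ∀ g z, cnt φ N rel z = cnt φ N rel (g * z * g⁻¹) := fun g z =>
    (a g z).antisymm (by simpa [mul_assoc] using a g⁻¹ (g * z * g⁻¹))
  obtain ⟨g, rfl | c⟩ := c
  · exact a' g z
  · rw [a' g z, c]; exact (by simpa using b r⁻¹ : _ ≤ _).antisymm (b r)

variable {Γ' : Type} [Group Γ'] {φ' : Γ' →* Perm ℕ} {N' k' n' : ℕ} {y' : ℕ → Γ'} {act' : ℕ → ℕ → ℕ} {B' : List ℕ}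

/-- `α` maps the letters to the words `sw`. -/
def Au (y : ℕ → Γ) (y' : ℕ → Γ') (k : ℕ) (α : Γ →* Γ') (sw : List (List ℕ)) : Prop :=
  ∀ j < k, α (y j) = W y' (nthL [] sw j)

theorem exists_au {Γ : Type} [Group Γ] {y g : ℕ → Γ} {rels : List (List ℕ)} (hL : Lifts g k rels)
    (hy : ∀ j < k, y j = (g j)⁻¹) (M' : Mdl φ' N' k' n' y' act' B') (sw : List (List ℕ))
    (hr : allL rels (fun r => allL B' fun b => Nat.beq (actW (fun i => actW act' (nthL [] sw i)) r b) b) = true) :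
    ∃ α : Γ →* Γ', Au y y' k α sw := by
  letI := actOf φ'
  set z : ℕ → Γ' := fun i => W y' (nthL [] sw i) with hz
  have hev : ∀ w, (Spor.ev (fun i => (z i)⁻¹) w)⁻¹ = W z w := fun w => by
    induction w with
    | nil => simp
    | cons a w ih => rw [Spor.ev_cons, mul_inv_rev, ih, inv_inv, W_cons]
  obtain ⟨ψ, hψ⟩ := hL Γ' (fun i => (z i)⁻¹) fun r hr' => by
    rw [← inv_eq_one, hev]
    refine M'.ext fun b hb hb' => ?_
    have h1 := nbeq.1 (allL_iff.1 (allL_iff.1 hr r hr') b hb)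
    exact ((actW_spec (M'.hy.words sw) _ (show PtN N' b b from ⟨rfl, hb'⟩)).1.symm.trans h1).trans (by rw [map_one]; rfl)
  exact ⟨ψ, fun j hj => by rw [hy j hj, map_inv, hψ j hj, inv_inv]⟩

/-- the word `u` equals `w`, which is mapped to `v`. -/
def chkAu (k : ℕ) (act act' : ℕ → ℕ → ℕ) (B B' : List ℕ) (sw : List (List ℕ)) (u w v : List ℕ) : Bool :=
  band (band (eqB act B u w) (allL w fun j => Nat.blt j k))
    (allL B' fun b => Nat.beq (actW (fun i => actW act' (nthL [] sw i)) w b) (actW act' v b))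

theorem Au.eq {α : Γ →* Γ'} {sw : List (List ℕ)} (h : Au y y' k α sw) (M : Mdl φ N k n y act B)
    (M' : Mdl φ' N' k' n' y' act' B') {u w v : List ℕ} (e : chkAu k act act' B B' sw u w v = true) :
    α (W y u) = W y' v := by
  letI := actOf φ'
  simp only [chkAu, band_eq, Bool.and_eq_true, allL_iff, nblt, nbeq] at e
  have : ∀ w : List ℕ, (∀ j ∈ w, j < k) → α (W y w) = W (fun i => W y' (nthL [] sw i)) w := fun w hw => by
    induction w with
    | nil => simp
    | cons a w ih =>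
      rw [W_cons, W_cons, map_mul, h a (hw a List.mem_cons_self), ih fun j hj => hw j (List.mem_cons_of_mem _ hj)]
  rw [M.eq e.1.1, this w e.1.2]
  refine M'.ext fun b hb hb' => ?_
  rw [M'.applyW v hb', ← e.2 b hb]
  exact (actW_spec (M'.hy.words sw) _ (show PtN N' b b from ⟨rfl, hb'⟩)).1.symm

theorem hom_ext_mdl (M : Mdl φ N k n y act B) {α β : Γ →* Γ'} (h : ∀ j < k, α (y j) = β (y j)) : α = β :=
  MonoidHom.eq_of_eqOn_dense M.top fun _ ⟨j, hj, e⟩ => e ▸ h j (List.mem_range.1 hj)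

theorem letter_eq {g : ℕ → Γ} {us wds : List (List ℕ)} (h1 : ∀ j < k, nthL [] us j = [j] ∧ nthL [0] wds j = [j]) :
    ∀ j < k, W (fun i => (Spor.ev g (nthL [0] wds i))⁻¹) (nthL [] us j) = (g j)⁻¹ := fun j hj => by
  simp [h1 j hj]

/-- the word has order `3`. -/
def chkCub (N : ℕ) (act : ℕ → ℕ → ℕ) (B w : List ℕ) : Bool := band (eqB act B (appendL w (appendL w w)) [])
  (anyL B fun b => band (Nat.blt b N) (not (Nat.beq (actW act w b) b)))

theorem cube_of_chk (M : Mdl φ N k n y act B) {w : List ℕ} (h : chkCub N act B w = true) :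
    W y w ^ 3 = 1 ∧ W y w ≠ 1 := by
  simp only [chkCub, band_eq, Bool.and_eq_true, anyL_iff, nblt, appendL_eq, Bool.not_eq_true'] at h
  obtain ⟨h1, b, -, h2, h3⟩ := h
  refine ⟨by simpa [pow_three] using M.eq h1, fun e => ?_⟩
  rw [← M.applyW w h2, e, map_one, Perm.one_apply, nbeq.2 rfl] at h3
  cases h3

end model

end Cfsg.Agent.Small
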