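import Cfsg.Agent.Small.Tail
import Cfsg.Agent.Golay.Witt
import Cfsg.Agent.Golay.Mathieu

/-! Extensions of `M23` by Golay modules: the pairing `M23X.dt`, the kernel `K` of the cocode module (`dt_K`, `mem_K`),
letters `M23X.lt`, the wrapper `split23` of `Tl.split`, and the structure `Coc π τ` (an extension by the cocode
module) with its coordinates `Coc.fr`, `Coc.cj`, `Coc.lam`. -/

set_option autoImplicit false
set_option maxRecDepth 100000

namespace Cfsg.Agent.Small.M23X

open Cfsg.Agent.Comp Cfsg.Agent.Known Cfsg.Agent.Golay Tl Subgroup Spor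

/-- binary words -/
abbrev V : Type := GolayPt → ZMod 2

/-- the pairing of a word with a mask -/
def dt (w : V) (m : ℕ) : ZMod 2 := ∑ a, w a * EG.word m a

theorem dt_add2 (w : V) : Add2 (dt w) := fun a b => by
  simp only [dt, EG.word_xor, Pi.add_apply, mul_add, Finset.sum_add_distrib]

theorem dt_add (w w' : V) (m : ℕ) : dt (w + w') m = dt w m + dt w' m := by
  simp only [dt, Pi.add_apply, add_mul, Finset.sum_add_distrib]

theorem dt_zero (m : ℕ) : dt 0 m = 0 := by simp [dt]

theorem dt_word (s m : ℕ) : dt (EG.word s) m = (pc24 (s &&& m) : ZMod 2) := by rw [dt, EG.dot_word, pc24_eq]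

theorem word_img {c : ℕ} {σ : Equiv.Perm GolayPt} (h : R24 c σ) (m : ℕ) :
    EG.word (img24 c m) = fun a => EG.word m (σ⁻¹ a) :=
  Enc.support_inj (by rw [← smul_support₂, EG.support_word, EG.support_word, h.smul_ofMask])

theorem dt_comp {c : ℕ} {σ : Equiv.Perm GolayPt} (h : R24 c σ) (w : V) (m : ℕ) : dt (w ∘ σ) m = dt w (img24 c m) := by
  rw [dt, dt, word_img h, ← Equiv.sum_comp σ fun a => w a * EG.word m (σ⁻¹ a)]
  exact Finset.sum_congr rfl fun a _ => by simp

theorem dt_golay {w : V} (hw : w ∈ golayCode) {m : ℕ} (hm : isG m = true) : dt w m = 0 := by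
  obtain ⟨s, hs, rfl⟩ := mem_golayCode_iff.1 hw
  rw [dt_word, ← card_inter24, (ZMod.natCast_eq_zero_iff_even).2
    (even_card_inter (mem_supports_iff.2 ⟨s, hs, rfl⟩) (mem_supports_iff.2 ⟨m, hm, rfl⟩))]

theorem dt_pow (w : V) {i : ℕ} (hi : i < 24) : dt w (2 ^ i) = w (EG.dec i) := by
  rw [dt, Finset.sum_eq_single (EG.dec i)]
  · simp [Enc.word, EG.enc_dec i hi]
  · intro b _ hb
    have : i ≠ EG.enc b := fun e => hb (by rw [e, EG.dec_enc])
    simp [Enc.word, Nat.testBit_two_pow, this]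
  · simp

theorem dt_single (m : ℕ) : dt (Pi.single none 1) m = if m.testBit 23 then 1 else 0 := by
  rw [dt, Finset.sum_eq_single none]
  · rw [Pi.single_eq_same, one_mul]; rfl
  · intro b _ hb; simp [hb]
  · simp

theorem mem_of_rows {w : V} (h : ∀ r ∈ rows, dt w r = 0) : w ∈ golayCode := by
  obtain ⟨s, hs, rfl⟩ := EG.exists_word w
  refine EG.ofMask_mem_supports.1 (mem_supp_of_even fun r hr => ?_)
  rw [card_inter24, ← ZMod.natCast_eq_zero_iff_even, ← dt_word, h r hr]

/-- a basis of the code words vanishing at the extra point -/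
def F16 : List ℕ := [515069, 720871, 913215, 1015007, 1261503, 1441742, 1502971, 1703417, 1826430, 2225919, 4451838]

/-- masks of code words vanishing at the extra point -/
def okC (m : ℕ) : Prop := isG m = true ∧ m.testBit 23 = false

instance decOkC (m : ℕ) : Decidable (okC m) := by unfold okC; infer_instance

/-- the kernel of the cocode module -/
def K (w : V) : Prop := w ∈ golayCode ∨ w + Pi.single none 1 ∈ golayCode

theorem dt_K {w : V} (h : K w) {m : ℕ} (hm : okC m) : dt w m = 0 := by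
  rcases h with h | h
  · exact dt_golay h hm.1
  · simpa [dt_add, dt_single, hm.2] using dt_golay h hm.1

theorem mem_K {w : V} (h : ∀ f ∈ F16, dt w f = 0) : K w := by
  have H : ∀ w : V, (∀ f ∈ 13062145 :: F16, dt w f = 0) → w ∈ golayCode := fun w h => mem_of_rows fun r hr => by
    have : ∀ r ∈ rows, ∃ a ∈ [1, 2984, 681, 3810, 2681, 3751, 1215, 40, 1718, 3230, 3893, 1577], r = lin (13062145 :: F16) a := by decide +kernel
    obtain ⟨a, -, rfl⟩ := this r hr
    exact (dt_add2 w).lin h a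
  rcases zmod2_cases (dt w 13062145) with e | e
  · exact .inl (H _ (List.forall_mem_cons.2 ⟨e, h⟩))
  · refine .inr (H _ (List.forall_mem_cons.2 ⟨by rw [dt_add, e, dt_single]; decide, fun f hf => ?_⟩))
    rw [dt_add, h f hf, dt_single]
    revert f
    decide

/-- the identity code -/
abbrev c1 : ℕ := 984818244535754528103549039458486304

/-- the letters with codes `cs` -/
noncomputable def lt (cs : List ℕ) (h : allL (c1 :: cs) in23 = true) : ℕ → M23 :=
  (exists_actBy (isAct_point EG 5 31) (codes23 h)).choose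

theorem lt_rep (cs : List ℕ) (h : allL (c1 :: cs) in23 = true) (i : ℕ) : R24 (nthL c1 cs i) (lt cs h i) :=
  (exists_actBy (isAct_point EG 5 31) (codes23 h)).choose_spec.1 i

theorem lt_act (cs : List ℕ) (h : allL (c1 :: cs) in23 = true) :
    ActBy (lt cs h) (PtC EG) fun i => get24 (nthL c1 cs i) :=
  (exists_actBy (isAct_point EG 5 31) (codes23 h)).choose_spec.2

/-- the presentation of the Sylow 2-subgroup -/
def D : PcData := ⟨1, 7, [], [[], [[2]], [[1], [2]], [[3], [4], [4]], [[4], [3], [3], [4]],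
  [[3, 4, 5], [3, 6], [6], [5], [5]], [[4, 6], [4, 5], [5], [6], [6], [6]]], []⟩

variable {E : Type*} [Group E] {π : E →* M23}

theorem split23 [Finite E] (hπ : Function.Surjective π) {Λ : E → ℕ → ZMod 2} {ok : ℕ → Prop} {fin : ℕ → ℕ}
    {fs : List ℕ} (F : Fr π.ker Λ ok fin fs) (hc : ∀ e c, R24 c (π e) → Cj π.ker Λ ok e (img24 c)) {cs : List ℕ}
    (h : allL (c1 :: cs) in23 = true) {rels : List (List ℕ × List ℕ)}
    (hr : allL rels (fun r => eqB (fun i => get24 (nthL c1 cs i)) (List.range 24) r.1 r.2) = true)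
    {L : List (List ℕ)} {Z : List ℕ} {ids : List (List ℕ × List ℕ)} {gs : List (List ℕ × List ℕ × List ℕ × List ℕ)}
    (hs : shape rels 9 37 D L Z gs)
    (hk : chk (fun i => img24 (nthL c1 cs i)) fin fs rels (Z ++ gauge fs 37 7 L) ids gs = true)
    (ho : D.ordOK (fun i => get24 (nthL c1 cs i)) [[1, 3, 4], [2], [0, 4], [0], [5]] [1, 2, 14] 24 20 = true)
    {x : ℕ → E} (hx : ∀ i, π (x i) = lt cs h i) (hZ : ∀ z ∈ Z, val (fun k => Λ (tl x rels k)) z = 0) :
    ∃ H : Subgroup E, H ⊓ π.ker = ⊥ ∧ H ⊔ π.ker = ⊤ :=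
  Tl.split hπ F (fun e i he => hc e _ (he ▸ lt_rep cs h i)) (fun r hr' => eq_of_eqB (isCanon_PtC EG).func (lt_act cs h)
    (isBase_range EG _) (allL_iff.1 hr r hr')) hs hk (m := 79695) card_M23 (by decide)
    (D.ordOK_spec (isCanon_PtC EG) (lt_act cs h) (exists_PtC EG (by decide)) ho) hx hZ

/-- an extension of `M23` by the cocode module -/
structure Coc (π : E →* M23) (τ : V → E) : Prop where
  surj : Function.Surjective π
  add : ∀ w w', τ (w + w') = τ w * τ w'
  ker : ∀ e, π e = 1 ↔ ∃ w, τ w = e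
  one : ∀ w, τ w = 1 ↔ K w
  conj : ∀ g w, τ (w ∘ ⇑(π g : Equiv.Perm GolayPt)) = g⁻¹ * τ w * g

namespace Coc
variable {τ : V → E} (C : Coc π τ)
include C

theorem zero : τ 0 = 1 := (C.one 0).2 (.inl (zero_mem _))

theorem sq (w : V) : τ w * τ w = 1 := by rw [← C.add, add_self₂, C.zero]

theorem mem (w : V) : τ w ∈ π.ker := (C.ker _).2 ⟨w, rfl⟩

theorem lam (w : V) {m : ℕ} (hm : okC m) : dt (Function.invFun τ (τ w)) m = dt w m := by
  have : K (Function.invFun τ (τ w) + w) := by rw [← C.one, C.add, Function.invFun_eq (f := τ) ⟨w, rfl⟩, C.sq]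
  rw [← CharTwo.add_eq_zero, ← dt_add, dt_K this hm]

theorem fr : Fr π.ker (fun e => dt (Function.invFun τ e)) okC id F16 where
  normal := inferInstance
  add _ := dt_add2 _
  mul n hn n' hn' m hm := by
    obtain ⟨w, rfl⟩ := (C.ker _).1 hn
    obtain ⟨w', rfl⟩ := (C.ker _).1 hn'
    rw [← C.add, C.lam _ hm, C.lam _ hm, C.lam _ hm, dt_add]
  fin m hm := ⟨isG_lt hm.1, fun _ _ => rfl⟩
  okf := by decide +kernel
  inj n hn h := by
    obtain ⟨w, rfl⟩ := (C.ker _).1 hn
    refine (C.one w).2 (mem_K fun f hf => ?_)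
    rw [← C.lam w ((by decide +kernel : ∀ f ∈ F16, okC f) f hf), h f hf]
  dual a ha := by
    refine ⟨_, C.mem (EG.word (nthL 0 [2100224, 2099208, 16448, 49152, 2115584, 24, 65544, 1026, 9216, 2097152, 4194304] a)), fun b hb => ?_⟩
    rw [C.lam _ ((by decide +kernel : ∀ b < F16.length, okC (nthL 0 F16 b)) b hb), dt_word]
    revert b
    revert a
    decide +kernel

omit C in
theorem okC_img {c : ℕ} {σ : M23} (h : R24 c σ) {m : ℕ} (hm : okC m) : okC (img24 c m) := by
  refine ⟨isG_imgP h σ.2.1 hm.1, ?_⟩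
  have h1 := congrFun (word_img h m) none
  have h2 : (σ : Equiv.Perm GolayPt)⁻¹ none = none := (σ⁻¹).2.2
  rw [h2] at h1
  have h3 := hm.2
  simp only [Enc.word, show EG.enc none = 23 from rfl, h3] at h1
  simpa using h1

theorem cj (e : E) (c : ℕ) (h : R24 c (π e)) : Cj π.ker (fun e => dt (Function.invFun τ e)) okC e (img24 c) :=
  fun m hm => ⟨okC_img h hm, fun n hn => by
    obtain ⟨w, rfl⟩ := (C.ker _).1 hn
    show dt _ _ = dt _ _
    rw [← C.conj, C.lam _ hm, C.lam _ (okC_img h hm), dt_comp h]⟩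

end Coc

end Cfsg.Agent.Small.M23X
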