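import Cfsg.Agent.Gen2.TwoSizes
import Cfsg.Agent.S4035
import Cfsg.Agent.BG.S3Gen
import Cfsg.Agent.Gen.Pairing

/-! Groups with class sizes `1, m, m n` (`m`, `n` coprime): basic lemmas. -/

set_option autoImplicit false

namespace Cfsg.Agent.Small.Mmn

open Subgroup Cfsg Cfsg.Agent.BG Cfsg.Agent.Gen2 Cfsg.Agent.FG
open scoped commutatorElement Pointwise

variable {G : Type*} [Group G] [Finite G] {m n p q t : ℕ} {x y s k g : G}

omit [Finite G] in
theorem nN (U : Subgroup G) [U.Normal] (g : G) : g ∈ N[U] := by rw [normalizer_eq_top]; trivial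

theorem pxq [Fact t.Prime] {U : Subgroup G} (hU : IsPGroup t U) (hs : PiElt {t} s) (hk : PiElt {t}ᶜ k)
    (c : s ∈ C1[k]) (sN : s ∈ N[U]) (kN : k ∈ N[U]) (h : U ⊓ C1[s] ≤ C1[k]) : U ≤ C1[k] := by
  have := Solv.thompson_PxQ (p := t) (P := zpowers s) (Q := zpowers k) (U := U) (PiNat.pg (p_elt_zpowers.2 hs))
    ((p'nat_coprime Fact.out).1 (p_elt_zpowers.2 hk)) hU (by rw [C_zpowers]; exact zpowers_le.2 c)
    (zpowers_le.2 sN) (zpowers_le.2 kN) (by rw [C_zpowers, C_zpowers]; exact h)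
  rw [le_centralizer_iff, C_zpowers] at this
  exact this

theorem comm_of_central (co : (orderOf x).Coprime (orderOf y)) (h : ⁅x, y⁆ ∈ center G) : x ∈ C1[y] := by
  have h1 : ⁅x, y⁆ ^ orderOf x = 1 := by
    rw [← PGrp.commutator_pow_left (PGrp.commute_of_mem_center h x), pow_orderOf_eq_one, commutatorElement_one_left]
  have h2 : ⁅x, y⁆ ^ orderOf y = 1 := by
    rw [← PGrp.commutator_pow_right (PGrp.commute_of_mem_center h y), pow_orderOf_eq_one, commutatorElement_one_right]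
  have := pow_gcd_eq_one.2 ⟨h1, h2⟩
  rw [co, pow_one] at this
  exact mem_cent.2 (commutatorElement_eq_one_iff_mul_comm.1 this)

/-- transfer of noncentral `q`-elements by comparing `q`-parts -/
theorem exists_nc [hq : Fact q.Prime] {D E : Subgroup G} (hZ : center G ≤ D) (hx : x ∈ D) (nx : x ∉ center G)
    (px : PiElt {q} x) (h : partn {q} #D ≤ partn {q} #E) : ∃ y ∈ E, y ∉ center G ∧ PiElt {q} y := by
  by_contra! H
  obtain ⟨Q, hQ⟩ := Sylow_exists q E
  have hQZ : Q ≤ center G := fun y hy => by_contra fun ny => H y (hQ.le hy) ny (mem_p_elt hQ.pi hy)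
  obtain ⟨P, hP⟩ := Sylow_exists q D
  have h1 : PiGrp {q} (Q ⊔ zpowers x) := pgroupY (Or.inr (zpowers_le.2 (centralizer_le_normalizer _
    fun a ha => (mem_center_iff.1 (hQZ ha) x).symm))) hQ.pi (p_elt_zpowers.2 px)
  have h2 := Nat.le_of_dvd Nat.card_pos (pgroup_card_dvd_Hall hP (sup_le (hQZ.trans hZ) (zpowers_le.2 hx)) h1)
  rw [card_Hall hP] at h2
  have h3 : Q = Q ⊔ zpowers x := eq_of_le_of_card_ge le_sup_left (by rw [card_Hall hQ]; omega)
  exact nx (hQZ (h3 ▸ mem_sup_right (mem_zpowers x)))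

theorem le_of_norm {U D E : Subgroup G} (hU : U ≤ D) (hn : D ≤ N[U]) (co : (#U).Coprime (E.relIndex D)) : U ≤ E := by
  have : (U.subgroupOf D).Normal := (normal_subgroupOf_iff_le_normalizer hU).2 hn
  have h1 := relIndex_dvd_index_of_normal_right (E.subgroupOf D) (U.subgroupOf D)
  rw [relIndex_subgroupOf hU] at h1
  exact relIndex_eq_one.1 (Nat.eq_one_of_dvd_coprimes co (relIndex_dvd_card E U) h1)

theorem piNat_relIndex {π : Set ℕ} {E D : Subgroup G}
    (h : ∀ r, r.Prime → r ∉ π → ∀ y ∈ D, PiElt {r} y → y ∈ E) : PiNat π (E.relIndex D) :=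
  pnat_index_of_pelts (M := E.subgroupOf D) fun r hr nr y ⟨j, hy⟩ =>
    h r hr nr y y.2 (by rw [PiElt, orderOf_coe, hy]; exact pnat_pow_self hr j)

theorem mem_of_parts {A D : Subgroup G} (hx : x ∈ D) (h : ∀ r, r.Prime → r ∣ orderOf x → ∀ y ∈ D, y ∈ zpowers x → PiElt {r} y → y ∈ A) :
    x ∈ A := mem_of_constt_prime fun r hr d => h r hr d _ (constt_mem _ hx) (constt_mem_zpowers _ _) (p_elt_constt _ _)

/-- if all `t'`-elements of `D` have `t'` class size in `D`, then `t`-elements commute with `t'`-elements -/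
theorem jlem [Fact t.Prime] {D : Subgroup G} (h : ∀ y ∈ D, PiElt {t}ᶜ y → ¬ t ∣ C1[y].relIndex D)
    (hx : x ∈ D) (hy : y ∈ D) (px : PiElt {t} x) (py : PiElt {t}ᶜ y) : x ∈ C1[y] := by
  obtain ⟨P⟩ : Nonempty (Sylow t D) := inferInstance
  have h' : ∀ y : D, (orderOf y).Coprime t → ¬ t ∣ (centralizer ({y} : Set D)).index := fun y hy => by
    rw [cs_subtype]; exact h y y.2 (by rw [PiElt, orderOf_coe]; exact (p'nat_coprime Fact.out).2 hy)
  have hn := (S4035.result (fun y hy => by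
    rw [← Nat.card_coe_set_eq, card_carrier_mk]; exact h' y hy) P).1
  obtain ⟨Q, hQ⟩ := exists_sylow_le_of_not_dvd_index _ (h' ⟨y, hy⟩ (by
    rw [← orderOf_coe]; exact (p'nat_coprime Fact.out).1 py))
  have := Sylow.unique_of_normal P hn
  obtain ⟨R, hR⟩ := exists_sylow_mem (p := t) (g := (⟨x, hx⟩ : D)) (by
    rw [← orderOf_coe]; exact exists_pow_of_piElt px)
  rw [Subsingleton.elim R Q] at hR
  exact mem_cent.2 (congrArg Subtype.val (mem_cent.1 (hQ hR)))

structure T (G : Type*) [Group G] (m n : ℕ) : Prop where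
  hm : 1 < m
  hn : 1 < n
  co : m.Coprime n
  cs : ∀ x : G, x ∉ center G → C1[x].index = m ∨ C1[x].index = m * n
  ex : ∃ x : G, C1[x].index = m
  ey : ∃ y : G, C1[y].index = m * n

omit [Finite G] in
theorem T.nc (h : T G m n) (hx : C1[x].index = m ∨ C1[x].index = m * n) : x ∉ center G := fun z => by
  have := h.hm; have := h.hn
  rw [cs_eq_one_iff.2 z] at hx
  rcases hx with e | e
  · omega
  · nlinarith

omit [Finite G] in
theorem T.ne (h : T G m n) : m * n ≠ m := by have := h.hm; have := h.hn; nlinarith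

theorem T.rel (h : T G m n) (hx : x ∉ center G) (hl : C1[y] ≤ C1[x]) :
    C1[y] = C1[x] ∨ (C1[x].index = m ∧ C1[y].index = m * n ∧ C1[y].relIndex C1[x] = n) := by
  have hy : y ∉ center G := fun z => hx (cent_eq_top_iff.1 (top_le_iff.1 (cent_eq_top_iff.2 z ▸ hl)))
  have e := relIndex_mul_index hl
  have m0 : 0 < m := by have := h.hm; omega
  have k1 : C1[y].index = C1[x].index → C1[y] = C1[x] := fun e' => by
    rw [e'] at e
    exact le_antisymm hl (relIndex_eq_one.1 (Nat.eq_of_mul_eq_mul_right (cs_pos x) (e.trans (one_mul _).symm)))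
  rcases h.cs x hx with a | a <;> rcases h.cs y hy with b | b
  · exact Or.inl (k1 (b.trans a.symm))
  · rw [a, b, mul_comm] at e
    exact Or.inr ⟨a, b, Nat.eq_of_mul_eq_mul_left m0 e⟩
  · rw [a, b] at e
    have := Nat.le_of_dvd m0 (Dvd.intro_left _ e)
    have := h.hn
    nlinarith
  · exact Or.inl (k1 (b.trans a.symm))

theorem T.eq (h : T G m n) (hx : x ∉ center G) (hl : C1[y] ≤ C1[x])
    (e : C1[y].index = m ∨ C1[x].index = m * n) : C1[y] = C1[x] :=
  (h.rel hx hl).resolve_right fun ⟨a, b, _⟩ => e.elim (fun e => h.ne (b.symm.trans e)) fun e => h.ne (e.symm.trans a)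

theorem T.rel2 (h : T G m n) (hx : x ∉ center G) (c : y ∈ C1[x]) (co : (orderOf x).Coprime (orderOf y)) :
    C1[x] ≤ C1[y] ∨ (C1[x].index = m ∧ C1[y].relIndex C1[x] = n) := by
  have e := cent_mul_of_coprime (mem_cent.1 c : y * x = x * y).symm co
  rcases h.rel (y := x * y) hx (e ▸ inf_le_left) with a | ⟨a, -, b⟩
  · exact Or.inl (a ▸ e ▸ inf_le_right)
  · rw [e, inf_relIndex_left] at b
    exact Or.inr ⟨a, b⟩

theorem T.dvd (h : T G m n) (hx : x ∉ center G) (c : y ∈ C1[x]) (co : (orderOf x).Coprime (orderOf y)) :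
    C1[y].relIndex C1[x] ∣ n := by
  rcases h.rel2 hx c co with a | ⟨-, a⟩
  · rw [relIndex_eq_one.2 a]; exact one_dvd _
  · rw [a]

theorem T.leY (h : T G m n) (hx : C1[x].index = m * n) (c : y ∈ C1[x]) (co : (orderOf x).Coprime (orderOf y)) :
    C1[x] ≤ C1[y] := (h.rel2 (h.nc (Or.inr hx)) c co).resolve_right fun a => h.ne (hx.symm.trans a.1)

omit [Finite G] in
theorem T.nd (h : T G m n) (hp : p.Prime) (d : p ∣ m) : ¬ p ∣ n := fun d' =>
  hp.one_lt.ne' (Nat.eq_one_of_dvd_coprimes h.co d d')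

theorem T.part (h : T G m n) (hp : p.Prime) (d : p ∣ m) (hx : x ∉ center G) (hy : y ∉ center G) :
    partn {p} #C1[x] = partn {p} #C1[y] := by
  have n0 : n ≠ 0 := by have := h.hn; omega
  have m0 : m ≠ 0 := by have := h.hm; omega
  have k : ∀ x : G, x ∉ center G → partn {p} #C1[x] * partn {p} m = partn {p} (Nat.card G) := fun x hx => by
    rw [← card_mul_index C1[x], partnM _ Nat.card_pos.ne' (cs_ne_zero x)]
    rcases h.cs x hx with e | e <;> rw [e]
    rw [partnM _ m0 n0, part_p'nat n0 ((p'natE hp).2 (h.nd hp d)), mul_one]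
  exact Nat.eq_of_mul_eq_mul_right (partn_pos _ _) ((k x hx).trans (k y hy).symm)

theorem exists_nc_of_dvd [hp : Fact p.Prime] (d : p ∣ C1[x].index) : ∃ s : G, s ∉ center G ∧ PiElt {p} s := by
  by_contra! H
  refine (piNat_relIndex (π := {p}ᶜ) (E := C1[x]) (D := ⊤) fun r _ nr y _ hy => ?_).not_dvd hp.out (by simp)
    (by rwa [relIndex_top_right])
  obtain rfl : r = p := by simpa using nr
  exact center_le_centralizer _ (by_contra fun z => H y z hy)

theorem T.exP (h : T G m n) [hp : Fact p.Prime] (d : p ∣ m) (g : G) : ∃ s ∈ C1[g], s ∉ center G ∧ PiElt {p} s := by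
  obtain ⟨x, hx⟩ := h.ex
  obtain ⟨s, hs, ps⟩ := exists_nc_of_dvd (hx ▸ d : p ∣ C1[x].index)
  by_cases hg : g ∈ center G
  · exact ⟨s, by rw [cent_eq_top_iff.2 hg]; trivial, hs, ps⟩
  · exact exists_nc (center_le_centralizer {s}) (self_mem_cent s) hs ps (h.part hp.out d hs hg).le

theorem T.exQ (h : T G m n) : ∃ q, q.Prime ∧ ¬ q ∣ m ∧ ∃ k : G, k ∉ center G ∧ PiElt {q} k := by
  obtain ⟨q, hq, d⟩ := Nat.exists_prime_and_dvd h.hn.ne'
  obtain ⟨y, hy⟩ := h.ey
  have := Fact.mk hq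
  exact ⟨q, hq, fun d' => h.nd hq d' d, exists_nc_of_dvd (x := y) (hy ▸ d.mul_left m)⟩

theorem T.central (h : T G m n) [hq : Fact q.Prime] (d1 : ¬ q ∣ m) (d2 : ¬ q ∣ n) (hk : PiElt {q} k) : k ∈ center G := by
  obtain ⟨P, hP⟩ := exists_sylow_mem (exists_pow_of_piElt hk)
  refine sylow_le_center_of_forall_not_dvd_cs P (fun x d => ?_) hP
  by_cases hx : x ∈ center G
  · rw [cs_eq_one_iff.2 hx] at d; exact hq.out.one_lt.ne' (Nat.dvd_one.1 d)
  · rcases h.cs x hx with e | e <;> rw [e] at d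
    exacts [d1 d, ((Nat.Prime.dvd_mul hq.out).1 d).elim d1 d2]

theorem pe' (hp : p.Prime) (d : p ∣ m) (hk : PiElt (primesOf m)ᶜ k) : PiElt {p}ᶜ k :=
  pi'_p'nat hk (mem_primesOf.2 ⟨hp, d⟩)

theorem pe_ne (ne : p ≠ q) (hk : PiElt {p} k) : PiElt {q}ᶜ k := pi_pnat hk ne

theorem pe_nd (d : ¬ q ∣ m) (hk : PiElt {q} k) : PiElt (primesOf m)ᶜ k := pi_pnat hk fun z => d (mem_primesOf.1 z).2

/-- `π'`-elements centralize `O_t(G)` for `t ∣ m` -/
theorem T.core (h : T G m n) [ht : Fact t.Prime] (d : t ∣ m) (hk : PiElt {t}ᶜ k) : pCore t G ≤ C1[k] := by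
  obtain ⟨s, c, ns, ps⟩ := h.exP d k
  have hU : IsPGroup t (pCore t G) := Solv.isPGroup_pCore t G
  refine pxq hU ps hk c (nN _ _) (nN _ _) (le_of_norm (D := C1[s]) inf_le_right
    (normsI (fun a _ => nN _ a) le_normalizer) ?_)
  obtain ⟨j, e⟩ := IsPGroup.iff_card.1 (hU.to_inf_left (K := C1[s]))
  rw [e]
  exact (((Nat.Prime.coprime_iff_not_dvd ht.out).2 (h.nd ht.out d)).pow_left j).coprime_dvd_right
    (h.dvd ns (mem_cent_comm.1 c) (pnat_coprime ps hk))

end Cfsg.Agent.Small.Mmn
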