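import Cfsg.Agent.FG.Ito2
import Cfsg.Agent.Transfer.Frobenius
import Cfsg.Agent.Invol.StrongEmb

/-! Groups with two `p`-regular class sizes (helper9): actions in which every non-trivial element has the same fixed
points (`Unif`), and the absence of primes other than `p` in the class size. -/

set_option autoImplicit false
set_option linter.unusedSectionVars false

namespace Cfsg.Agent.Small.TwoReg

open Subgroup Cfsg.Agent.Gen2

local notation "C[" x "]" => Subgroup.centralizer ({x} : Set _)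

section Act
variable {W A : Type*} [Group W] [Finite W] [CommGroup A] [Finite A] [MulDistribMulAction W A] {l : ℕ} [hl : Fact l.Prime]

/-- Every non-trivial element has the fixed points of the whole group. -/
def Unif (W A : Type*) [Group W] [CommGroup A] [MulDistribMulAction W A] : Prop :=
  ∀ w : W, w ≠ 1 → ∀ y : A, w • y = y → ∀ v : W, v • y = y

theorem pow_fix {h : W} {y z : A} (hz : h • z = z) (e : h • y = y * z) (n : ℕ) : h ^ n • y = y * z ^ n := by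
  induction n with
  | zero => simp
  | succ n ih => rw [pow_succ', mul_smul, ih, smul_mul', e, smul_pow', hz, pow_succ', mul_assoc]

theorem Unif.comm (H : Unif W A) (hA : IsPGroup l A) (ne : ∃ y : A, ∃ v : W, v • y ≠ y) {a h : W} (a1 : a ≠ 1)
    (ha : IsPGroup l (zpowers a)) (hh : (orderOf h).Coprime l) (c : Commute a h) : h = 1 := by
  by_contra h1
  let D := (MulDistribMulAction.toMonoidHom A h / MonoidHom.id A).range
  let S : SubMulAction (zpowers a) A := ⟨D, by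
    rintro ⟨_, n, rfl⟩ _ ⟨y, rfl⟩
    exact ⟨a ^ n • y, by
      simp [Subgroup.smul_def, smul_div', smul_smul, (c.zpow_left n).eq]⟩⟩
  obtain ⟨y, v, n⟩ := ne
  have : Nontrivial D := ⟨⟨⟨_, y, rfl⟩, 1, fun e => n (H h h1 y (div_eq_one.1 (congrArg Subtype.val e)) v)⟩⟩
  obtain ⟨k, k0, hk⟩ := (hA.to_subgroup D).nontrivial_iff_card.1 this
  obtain ⟨⟨_, y, rfl⟩, h2, h3⟩ := ha.exists_fixed_point_of_prime_dvd_card_of_fixed_point S
    (hk ▸ dvd_pow_self l k0.ne' : l ∣ Nat.card D) (a := ⟨1, D.one_mem⟩) fun g => Subtype.ext (smul_one g)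
  have h4 := pow_fix (H a a1 _ (congrArg Subtype.val (h2 ⟨a, mem_zpowers a⟩)) h) (mul_div_cancel y (h • y)).symm (orderOf h)
  rw [pow_orderOf_eq_one, one_smul, left_eq_mul] at h4
  obtain ⟨j, hj⟩ := hA (h • y / y)
  exact h3 (Subtype.ext (orderOf_eq_one_iff.1 (Nat.eq_one_of_dvd_coprimes (hh.pow_right j)
    (orderOf_dvd_of_pow_eq_one h4) (orderOf_dvd_of_pow_eq_one hj))).symm)

theorem Unif.norm (H : Unif W A) {U : Subgroup W} [Fintype U] (hU : U ≠ ⊥) (y : A) :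
    ∏ u : U, u.1 • y ∈ FixedPoints.subgroup W A := by
  obtain ⟨⟨u, hu⟩, u1⟩ := ne_bot_iff_exists_ne_one.1 hU
  refine H u (fun e => u1 (Subtype.ext e)) _ ?_
  rw [Finset.smul_prod']
  exact Fintype.prod_equiv (Equiv.mulLeft ⟨u, hu⟩) _ _ fun x => (mul_smul _ _ _).symm

theorem Unif.frob (H : Unif W A) (hA : IsPGroup l A) {U : Subgroup W} (hU : U ≠ ⊥) (co : (Nat.card U).Coprime l) {h : W}
    (h1 : h ≠ 1) (hn : h ∈ normalizer (U : Set W)) (f : ∀ c ∈ zpowers h, ∀ a ∈ U, a ≠ 1 → Commute a c → c = 1)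
    (y : A) (v : W) : v • y = y := by
  classical
  have := Fintype.ofFinite U
  have := Fintype.ofFinite (zpowers h)
  have e1 : ∏ c : zpowers h, ∏ a : U, (a.1 * c.1 * a.1⁻¹) • y ∈ FixedPoints.subgroup W A := by
    rw [Finset.prod_comm]
    refine prod_mem fun a _ => ?_
    have := H.norm (zpowers_ne_bot.2 h1) (a.1⁻¹ • y)
    rw [← this a, Finset.smul_prod'] at this
    simpa only [mul_smul] using this
  rw [← Finset.mul_prod_erase _ _ (Finset.mem_univ 1), mul_mem_cancel_right (prod_mem fun c hc => ?_)] at e1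
  · obtain ⟨j, hj⟩ := hA.exists_card_eq
    obtain ⟨n, e⟩ := exists_pow_eq_self_of_coprime (x := y) (co.pow_right j |>.coprime_dvd_right (hj ▸ orderOf_dvd_natCard y))
    simp only [OneMemClass.coe_one, mul_one, mul_inv_cancel, one_smul, Finset.prod_const, Finset.card_univ,
      ← Nat.card_eq_fintype_card] at e1
    exact (e ▸ pow_mem e1 n) v
  have hc' := zpowers_le.2 hn c.2
  have := H.norm hU (c.1 • y)
  rw [← Function.Bijective.prod_comp (e := fun a : U => a * ⟨c * a⁻¹ * c⁻¹, (mem_normalizer_iff.1 hc' _).1 (inv_mem a.2)⟩)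
    (Finite.injective_iff_bijective.1 fun a b e => by_contra fun n => Finset.ne_of_mem_erase hc (Subtype.ext
      (f _ c.2 _ (b⁻¹ * a).2 (fun k => n (inv_mul_eq_one.1 (Subtype.ext k)).symm) ?_)))] at this
  · simpa [smul_smul, mul_assoc] using this
  have := congrArg Subtype.val e
  simp only [coe_mul, coe_inv] at this ⊢
  calc b.1⁻¹ * a * c = b.1⁻¹ * (a * (c * a.1⁻¹ * c.1⁻¹)) * c * a := by group
    _ = _ := by rw [this]; group

end Act

theorem two {W A B : Type*} [Group W] [Finite W] [CommGroup A] [Finite A] [MulDistribMulAction W A] [CommGroup B]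
    [Finite B] [MulDistribMulAction W B] {q s : ℕ} [hq : Fact q.Prime] [hs : Fact s.Prime] (n : q ≠ s) (HA : Unif W A)
    (HB : Unif W B) (hA : IsPGroup q A) (hB : IsPGroup s B) (nA : ∃ y : A, ∃ v : W, v • y ≠ y)
    (nB : ∃ y : B, ∃ v : W, v • y ≠ y) {U : Subgroup W} (hU : IsPGroup q U) (U0 : U ≠ ⊥) {g : W}
    (hn : g ∈ normalizer (U : Set W)) (co : (orderOf g).Coprime q) : g = 1 := by
  by_contra g1
  obtain ⟨y, v, e⟩ := nB
  obtain ⟨k, hk⟩ := hU.exists_card_eq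
  exact e (HB.frob hB U0 (hk ▸ ((Nat.coprime_primes hq.out hs.out).2 n).pow_left k) g1 hn (fun c hc a ha a1 =>
    HA.comm hA nA a1 (hU.to_le (zpowers_le.2 ha)) (co.coprime_dvd_left (orderOf_dvd_of_mem_zpowers hc))) y v)

theorem two' {W A B : Type*} [Group W] [Finite W] [CommGroup A] [Finite A] [MulDistribMulAction W A] [CommGroup B]
    [Finite B] [MulDistribMulAction W B] {q s : ℕ} [hq : Fact q.Prime] [hs : Fact s.Prime] (n : q ≠ s) (HA : Unif W A)
    (HB : Unif W B) (hA : IsPGroup q A) (hB : IsPGroup s B) (nA : ∃ y : A, ∃ v : W, v • y ≠ y)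
    (nB : ∃ y : B, ∃ v : W, v • y ≠ y) (d1 : q ∣ Nat.card W) (d2 : s ∣ Nat.card W) : False := by
  have h1 := Transfer.hasNormalPComplement_iff_not_dvd_card_pResidual.1
    (Transfer.hasNormalPComplement_of_forall_isPGroup (p := q) fun U hU U0 g hn co =>
      two n HA HB hA hB nA nB hU U0 hn co ▸ one_mem _)
  obtain ⟨S⟩ : Nonempty (Sylow s W) := inferInstance
  have k : ∀ r, r.Prime → r ≠ q → ∀ y : W, (∃ k, orderOf y = r ^ k) → y ∈ pResidual q W := fun r hr n y ⟨k, e⟩ =>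
    Transfer.mem_pResidual_of_coprime (e ▸ ((Nat.coprime_primes hr hq.out).2 n).pow_left k)
  have h2 := S.normalizer_sup_eq_top' fun y hy => k s hs.out n.symm y (pElt_of_mem S.2 hy)
  rw [sup_eq_right.2 fun g hg => mem_of_forall_pElt fun r hr y hy ⟨j, e⟩ => by
    by_cases c : r = q
    · rw [two n.symm HB HA hB hA nB nA S.2 (S.ne_bot_of_dvd_card d2) (zpowers_le.2 hg hy)
        (e ▸ c ▸ ((Nat.coprime_primes hq.out hs.out).2 n).pow_left j)]
      exact one_mem _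
    · exact k r hr c y ⟨j, e⟩] at h2
  rw [h2, card_top] at h1
  exact h1 d1

universe v
variable {G : Type v} [Group G] [Finite G] {p m l t : ℕ} {x y w u g : G}

theorem cop (hl : l.Prime) (ht : t.Prime) (n : l ≠ t) (hx : ∃ k, orderOf x = l ^ k) : (orderOf x).Coprime t :=
  let ⟨k, e⟩ := hx; e ▸ ((Nat.coprime_primes hl ht).2 n).pow_left k

theorem cop' (hl : l.Prime) (ht : t.Prime) (n : l ≠ t) (hx : ∃ k, orderOf x = l ^ k) (hy : ∃ k, orderOf y = t ^ k) :
    (orderOf x).Coprime (orderOf y) :=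
  let ⟨k, e⟩ := hy; e ▸ (cop hl ht n hx).pow_right k

omit [Finite G] in
theorem nc (hx : x ∉ center G) (g : G) : g * x * g⁻¹ ∉ center G := fun e =>
  hx (cs_eq_one_iff.1 (cs_conj g x ▸ cs_eq_one_iff.2 e))

/-- Non-central `p`-regular elements have class size `m`. -/
def R (G : Type*) [Group G] (p m : ℕ) : Prop :=
  p.Prime ∧ ∀ x : G, (orderOf x).Coprime p → x ∉ center G → C[x].index = m

/-- A non-central `l`-element, `l ≠ p`. -/
structure NE (p l : ℕ) (x : G) : Prop where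
  pr : l.Prime
  ne : l ≠ p
  pe : ∃ k, orderOf x = l ^ k
  nz : x ∉ center G

omit [Finite G] in
theorem NE.conj (h : NE p l x) (g : G) : NE p l (g * x * g⁻¹) := ⟨h.1, h.2, pElt_conj h.3 g, nc h.4 g⟩

theorem R.idx (h : R G p m) (hx : NE p l x) : C[x].index = m := h.2 x (cop hx.1 h.1 hx.2 hx.3) hx.4

theorem R.le (h : R G p m) (hx : NE p l x) (ht : t.Prime) (tp : t ≠ p) (n : l ≠ t) (hy : ∃ k, orderOf y = t ^ k)
    (c : y ∈ C[x]) : C[x] ≤ C[y] := by
  have c : Commute x y := (mem_cent.1 c).symm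
  have co := cop' hx.1 ht n hx.3 hy
  have e := cent_mul_of_coprime c co
  have := h.2 (x * y) (by
    rw [c.orderOf_mul_eq_mul_orderOf_of_coprime co]
    exact (cop hx.1 h.1 hx.2 hx.3).mul_left (cop ht h.1 tp hy)) fun e' =>
      hx.4 (cent_eq_top_iff.1 (top_le_iff.1 ((cent_eq_top_iff.2 e').ge.trans (e ▸ inf_le_left))))
  exact (FG.Ito.eq_of_le_index (e ▸ inf_le_left) (this.trans (h.idx hx).symm)).ge.trans (e ▸ inf_le_right)

theorem R.ex (h : R G p m) (hx : NE p l x) (hw : NE p t w) : ∃ y ∈ C[x], NE p t y := by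
  have := Fact.mk hw.1
  let f := QuotientGroup.mk' (center G)
  have i : ∀ z : G, (C[z].map f).index = C[z].index := fun z => index_map_eq _ (QuotientGroup.mk'_surjective _) (by
    rw [QuotientGroup.ker_mk']; exact center_le_centralizer _)
  have e : Nat.card (C[x].map f) = Nat.card (C[w].map f) := Nat.eq_of_mul_eq_mul_right (cs_pos x) (by
    rw [← i, card_mul_index, i, h.idx hx, ← h.idx hw, ← i, card_mul_index])
  obtain ⟨k, hk⟩ := pElt_map f hw.3
  obtain ⟨_, ⟨g, hg, rfl⟩, o⟩ := exists_mem_orderOf_eq_prime hw.1 (e ▸ (dvd_pow_self t (by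
    rintro rfl
    exact hw.4 ((QuotientGroup.eq_one_iff w).1 (orderOf_eq_one_iff.1 hk)))).trans
      (hk ▸ Subgroup.orderOf_dvd_natCard _ (mem_map_of_mem f (self_mem_cent w))))
  obtain ⟨a, h1, h2, h3⟩ := exists_pElt_lift (p := t) f g ⟨1, by rw [o, pow_one]⟩
  exact ⟨a, zpowers_le.2 hg h1, hw.1, hw.2, h2, fun z => FG.Ito.ne_one_of hw.1 o (h3 ▸ (QuotientGroup.eq_one_iff a).2 z)⟩

/-- Two primes other than `p` have non-central elements. -/
def R2 (G : Type*) [Group G] (p m : ℕ) : Prop := R G p m ∧ ∀ l, ∃ t, t ≠ l ∧ ∃ w : G, NE p t w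

theorem R2.le (h : R2 G p m) (hx : NE p l x) (ht : t.Prime) (tp : t ≠ p) (hy : ∃ k, orderOf y = t ^ k) (c : y ∈ C[x]) :
    C[x] ≤ C[y] := by
  by_cases n : l = t
  · obtain ⟨r, n', w, hw⟩ := h.2 l
    obtain ⟨v, c', hv⟩ := h.1.ex hx hw
    have e := FG.Ito.eq_of_le_index (h.1.le hx hv.1 hv.2 n'.symm hv.3 c') ((h.1.idx hx).trans (h.1.idx hv).symm)
    exact e ▸ h.1.le hv ht tp (n ▸ n') hy (e ▸ c)
  · exact h.1.le hx ht tp n hy c

theorem R2.eq (h : R2 G p m) (hx : NE p l x) (hy : NE p t y) (c : y ∈ C[x]) : C[x] = C[y] :=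
  FG.Ito.eq_of_le_index (h.le hx hy.1 hy.2 hy.3 c) ((h.1.idx hx).trans (h.1.idx hy).symm)

theorem R2.norm (h : R2 G p m) (hx : NE p l x) (hy : NE p t y) (c : y ∈ C[x]) (c' : g * y * g⁻¹ ∈ C[x]) :
    g ∈ normalizer (C[x] : Set G) := by
  have := h.eq hx (hy.conj g) c'
  rw [cent_conj, ← h.eq hx hy c] at this
  exact Solv.conj_smul_eq_self_iff.1 this.symm

/-- The `t`-elements of a centralizer. -/
def R2.B (h : R2 G p m) (hx : NE p l x) (hw : NE p t w) : Subgroup G where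
  carrier := {y | y ∈ C[x] ∧ ∃ k, y ^ t ^ k = 1}
  one_mem' := ⟨one_mem _, 0, by simp⟩
  inv_mem' := fun ⟨a, k, e⟩ => ⟨inv_mem a, k, by rw [inv_pow, e, inv_one]⟩
  mul_mem' := fun {a b} ⟨ha, i, e⟩ ⟨hb, j, f⟩ => ⟨mul_mem ha hb, i + j, by
    have := Fact.mk hw.1
    rw [Commute.mul_pow (mem_cent.1 (h.le hx hw.1 hw.2 (pElt_iff.2 ⟨j, f⟩) hb ha)), pow_add, pow_mul, e, mul_comm (t ^ i),
      pow_mul, f, one_pow, one_pow, one_mul]⟩

theorem R2.act (h : R2 G p m) (hx : NE p l x) (hw : NE p t w) (d : t ∣ m) :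
    ∃ (A : Type v) (_ : CommGroup A) (_ : Finite A)
      (_ : MulDistribMulAction (normalizer (C[x] : Set G) ⧸ C[x].subgroupOf (normalizer (C[x] : Set G))) A),
      Unif (normalizer (C[x] : Set G) ⧸ C[x].subgroupOf (normalizer (C[x] : Set G))) A ∧ IsPGroup t A ∧
      (∃ y : A, ∃ v : normalizer (C[x] : Set G) ⧸ C[x].subgroupOf (normalizer (C[x] : Set G)), v • y ≠ y) ∧
      t ∣ Nat.card (normalizer (C[x] : Set G) ⧸ C[x].subgroupOf (normalizer (C[x] : Set G))) := by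
  have := Fact.mk hw.1
  have cB : ∀ y ∈ h.B hx hw, C[x] ≤ C[y] := fun y hy => h.le hx hw.1 hw.2 (pElt_iff.2 hy.2) hy.1
  have pB : IsPGroup t (h.B hx hw) := fun y => y.2.2.imp fun k e => Subtype.ext e
  have nB : normalizer (C[x] : Set G) ≤ normalizer (h.B hx hw : Set G) := fun g hg => mem_normalizer_fintype fun y hy =>
    ⟨(mem_normalizer_iff.1 hg y).1 hy.1, hy.2.imp fun k e => by rw [conj_pow, e]; simp⟩
  let φ := QuotientGroup.lift (C[x].subgroupOf (normalizer (C[x] : Set G)))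
    ((h.B hx hw).normalizerMonoidHom.comp (inclusion nB)) fun g hg => MulEquiv.ext fun y => Subtype.ext
      (mul_inv_eq_iff_eq_mul.2 (mem_cent.1 (cB y y.2 hg)))
  obtain ⟨y, c, hy⟩ := h.1.ex hx hw
  obtain ⟨L, hL⟩ := pB.exists_le_sylow
  obtain ⟨r, r1, r2, r3⟩ := Invol.exists_mem_normalizer_of_lt L.2 (hL.lt_of_ne fun e =>
    not_dvd_index_of_sylow_le L (H := C[x]) (fun z hz => (e.ge hz).1) (h.1.idx hx ▸ d))
  have yB : y ∈ h.B hx hw := ⟨c, pElt_iff.1 hy.3⟩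
  have r4 := h.norm hx hy c ((mem_normalizer_iff.1 r3 y).1 yB).1
  have r5 : r ∉ C[x] := fun e => r2 ⟨e, pElt_iff.1 (pElt_of_mem L.2 r1)⟩
  refine ⟨h.B hx hw, { (inferInstance : Group (h.B hx hw)) with mul_comm := fun a b => Subtype.ext (mem_cent.1 (cB b b.2 a.2.1)) }, inferInstance,
    MulDistribMulAction.compHom _ φ, ?_, pB, ⟨⟨y, yB⟩, QuotientGroup.mk ⟨r, r4⟩, fun e => r5 (h.eq hx hy c ▸
      mem_cent.2 (mul_inv_eq_iff_eq_mul.1 (congrArg Subtype.val e)))⟩, ?_⟩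
  · rintro ⟨a⟩ a1 z e ⟨v⟩
    refine Subtype.ext (mul_inv_eq_iff_eq_mul.2 (mem_center_iff.1 (by_contra fun n => a1 ((QuotientGroup.eq_one_iff a).2 ?_)) _))
    exact mem_subgroupOf.2 ((h.eq hx ⟨hw.1, hw.2, pElt_iff.2 z.2.2, n⟩ z.2.1).ge
      (mem_cent.2 (mul_inv_eq_iff_eq_mul.1 (congrArg Subtype.val e))))
  · obtain ⟨k, hk⟩ := pElt_map (QuotientGroup.mk' (C[x].subgroupOf (normalizer (C[x] : Set G)))) (g := ⟨r, r4⟩)
      (orderOf_coe (⟨r, r4⟩ : normalizer (C[x] : Set G)) ▸ pElt_of_mem L.2 r1)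
    refine (dvd_pow_self t ?_).trans (hk ▸ _root_.orderOf_dvd_natCard _)
    rintro rfl
    exact r5 (mem_subgroupOf.1 ((QuotientGroup.eq_one_iff (⟨r, r4⟩ : normalizer (C[x] : Set G))).1 (orderOf_eq_one_iff.1 hk)))

theorem R.ex_ne (h : R G p m) (hx : NE p l x) (ht : t.Prime) (tp : t ≠ p) (d : t ∣ m) : ∃ w : G, NE p t w := by
  have := Fact.mk ht
  obtain ⟨L⟩ : Nonempty (Sylow t G) := inferInstance
  obtain ⟨w, h1, h2⟩ := SetLike.not_le_iff_exists.1 fun e : (L : Subgroup G) ≤ center G =>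
    not_dvd_index_of_sylow_le L (e.trans (center_le_centralizer {x})) (h.idx hx ▸ d)
  exact ⟨w, ht, tp, pElt_of_mem L.2 h1, h2⟩

theorem R2.uniq (h : R2 G p m) {q s : ℕ} (hq : q.Prime) (hs : s.Prime) (qp : q ≠ p) (sp : s ≠ p) (d1 : q ∣ m)
    (d2 : s ∣ m) : q = s := by
  by_contra n
  have := Fact.mk hq
  have := Fact.mk hs
  obtain ⟨l, -, x, hx⟩ := h.2 0
  obtain ⟨v, hv⟩ := h.1.ex_ne hx hq qp d1
  obtain ⟨w, hw⟩ := h.1.ex_ne hx hs sp d2
  obtain ⟨A, _, _, _, a1, a2, a3, a4⟩ := h.act hx hv d1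
  obtain ⟨B, _, _, _, b1, b2, b3, b4⟩ := h.act hx hw d2
  exact two' n a1 b1 a2 b2 a3 b3 a4 b4

theorem comm_of_central (co : (orderOf u).Coprime (orderOf y)) (h : u * y * u⁻¹ * y⁻¹ ∈ center G) : u ∈ C[y] := by
  obtain ⟨c, hc⟩ : ∃ c, c = u * y * u⁻¹ * y⁻¹ := ⟨_, rfl⟩
  rw [← hc] at h
  have e1 : ∀ n : ℕ, u ^ n * y * (u ^ n)⁻¹ = c ^ n * y := fun n => by
    induction n with
    | zero => simp
    | succ n ih =>
      calc _ = u * (u ^ n * y * (u ^ n)⁻¹) * u⁻¹ := by rw [pow_succ']; group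
        _ = c ^ n * (u * y * u⁻¹ * y⁻¹) * y := by rw [ih, ← mul_assoc, mem_center_iff.1 (pow_mem h n) u]; group
        _ = _ := by rw [← hc, pow_succ]
  have e2 : (c * y) ^ orderOf y = 1 := by rw [← pow_one c, ← e1, conj_pow, pow_orderOf_eq_one]; simp
  rw [Commute.mul_pow (mem_center_iff.1 h y).symm, pow_orderOf_eq_one, mul_one] at e2
  have e3 := e1 (orderOf u)
  rw [pow_orderOf_eq_one, one_mul, inv_one, mul_one, right_eq_mul] at e3
  have := orderOf_eq_one_iff.1 (Nat.eq_one_of_dvd_coprimes co (orderOf_dvd_of_pow_eq_one e3) (orderOf_dvd_of_pow_eq_one e2))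
  rw [hc, mul_inv_eq_one, mul_inv_eq_iff_eq_mul] at this
  exact mem_cent.2 this

theorem R2.not_dvd (h : R2 G p m) {q : ℕ} (hq : q.Prime) (qp : q ≠ p) : ¬ q ∣ m := fun d => by
  have := Fact.mk hq
  obtain ⟨t, tq, w, hw⟩ := h.2 q
  have := Fact.mk hw.1
  obtain ⟨Q⟩ : Nonempty (Sylow q G) := inferInstance
  let f := QuotientGroup.mk' (center G)
  have nQ : ∀ {l x}, NE p l x → ¬ (Q : Subgroup G) ≤ C[x] := fun hx e => not_dvd_index_of_sylow_le Q e (h.1.idx hx ▸ d)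
  have pQ := Q.2.map f
  have := pQ.isNilpotent
  obtain ⟨_, ⟨x, xQ, rfl⟩, xc, xo⟩ := exists_central_orderOf_of_isNilpotent ((Q : Subgroup G).map f) hq (by
    obtain ⟨k, hk⟩ := pQ.exists_card_eq
    refine hk ▸ dvd_pow_self q ?_
    rintro rfl
    rw [pow_zero, card_eq_one, Subgroup.map_eq_bot_iff, QuotientGroup.ker_mk'] at hk
    exact nQ hw (hk.trans (center_le_centralizer _)))
  have hx : NE p q x := ⟨hq, qp, pElt_of_mem Q.2 xQ, fun z => FG.Ito.ne_one_of hq xo ((QuotientGroup.eq_one_iff x).2 z)⟩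
  have xR : x ∈ solvableRadical G := by
    have : Group.IsSolvable f.ker := by
      rw [QuotientGroup.ker_mk']; exact isSolvable_of_comm fun a b => Subtype.ext (mem_center_iff.1 b.2 a)
    rw [← comap_solRad (QuotientGroup.mk'_surjective (center G))]
    refine mem_solRad_of_cs h.1.1 (Nat.eq_prime_pow_of_unique_prime_dvd (cs_ne_zero _) fun {s} hs ds => by_contra fun sp => ?_)
    obtain rfl := h.uniq hq hs qp sp d (ds.trans (h.1.idx hx ▸ cs_map_dvd f (QuotientGroup.mk'_surjective _) x))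
    exact not_dvd_index_of_sylow_le (Q.mapSurjective (QuotientGroup.mk'_surjective _))
      (fun a ha => mem_cent.2 (xc a ha)) ds
  have QN : ∀ v ∈ (Q : Subgroup G), v ∈ normalizer (C[x] : Set G) := fun v hv => h.norm hx hx (self_mem_cent x) (by
    have : v * x * v⁻¹ * x⁻¹ ∈ center G := (QuotientGroup.eq_one_iff _).1 (by
      have := xc _ (mem_map_of_mem f hv)
      change f _ = 1
      rw [map_mul, map_mul, map_mul, this]; simp)
    rw [← inv_mul_cancel_right (v * x * v⁻¹) x]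
    exact mul_mem (center_le_centralizer _ this) (self_mem_cent x))
  have dt : ¬ t ∣ m := fun e => tq (h.uniq hw.1 hq hw.2 qp e d)
  obtain ⟨T, hT⟩ := exists_sylow_le_of_not_dvd_index C[x] (h.1.idx hx ▸ dt)
  have mT : ∀ y ∈ C[x], (∃ k, orderOf y = t ^ k) → y ∈ (T : Subgroup G) := fun y c hy =>
    mem_sylow_of_le_cent T hy (hT.trans (h.le hx hw.1 hw.2 hy c))
  obtain ⟨y, c, hy⟩ := h.1.ex hx hw
  obtain ⟨u, uQ, uE⟩ := SetLike.not_le_iff_exists.1 (nQ hx)
  have hu : NE p q u := ⟨hq, qp, pElt_of_mem Q.2 uQ, fun z => uE (center_le_centralizer _ z)⟩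
  obtain ⟨g, hg⟩ := exists_conj_mem_centralizer_sylow T (x := u) (h.1.idx hu ▸ dt)
  have hg : g * u * g⁻¹ ∈ C[x] := h.eq hx hy c ▸ mem_cent.2 (hg y (mT y c hy.3)).symm
  have cs : ∀ v ∈ (Q : Subgroup G), ∀ y ∈ (T : Subgroup G), v * y * v⁻¹ * y⁻¹ ∈ (T : Subgroup G) ∧
      (y ∉ center G → v * y * v⁻¹ * y⁻¹ ∈ center G → v ∈ C[x]) := fun v hv y hy =>
    ⟨mul_mem (mT _ ((mem_normalizer_iff.1 (QN v hv) y).1 (hT hy)) (pElt_conj (pElt_of_mem T.2 hy) v)) (inv_mem hy),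
      fun n e => h.eq hx ⟨hw.1, hw.2, pElt_of_mem T.2 hy, n⟩ (hT hy) ▸
        comm_of_central (cop' hq hw.1 tq.symm (pElt_of_mem Q.2 hv) (pElt_of_mem T.2 hy)) e⟩
  have fin : ∀ (K : Subgroup G) [K.Normal] (l : ℕ) [Fact l.Prime] (L : Sylow l G), (L : Subgroup G) ⊓ K ≤ C[x] →
      ∀ d ∈ (L : Subgroup G) ⊓ K, NE p l d → ∀ y ∈ (T : Subgroup G), y ∉ center G →
      ∃ k ∈ K, k * y * k⁻¹ * y⁻¹ ∈ (T : Subgroup G) ∧ k * y * k⁻¹ * y⁻¹ ∉ center G := fun K hK l _ L hL d hd nd y hy ny => by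
    have := (sylowInf L K).normalizer_sup_eq_top
    rw [coe_sylowInf, subgroupOf_map_subtype] at this
    obtain ⟨n, hn, k, hk, rfl⟩ := mem_sup_of_normal_right.1 (this.ge (mem_top g))
    have := (mem_normalizer_iff.1 (inv_mem (h.norm hx nd (hL hd) (hL ((mem_normalizer_iff.1 hn d).1 hd)))) _).1 hg
    have e := mem_cent.1 (h.le hx hw.1 hw.2 (pElt_of_mem T.2 hy) (hT hy) (inv_mem this))
    have e' : u * k * u⁻¹ * k⁻¹ * y * (u * k * u⁻¹ * k⁻¹)⁻¹ * y⁻¹ = u * y * u⁻¹ * y⁻¹ :=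
      calc _ = u * ((n⁻¹ * (n * k * u * (n * k)⁻¹) * n⁻¹⁻¹)⁻¹ * y) * (k * u * k⁻¹ * u⁻¹) * y⁻¹ := by group
        _ = _ := by rw [e]; group
    exact ⟨_, mul_mem (hK.conj_mem _ hk u) (inv_mem hk), e' ▸ ⟨(cs u uQ y hy).1, fun z => uE ((cs u uQ y hy).2 ny z)⟩⟩
  have ind : ∀ K : Subgroup G, K.Normal → K ≤ solvableRadical G → (T : Subgroup G) ⊓ K ≤ center G := fun K => by
    induction K using WellFoundedLT.induction with | ind K ih => ?_
    intro hK le d hd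
    by_contra n
    have := Solv.isSolvable_of_le le
    obtain ⟨k, h1, h2, h3⟩ := fin K t T (inf_le_left.trans hT) d hd ⟨hw.1, hw.2, pElt_of_mem T.2 hd.1, n⟩ d hd.1 n
    exact h3 (ih _ (Solv.commutator_lt_of_isSolvable (by rintro rfl; exact n (mem_bot.1 hd.2 ▸ one_mem _))) inferInstance
      ((commutator_le_left _ _).trans le) ⟨h2, commutator_mem_commutator h1 hd.2⟩)
  have i := ind _ inferInstance le_rfl
  have nk : ∀ k ∈ solvableRadical G, k * y * k⁻¹ * y⁻¹ ∈ solvableRadical G := fun k hk => by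
    rw [mul_assoc, mul_assoc, ← mul_assoc y]; exact mul_mem hk (Normal.conj_mem inferInstance _ (inv_mem hk) y)
  obtain ⟨k, h1, h2, h3⟩ := fin _ q Q (fun v hv => (cs v hv.1 y (mT y c hy.3)).2 hy.4
    (i ⟨(cs v hv.1 y (mT y c hy.3)).1, nk v hv.2⟩)) x ⟨xQ, xR⟩ hx y (mT y c hy.3) hy.4
  exact h3 (i ⟨h2, nk k h1⟩)

end Cfsg.Agent.Small.TwoReg
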