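import Cfsg.Agent.Small.MmnA
import Cfsg.Agent.Small.TwoReg
import Cfsg.Agent.Gen2.PPClass2
import Cfsg.Agent.S0144

/-! Groups with class sizes `1, m, n, m n` (`m`, `n` coprime): `m` and `n` are prime powers. -/

set_option autoImplicit false

namespace Cfsg.Agent.Small.Mn4

open Subgroup Cfsg Cfsg.Agent.BG Cfsg.Agent.Gen2 Cfsg.Agent.FG Cfsg.Agent.Small.Mmn
open scoped commutatorElement Pointwise

variable {G : Type*} [Group G] [Finite G] {m n p q r t l : ℕ} {x y s k g u w : G}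

theorem eq_of_idx {H K : Subgroup G} (h : H ≤ K) (e : H.index = K.index) : H = K := by
  have e1 := relIndex_mul_index h
  rw [e] at e1
  exact le_antisymm h (relIndex_eq_one.1 (Nat.eq_of_mul_eq_mul_right (Nat.pos_of_ne_zero index_ne_zero_of_finite)
    (e1.trans (one_mul _).symm)))

theorem index_inf_cop {H K : Subgroup G} (co : H.index.Coprime K.index) : (H ⊓ K).index = H.index * K.index :=
  le_antisymm index_inf_le (Nat.le_of_dvd (Nat.pos_of_ne_zero index_ne_zero_of_finite)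
    (co.mul_dvd_of_dvd_of_dvd (index_dvd_of_le inf_le_left) (index_dvd_of_le inf_le_right)))

theorem alem {D : Subgroup G} {N : ℕ} (ht : t.Prime) (hp : p.Prime) (nt : ¬ t ∣ N) (np : ¬ p ∣ N)
    (k1 : ∀ y ∈ D, PiElt {t}ᶜ y → C1[y].relIndex D ∣ N) (hy : y ∈ D) (hk : k ∈ D) (py : PiElt {p} y)
    (pk : PiElt {p}ᶜ k) : y ∈ C1[k] := by
  have := Fact.mk hp
  have := Fact.mk ht
  have j1 : ∀ x ∈ D, ∀ y ∈ D, PiElt {t} x → PiElt {t}ᶜ y → x ∈ C1[y] := fun x hx y hy =>
    jlem (fun y hy py d => nt (d.trans (k1 y hy py))) hx hy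
  by_cases e : p = t
  · subst e; exact j1 y hy k hk py pk
  refine jlem (t := p) (D := D) (fun a ha _ da => ?_) hy hk py pk
  have l1 : C1[a] ⊓ D ≤ C1[constt {t}ᶜ a] ⊓ D := inf_le_inf_right _ (cent1_le_constt _ _)
  rw [← inf_relIndex_right, ← relIndex_mul_relIndex _ _ _ l1 inf_le_right, inf_relIndex_right] at da
  rcases (Nat.Prime.dvd_mul hp).1 da with da | da
  · refine e (piNat_relIndex (π := {t}) (E := C1[a] ⊓ D) (D := C1[constt {t}ᶜ a] ⊓ D)
      (fun u _ nu w hw pw => mem_inf.2 ⟨?_, hw.2⟩) p hp da)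
    rw [cent1_eq_inf_constt {t}]
    exact ⟨mem_cent_comm.1 (j1 _ (constt_mem _ ha) w hw.2 (p_elt_constt _ _) (pe_ne nu pw)), hw.1⟩
  · exact np (da.trans (k1 _ (constt_mem _ ha) (p_elt_constt _ _)))

structure T4 (G : Type*) [Group G] (m n : ℕ) : Prop where
  hm : 1 < m
  hn : 1 < n
  co : m.Coprime n
  cs : ∀ x : G, x ∉ center G → C1[x].index = m ∨ C1[x].index = n ∨ C1[x].index = m * n
  ex : ∃ x : G, C1[x].index = m
  ex' : ∃ x : G, C1[x].index = n
  ey : ∃ y : G, C1[y].index = m * n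

omit [Finite G] in
theorem T4.symm (h : T4 G m n) : T4 G n m :=
  ⟨h.hn, h.hm, h.co.symm, fun x hx => by rw [mul_comm]; have := h.cs x hx; tauto, h.ex', h.ex, mul_comm m n ▸ h.ey⟩

omit [Finite G] in
theorem T4.nd (h : T4 G m n) (hp : p.Prime) (d : p ∣ m) : ¬ p ∣ n := fun d' =>
  hp.one_lt.ne' (Nat.eq_one_of_dvd_coprimes h.co d d')

omit [Finite G] in
theorem T4.nc (h : T4 G m n) (hx : m ∣ C1[x].index) : x ∉ center G := fun z => by
  rw [cs_eq_one_iff.2 z] at hx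
  exact h.hm.ne' (Nat.dvd_one.1 hx)

omit [Finite G] in
theorem T4.up (h : T4 G m n) (hx : m ∣ C1[x].index) : C1[x].index = m ∨ C1[x].index = m * n := by
  rcases h.cs x (h.nc hx) with e | e | e
  exacts [Or.inl e, absurd (h.co.eq_one_of_dvd (e ▸ hx)) h.hm.ne', Or.inr e]

omit [Finite G] in
theorem T4.down (h : T4 G m n) (nx : x ∉ center G) (hx : C1[x].index ∣ m) : C1[x].index = m := by
  rcases h.cs x nx with e | e | e
  exacts [e, absurd (h.co.symm.eq_one_of_dvd (e ▸ hx)) h.hn.ne',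
    absurd (h.co.symm.eq_one_of_dvd ((dvd_mul_left n m).trans (e ▸ hx))) h.hn.ne']

theorem T4.eqX (h : T4 G m n) (hx : C1[x].index = m) (ny : y ∉ center G) (l : C1[x] ≤ C1[y]) : C1[x] = C1[y] :=
  eq_of_idx l (hx.trans (h.down ny (hx ▸ index_dvd_of_le l)).symm)

theorem T4.relX (h : T4 G m n) (hx : C1[x].index = m) (c : y ∈ C1[x]) (co : (orderOf x).Coprime (orderOf y)) :
    C1[x] ≤ C1[y] ∨ (C1[x * y].index = m * n ∧ C1[y].relIndex C1[x] = n) := by
  have e := cent_mul_of_coprime (Gen2.mem_cent.1 c : y * x = x * y).symm co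
  have l : C1[x * y] ≤ C1[x] := e ▸ inf_le_left
  rcases h.up (x := x * y) (hx ▸ index_dvd_of_le l) with a | a
  · exact Or.inl (eq_of_idx l (a.trans hx.symm) ▸ e ▸ inf_le_right)
  · have e1 := relIndex_mul_index l
    rw [a, hx, e, inf_relIndex_left, mul_comm] at e1
    exact Or.inr ⟨a, Nat.eq_of_mul_eq_mul_left (by have := h.hm; omega) e1⟩

theorem T4.leY (h : T4 G m n) (hx : C1[x].index = m * n) (c : y ∈ C1[x]) (co : (orderOf x).Coprime (orderOf y)) :
    C1[x] ≤ C1[y] := by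
  have e := cent_mul_of_coprime (Gen2.mem_cent.1 c : y * x = x * y).symm co
  have l : C1[x * y] ≤ C1[x] := e ▸ inf_le_left
  have d := hx ▸ index_dvd_of_le l
  rcases h.up (x := x * y) ((dvd_mul_right m n).trans d) with a | a
  · exact absurd (h.co.symm.eq_one_of_dvd ((dvd_mul_left n m).trans (a ▸ d))) h.hn.ne'
  · exact eq_of_idx l (a.trans hx.symm) ▸ e ▸ inf_le_right

theorem T4.dvd (h : T4 G m n) (hx : m ∣ C1[x].index) (c : y ∈ C1[x]) (co : (orderOf x).Coprime (orderOf y)) :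
    C1[y].relIndex C1[x] ∣ n := by
  rcases h.up hx with e | e
  · rcases h.relX e c co with a | ⟨-, a⟩
    · rw [relIndex_eq_one.2 a]; exact one_dvd _
    · rw [a]
  · rw [relIndex_eq_one.2 (h.leY e c co)]; exact one_dvd _

theorem T4.csdvd (h : T4 G m n) (g : G) : C1[g].index ∣ m * n := by
  by_cases z : g ∈ center G
  · rw [cs_eq_one_iff.2 z]; exact one_dvd _
  · rcases h.cs g z with e | e | e <;> simp [e]

theorem T4.central (h : T4 G m n) (hq : q.Prime) (d1 : ¬ q ∣ m) (d2 : ¬ q ∣ n) (hk : PiElt {q} k) : k ∈ center G := by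
  have := Fact.mk hq
  obtain ⟨P, hP⟩ := exists_sylow_mem (exists_pow_of_piElt hk)
  exact sylow_le_center_of_forall_not_dvd_cs P
    (fun x d => ((Nat.Prime.dvd_mul hq).1 (d.trans (h.csdvd x))).elim d1 d2) hP

theorem T4.exX (h : T4 G m n) : ∃ (r : ℕ) (x : G), r.Prime ∧ (r ∣ m ∨ r ∣ n) ∧ PiElt {r} x ∧ C1[x].index = m := by
  obtain ⟨x, hx⟩ := h.ex
  by_contra! H
  refine h.nc hx.symm.dvd (mem_of_parts (mem_top x) fun r hr _ y _ zy py => by_contra fun z => ?_)
  exact H r y hr (by_contra fun a => z (h.central hr (fun d => a (Or.inl d)) (fun d => a (Or.inr d)) py)) py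
    (h.eqX hx z (cent_le_cent_of_mem_zpowers zy) ▸ hx)

theorem T4.part (h : T4 G m n) (hp : p.Prime) (d : p ∣ m) (hx : m ∣ C1[x].index) (g : G) :
    partn {p} #C1[x] ≤ partn {p} #C1[g] := by
  have n0 : n ≠ 0 := by have := h.hn; omega
  have m0 : m ≠ 0 := by have := h.hm; omega
  have k : ∀ x : G, partn {p} #C1[x] * partn {p} C1[x].index = partn {p} (Nat.card G) := fun x => by
    rw [← card_mul_index C1[x], partnM _ Nat.card_pos.ne' (cs_ne_zero x)]
  have h1 := partn_dvd {p} (mul_ne_zero m0 n0) (h.csdvd g)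
  rw [partnM _ m0 n0, part_p'nat n0 ((p'natE hp).2 (h.nd hp d)), mul_one] at h1
  have h2 := Nat.le_of_dvd (partn_pos _ _) (h1.trans (partn_dvd {p} (cs_ne_zero x) hx))
  have e := (k x).trans (k g).symm
  by_contra! H
  have := partn_pos {p} C1[g].index
  nlinarith

theorem T4.tr (h : T4 G m n) (hp : p.Prime) (d : p ∣ m) (hx : m ∣ C1[x].index) (c : s ∈ C1[x]) (ns : s ∉ center G)
    (ps : PiElt {p} s) (g : G) : ∃ t ∈ C1[g], t ∉ center G ∧ PiElt {p} t :=
  have := Fact.mk hp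
  exists_nc (center_le_centralizer _) c ns ps (h.part hp d hx g)

theorem T4.comm (h : T4 G m n) (hq : q.Prime) (d : q ∣ n) (hx : C1[x].index = m) (hu : C1[u].index = n)
    (pu : PiElt {q} u) : u ∈ C1[x] :=
  have := Fact.mk hq
  commute_of_pElt (by rw [hx, hu]; exact h.co.symm) (exists_pow_of_piElt pu) (hx ▸ h.symm.nd hq d)

/-- an `n`-element of class size `n` and an `n`-element of class size `m` do not coexist -/
theorem T4.ab (h : T4 G m n) (hq : q.Prime) (d : q ∣ n) (hr : r.Prime) (d' : r ∣ n) (hx : C1[x].index = m)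
    (px : PiElt {r} x) (hu : C1[u].index = n) (pu : PiElt {q} u) : False := by
  obtain ⟨p, hp, dp⟩ := Nat.exists_prime_and_dvd h.hm.ne'
  have c := mem_cent_comm.1 (h.comm hq d hx hu pu)
  have h1 := (piNat_relIndex (π := {p}ᶜ) (E := C1[x]) (D := C1[u]) fun p' _ np y hy py => by
    obtain rfl : p' = p := by simpa using np
    exact mem_cent_comm.1 (alem hq hr (h.symm.nd hq d) (h.symm.nd hr d')
      (fun y hy py => h.symm.dvd hu.symm.dvd hy (pnat_coprime pu py)) c hy px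
      (pe_ne (fun e : p' = r => h.nd hp dp (e ▸ d')) py))).not_dvd hp (by simp)
  have e := relIndex_mul_index (inf_le_right : C1[x] ⊓ C1[u] ≤ C1[u])
  rw [inf_relIndex_right, hu] at e
  exact ((Nat.Prime.dvd_mul hp).1 (e ▸ dp.trans (hx ▸ index_dvd_of_le inf_le_left))).elim h1 (h.nd hp dp)

theorem T4.Zc (h : T4 G m n) (hx : C1[x].index = m) :
    ∃ p, p.Prime ∧ p ∣ m ∧ ∃ s ∈ C1[x], s ∉ center G ∧ PiElt {p} s := by
  by_contra! H
  have k1 : ∀ g : G, m ∣ C1[g].index → ∀ p, p.Prime → p ∣ m → ∀ s ∈ C1[g], PiElt {p} s → s ∈ center G :=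
    fun g hg p hp d s c ps => by_contra fun ns =>
      let ⟨t, a, b, c⟩ := h.tr hp d hg c ns ps x; H p hp d t a b c
  obtain ⟨p, hp, d⟩ := Nat.exists_prime_and_dvd h.hm.ne'
  have := Fact.mk hp
  obtain ⟨s, ns, ps⟩ := exists_nc_of_dvd (hx ▸ d : p ∣ C1[x].index)
  have hs : C1[s].index = n := by
    rcases h.cs s ns with e | e | e
    exacts [absurd (k1 s e.symm.dvd p hp d s (self_mem_cent s) ps) ns, e,
      absurd (k1 s (e ▸ dvd_mul_right m n) p hp d s (self_mem_cent s) ps) ns]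
  have k2 : ∀ q, q.Prime → q ∣ n → ∀ u ∈ C1[s], PiElt {q} u → u ∈ center G := fun q hq dq u c pu => by
    by_contra nu
    have co : (orderOf s).Coprime (orderOf u) := pnat_coprime ps (pe_ne (fun e : q = p => h.nd hp d (e ▸ dq)) pu)
    rcases h.symm.relX hs c co with a | ⟨a, -⟩
    · have e := h.symm.eqX hs nu a
      exact H p hp d s (mem_cent_comm.1 (e ▸ mem_cent_comm.1 (h.comm hq dq hx (e ▸ hs) pu))) ns ps
    · refine ns (k1 _ (a ▸ dvd_mul_left m n) p hp d s ?_ ps)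
      rw [cent_mul_of_coprime (Gen2.mem_cent.1 c : u * s = s * u).symm co]
      exact ⟨self_mem_cent s, mem_cent_comm.1 c⟩
  obtain ⟨y, hy⟩ := h.ey
  refine h.nc (hy ▸ dvd_mul_right m n) (mem_of_parts (self_mem_cent y) fun l hl _ z hz _ pz => by_contra fun nz => ?_)
  by_cases d1 : l ∣ m
  · exact nz (k1 y (hy ▸ dvd_mul_right m n) l hl d1 z hz pz)
  by_cases d2 : l ∣ n
  · obtain ⟨t, a, b, c⟩ := h.symm.tr hl d2 (hy ▸ dvd_mul_left n m) hz nz pz s
    exact b (k2 l hl d2 t a c)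
  · exact nz (h.central hl d1 d2 pz)

theorem T4.alpha (h : T4 G m n) (hr : r.Prime) (hx : C1[x].index = m) (px : PiElt {r} x) (hq : q.Prime) (d : q ∣ n)
    (qr : q ≠ r) (hl : l.Prime) (lr : l ≠ r) (lq : l ≠ q) (hw : w ∈ C1[x]) (pw : PiElt {l} w) : C1[x] ≤ C1[w] := by
  by_contra H
  have R : TwoReg.R C1[x] r n := ⟨hr, fun y co ny => by
    rw [cs_subtype]
    refine ((h.relX hx y.2 (pnat_coprime px ((p'nat_coprime hr).2 (by rwa [orderOf_coe])))).resolve_left fun a => ny ?_).2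
    exact mem_center_iff.2 fun g => Subtype.ext (Gen2.mem_cent.1 (a g.2))⟩
  have := Fact.mk hl
  have N : TwoReg.NE r l (⟨w, hw⟩ : C1[x]) := ⟨hl, lr, by rw [← orderOf_coe]; exact exists_pow_of_piElt pw,
    fun z => H fun g hg => Gen2.mem_cent.2 (congrArg Subtype.val (mem_center_iff.1 z ⟨g, hg⟩))⟩
  obtain ⟨v, hv⟩ := R.ex_ne N hq qr d
  refine TwoReg.R2.not_dvd ⟨R, fun j => ?_⟩ hq qr d
  by_cases e : l = j
  exacts [⟨q, e ▸ lq.symm, v, hv⟩, ⟨l, e, _, N⟩]

theorem T4.pp (h : T4 G m n) : IsPrimePow n := by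
  by_contra H
  have n0 : n ≠ 0 := by have := h.hn; omega
  have na : ∀ r (x : G), r.Prime → r ∣ m → PiElt {r} x → C1[x].index ≠ m := fun r x hr d px hx => by
    obtain ⟨q, hq, dq⟩ := Nat.exists_prime_and_dvd h.hn.ne'
    obtain ⟨q', hq', ne, dq'⟩ := exists_prime_ne_of_not_isPrimePow n0 h.hn.ne' H hq
    have qr : ∀ q, q ∣ n → q ≠ r := fun q dq e => h.nd hr d (e ▸ dq)
    have k1 : ∀ l, l.Prime → l ≠ r → ∀ w ∈ C1[x], PiElt {l} w → C1[x] ≤ C1[w] := fun l hl lr w hw pw => by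
      by_cases e : l = q
      exacts [h.alpha hr hx px hq' dq' (qr _ dq') hl lr (e ▸ ne.symm) hw pw, h.alpha hr hx px hq dq (qr _ dq) hl lr e hw pw]
    obtain ⟨y, hy⟩ := h.ey
    have := Fact.mk hq
    obtain ⟨k, nk, pk⟩ := exists_nc_of_dvd (x := y) (hy ▸ dq.mul_left m)
    obtain ⟨k, ck, nk, pk⟩ : ∃ k ∈ C1[x], k ∉ center G ∧ PiElt {q} k := by
      refine exists_nc (D := ⊤) le_top trivial nk pk (le_of_eq ?_)
      rw [card_top, ← card_mul_index C1[x], partnM _ Nat.card_pos.ne' (cs_ne_zero x), hx,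
        part_p'nat (by have := h.hm; omega) ((p'natE hq).2 (h.symm.nd hq dq)), mul_one]
    have ek := h.eqX hx nk (k1 q hq (qr q dq) k ck pk)
    have ab : ∀ a ∈ C1[x], C1[x] ≤ C1[a] := fun a ha b hb =>
      mem_cent_comm.1 (mem_of_parts ha fun l hl _ w hw _ pw => mem_cent_comm.1 (by
        by_cases e : l = r
        · exact h.alpha hq (ek ▸ hx) pk hq' dq' ne hl (e ▸ (qr q dq).symm) (e ▸ (qr q' dq').symm) (ek ▸ hw) pw (ek ▸ hb)
        · exact k1 l hl e w hw pw hb))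
    obtain ⟨u, hu⟩ := h.ex'
    have hZ : C1[x] ⊓ C1[u] ≤ center G := fun a ha => by_contra fun na => by
      have := index_dvd_of_le (ab u (h.eqX hx na (ab a ha.1) ▸ mem_cent_comm.1 ha.2))
      rw [hu, hx] at this
      exact h.hn.ne' (h.co.symm.eq_one_of_dvd this)
    have e := eq_of_idx (hZ.trans (center_le_centralizer {y})) (by
      rw [index_inf_cop (by rw [hx, hu]; exact h.co), hx, hu, hy])
    exact h.nc (hy ▸ dvd_mul_right m n) (hZ (e ▸ self_mem_cent y))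
  obtain ⟨r, x, hr, d, px, hx⟩ := h.exX
  have d := d.resolve_left fun d => na r x hr d px hx
  obtain ⟨q, hq, ne, dq⟩ := exists_prime_ne_of_not_isPrimePow n0 h.hn.ne' H hr
  obtain ⟨p, hp, dp, s, c, ns, ps⟩ := h.Zc hx
  exact na p s hp dp ps (h.eqX hx ns (h.alpha hr hx px hq dq ne hp (fun e => h.nd hp dp (e ▸ d))
    (fun e => h.nd hp dp (e ▸ dq)) c ps) ▸ hx)

end Cfsg.Agent.Small.Mn4
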