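import Cfsg.Agent.Known.Strong
import Cfsg.Agent.Known.MatRep2
import Cfsg.Agent.Known.Bridge2
import Cfsg.Agent.S0288

/-! The group `O-(6,2)` as a permutation group `O6mP.G` of degree 27 with a presentation (`lifts`), its model `O6mT.mdl`
and the isomorphism `O6mT.equiv` (generated certificate, helper9). -/

set_option maxRecDepth 100000
set_option exponentiation.threshold 100000

namespace Cfsg.Agent.Small.O6mP

open Cfsg.Agent.Known Cfsg.Agent.Spor Equiv

noncomputable def n0 : Net :=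
  Net.cons 4 (nat_lit 0x80700) <|
  Net.cons 8 (nat_lit 0x68) <|
  Net.cons 16 (nat_lit 0x768) <|
  Net.cons 8 (nat_lit 0x68) <|
  Net.cons 4 (nat_lit 0x80700) <|
  Net.nil

noncomputable def n1 : Net :=
  Net.cons 2 (nat_lit 0x110000) <|
  Net.cons 4 (nat_lit 0x30000) <|
  Net.cons 8 (nat_lit 0x40078) <|
  Net.cons 16 (nat_lit 0x478) <|
  Net.cons 8 (nat_lit 0x40078) <|
  Net.cons 4 (nat_lit 0x30a00) <|
  Net.cons 2 (nat_lit 0x132200) <|
  Net.nil

noncomputable def n2 : Net :=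
  Net.cons 1 (nat_lit 0x411040) <|
  Net.cons 2 (nat_lit 0x20020) <|
  Net.cons 4 (nat_lit 0x10800) <|
  Net.cons 8 (nat_lit 0x8) <|
  Net.cons 16 (nat_lit 0x8) <|
  Net.cons 8 (nat_lit 0x700e8) <|
  Net.cons 4 (nat_lit 0x40900) <|
  Net.cons 2 (nat_lit 0x1330020) <|
  Net.cons 1 (nat_lit 0x411040) <|
  Net.nil

noncomputable def n3 : Net :=
  Net.cons 1 (nat_lit 0x1400000) <|
  Net.cons 2 (nat_lit 0x220320) <|
  Net.cons 4 (nat_lit 0x50100) <|
  Net.cons 8 (nat_lit 0x80) <|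
  Net.cons 16 (nat_lit 0x80) <|
  Net.cons 8 (nat_lit 0x700b8) <|
  Net.cons 4 (nat_lit 0x60500) <|
  Net.cons 2 (nat_lit 0x1310320) <|
  Net.cons 1 (nat_lit 0x50000) <|
  Net.nil

noncomputable def n4 : Net :=
  Net.cons 1 (nat_lit 0x40440) <|
  Net.cons 2 (nat_lit 0x1310000) <|
  Net.cons 4 (nat_lit 0x80001) <|
  Net.cons 8 (nat_lit 0x50008) <|
  Net.cons 16 (nat_lit 0xef) <|
  Net.cons 8 (nat_lit 0x50008) <|
  Net.cons 4 (nat_lit 0xb0003) <|
  Net.cons 2 (nat_lit 0x1312000) <|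
  Net.cons 1 (nat_lit 0x40540) <|
  Net.nil

noncomputable def n5 : Net :=
  Net.cons 1 (nat_lit 0x501) <|
  Net.cons 2 (nat_lit 0x302100) <|
  Net.cons 4 (nat_lit 0x600) <|
  Net.cons 16 (nat_lit 0x200) <|
  Net.cons 8 (nat_lit 0x15) <|
  Net.cons 4 (nat_lit 0xc0600) <|
  Net.cons 2 (nat_lit 0x1302302) <|
  Net.cons 1 (nat_lit 0x541) <|
  Net.nil

noncomputable def nets : List Net := [n0, n1, n2, n3, n4, n5]

theorem ok : netsOk 27 nets = true := by decide +kernel

def rels : List (List ℕ) := [[0,0],[1,1],[0,1,0,1,0,1],[2,2],[0,1,2,1,2,0,2],[3,3],[2,3,2,3],[0,1,3,1,3,0,3],[4,4],[0,1,2,4,1,4,1],[0,4,0,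
  4,1,2,1,4],[0,4,3,4,0,4,3,4],[5,5],[1,2,1,5,4,5],[0,4,5,0,4,5],[0,2,4,2,5,1,5],[2,3,5,2,3,5,3,2,5]]

theorem plhP_5 : ∀ p < 5, chkPl nets 27 5 rels p = true :=
  forall_lt_add (a := 0) (b := 5) (fun _ h => absurd h (Nat.not_lt_zero _)) (by decide +kernel)

theorem hP : ∀ r ∈ rels, ev (PP nets) r = 1 := ev_eq_one_of_planes ok (by decide) plhP_5

noncomputable def K0_0 : ℕ := (joinL 27 [(nat_lit 0x200000),
  (nat_lit 0x0),
  (nat_lit 0x0),
  (nat_lit 0x0),
  (nat_lit 0x0),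
  (nat_lit 0x0)])

theorem df0 : chkDef nets 27 9 rels (ivl 0 162) (nat_lit 0x0) 1 K0_0 = true := by
  decide +kernel

noncomputable def K0_1 : ℕ := (joinL 27 [(nat_lit 0x200200),
  (nat_lit 0x0),
  (nat_lit 0x0),
  (nat_lit 0x0),
  (nat_lit 0x0),
  (nat_lit 0x0)])

theorem dd0_0 : chkDed nets 27 9 rels (letS []) (nat_lit 0x800) 1 K0_0 K0_1 = true := by
  decide +kernel

theorem en0 : chkEnd nets 27 5 9 rels [0] (nat_lit 0x200200) 2 K0_1 = true := by decide +kernel

theorem up0 {H : Type*} [Group H] {g : ℕ → H} (hg : ∀ r ∈ rels, ev g r = 1) : CardLe (genL g [0]) 2 :=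
  CardLe.lev ok hg (ded_let ok (by decide) hg hP dd0_0 (defPhase_sound _ ok hg hP df0))
    en0 (cardLe_nil g)

noncomputable def K1_0 : ℕ := (joinL 27 [(nat_lit 0x200000),
  (nat_lit 0x200),
  (nat_lit 0x0),
  (nat_lit 0x0),
  (nat_lit 0x0),
  (nat_lit 0x0)])

theorem df1 : chkDef nets 27 15 rels (ivl 0 162) (nat_lit 0x100000000) 2 K1_0 = true := by
  decide +kernel

noncomputable def K1_1 : ℕ := (joinL 27 [(nat_lit 0x208200),
  (nat_lit 0x208200),
  (nat_lit 0x0),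
  (nat_lit 0x0),
  (nat_lit 0x0),
  (nat_lit 0x0)])

theorem dd1_0 : chkDed nets 27 15 rels (letS [0]) (nat_lit 0x1000008000000080200002804) 4 K1_0 K1_1 = true := by
  decide +kernel

theorem en1 : chkEnd nets 27 5 15 rels [0,1] (nat_lit 0x208200) 3 K1_1 = true := by decide +kernel

theorem up1 {H : Type*} [Group H] {g : ℕ → H} (hg : ∀ r ∈ rels, ev g r = 1) : CardLe (genL g [0,1]) 6 :=
  CardLe.lev ok hg (ded_let ok (by decide) hg hP dd1_0 (defPhase_sound _ ok hg hP df1))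
    en1 (up0 hg)

noncomputable def K2_0 : ℕ := (joinL 27 [(nat_lit 0x800000),
  (nat_lit 0x20000),
  (nat_lit 0x800),
  (nat_lit 0x0),
  (nat_lit 0x0),
  (nat_lit 0x0)])

theorem df2 : chkDef nets 27 5 rels (ivl 0 162) (nat_lit 0x30000000000000001) 3 K2_0 = true := by
  decide +kernel

noncomputable def K2_1 : ℕ := (joinL 27 [(nat_lit 0x820820),
  (nat_lit 0x820820),
  (nat_lit 0x820820),
  (nat_lit 0x0),
  (nat_lit 0x0),
  (nat_lit 0x0)])

theorem dd2_0 : chkDed nets 27 5 rels (letS [0,1]) (nat_lit 0x10000000300000800000008020000080600002008000008060000080800000008) 9 K2_0 K2_1 = true := by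
  decide +kernel

theorem en2 : chkEnd nets 27 5 5 rels [0,1,2] (nat_lit 0x820820) 4 K2_1 = true := by decide +kernel

theorem up2 {H : Type*} [Group H] {g : ℕ → H} (hg : ∀ r ∈ rels, ev g r = 1) : CardLe (genL g [0,1,2]) 24 :=
  CardLe.lev ok hg (ded_let ok (by decide) hg hP dd2_0 (defPhase_sound _ ok hg hP df2))
    en2 (up1 hg)

noncomputable def K3_0 : ℕ := (joinL 27 [(nat_lit 0x200400),
  (nat_lit 0x8000),
  (nat_lit 0x410000),
  (nat_lit 0x210),
  (nat_lit 0x0),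
  (nat_lit 0x0)])

theorem df3 : chkDef nets 27 3 rels (ivl 0 162) (nat_lit 0x50000000000000001000000030000000000000005) 6 K3_0 = true := by
  decide +kernel

noncomputable def K3_1 : ℕ := (joinL 27 [(nat_lit 0x618618),
  (nat_lit 0x618618),
  (nat_lit 0x618618),
  (nat_lit 0x618618),
  (nat_lit 0x0),
  (nat_lit 0x0)])

theorem dd3_0 : chkDed nets 27 3 rels (letS [0,1,2]) (nat_lit 0x10000000300000005000008000000080a00000806000008020000100c0000200e0000080a0000180c00000808000008020000080e0000000e0000280800002008000018080000100c0000280e0000180e) 21 K3_0 K3_1 = true := by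
  decide +kernel

theorem en3 : chkEnd nets 27 5 3 rels [0,1,2,3] (nat_lit 0x618618) 8 K3_1 = true := by decide +kernel

theorem up3 {H : Type*} [Group H] {g : ℕ → H} (hg : ∀ r ∈ rels, ev g r = 1) : CardLe (genL g [0,1,2,3]) 192 :=
  CardLe.lev ok hg (ded_let ok (by decide) hg hP dd3_0 (defPhase_sound _ ok hg hP df3))
    en3 (up2 hg)

noncomputable def K4_0 : ℕ := (joinL 27 [(nat_lit 0x1800),
  (nat_lit 0x0),
  (nat_lit 0x20020),
  (nat_lit 0x1040000),
  (nat_lit 0x800044),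
  (nat_lit 0x0)])

theorem df4 : chkDef nets 27 1 rels (ivl 0 162) (nat_lit 0x80000000000000003000000050000000800000000) 6 K4_0 = true := by
  decide +kernel

noncomputable def K4_1 : ℕ := (joinL 27 [(nat_lit 0x1861866),
  (nat_lit 0x1861866),
  (nat_lit 0x1861866),
  (nat_lit 0x1861866),
  (nat_lit 0x1861866),
  (nat_lit 0x0)])

theorem dd4_0 : chkDed nets 27 1 rels (letS [0,1,2,3]) (nat_lit 0x100000003000000050000000700000800000008100000080a000008060000100c000020120000081400002016000008120000301400003016000028080000180c0000180e0000080e000008020000300e0000280e000018080000201200001812000008100000101200003814000010120000301600002016000008060000180c) 33 K4_0 K4_1 = true := by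
  decide +kernel

theorem en4 : chkEnd nets 27 5 1 rels [0,1,2,3,4] (nat_lit 0x1861866) 10 K4_1 = true := by decide +kernel

theorem up4 {H : Type*} [Group H] {g : ℕ → H} (hg : ∀ r ∈ rels, ev g r = 1) : CardLe (genL g [0,1,2,3,4]) 1920 :=
  CardLe.lev ok hg (ded_let ok (by decide) hg hP dd4_0 (defPhase_sound _ ok hg hP df4))
    en4 (up3 hg)

noncomputable def K5_0 : ℕ := (joinL 27 [(nat_lit 0x200800),
  (nat_lit 0x0),
  (nat_lit 0x4120c0),
  (nat_lit 0x82c210),
  (nat_lit 0x5140522),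
  (nat_lit 0x208100c)])

theorem df5 : chkDef nets 27 0 rels (ivl 0 162) (nat_lit 0xc000000050000000000000008000000050000000c0000000300000008000000050000000800000000) 11 K5_0 = true := by
  decide +kernel

noncomputable def K5_1 : ℕ := (joinL 27 [(nat_lit 0x7ffffff),
  (nat_lit 0x7ffffff),
  (nat_lit 0x7ffffff),
  (nat_lit 0x7ffffff),
  (nat_lit 0x7ffffff),
  (nat_lit 0x7ffffff)])

theorem dd5_0 : chkDed nets 27 0 rels (letS [0,1,2,3,4]) (nat_lit 0x100000003000000050000000700000009000008100000080a0000081800000806000008000000180c0000201a0000281e0000181c0000081a0000100c0000180e0000201600002820000008020000281c0000001e00000800000008180000201a0000101a0000001a0000080e0000000e000028080000180800000008000020120000181200000800000008100000281c0000201c0000101a0000001a0000280e0000180e00003008000020080000301e0000281e0000281400002016000008100000100c000020040000181a000030160000201a0000280e0000180e0000201200003014000020140000281200002016000010120000181c0000300e0000200e000008000000281c0000281a0000281e0000081e000008060000100c0000181c0000101a0000081a000008020000201e00002808000020120000281c0000201600004020000030200000280e0000180e0000080e000008020000281c0000281a0000300e000020120000081e000008180000080600002812000010120000180c00003016)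 98 K5_0 K5_1 = true := by
  decide +kernel

theorem en5 : chkEnd nets 27 5 0 rels (List.range 6) (nat_lit 0x7ffffff) 27 K5_1 = true := by decide +kernel

theorem up {H : Type*} [Group H] {g : ℕ → H} (hg : ∀ r ∈ rels, ev g r = 1) : CardLe (genL g (List.range 6)) 51840 :=
  CardLe.lev ok hg (ded_let ok (by decide) hg hP dd5_0 (defPhase_sound _ ok hg hP df5))
    en5 (up4 hg)

theorem lo0 : CardGe (genL (PP nets) [0]) 2 :=
  CardGe.stepL (L := 5) (b := 9) (n := 2) (ys := []) (prog := [0]) ok (cardGe_one _)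
    (genL_mono _ (by decide)) (by decide +kernel) (by decide +kernel)

theorem lo1 : CardGe (genL (PP nets) [0,1]) 6 :=
  CardGe.stepL (L := 5) (b := 15) (n := 3) (ys := [0]) (prog := [1,0]) ok (lo0)
    (genL_mono _ (by decide)) (by decide +kernel) (by decide +kernel)

theorem lo2 : CardGe (genL (PP nets) [0,1,2]) 24 :=
  CardGe.stepL (L := 5) (b := 5) (n := 4) (ys := [0,1]) (prog := [2,1,2]) ok (lo1)
    (genL_mono _ (by decide)) (by decide +kernel) (by decide +kernel)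

theorem lo3 : CardGe (genL (PP nets) [0,1,2,3]) 192 :=
  CardGe.stepL (L := 5) (b := 3) (n := 8) (ys := [0,1,2]) (prog := [3,1,3,2,1,3]) ok (lo2)
    (genL_mono _ (by decide)) (by decide +kernel) (by decide +kernel)

theorem lo4 : CardGe (genL (PP nets) [0,1,2,3,4]) 1920 :=
  CardGe.stepL (L := 5) (b := 1) (n := 10) (ys := [0,1,2,3]) (prog := [4,3,2,4,2]) ok (lo3)
    (genL_mono _ (by decide)) (by decide +kernel) (by decide +kernel)

theorem lo5 : CardGe (genL (PP nets) (List.range 6)) 51840 :=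
  CardGe.stepL (L := 5) (b := 0) (n := 27) (ys := [0,1,2,3,4]) (prog := [5,3,4,5,3,1,5,4,3,4,5]) ok (lo4)
    (genL_mono _ (by decide)) (by decide +kernel) (by decide +kernel)

/-- the group. -/
abbrev G : Type := PG nets 6

theorem lo : CardGe (PG nets 6) 51840 := lo5

theorem card : Nat.card G = 51840 := PG.card (up hP) lo

noncomputable abbrev g : ℕ → G := PG.g nets 6

noncomputable abbrev φ : G →* Perm ℕ := (PG nets 6).subtype

theorem rep : PermRep g nets 27 6 φ := PG.rep ok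

theorem hl : chkLet (List.range 6) rels = true := by decide +kernel

theorem hg : ∀ r ∈ rels, ev g r = 1 := PG.hg ok hl hP

theorem lifts : Lifts g 6 rels := PG.lifts ok hl hP (by decide) card fun _ _ _ h => up h

end Cfsg.Agent.Small.O6mP

namespace Cfsg.Agent.Small.O6mT

open Cfsg.Agent.Known Cfsg.Agent.Comp

noncomputable def t0 : ℕ := (nat_lit 0x39ac5a9349ca307eb38bdaa8398a418820)

theorem h0 : TabOf 27 5 t0 (Spor.ev (Spor.PP O6mP.nets) [0])⁻¹ :=
  tabOf_of_chk (L := 5) O6mP.ok _ (by decide +kernel)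

noncomputable def t1 : ℕ := (nat_lit 0x6b38bdaae6b16a4d2728c1e8398a418820)

theorem h1 : TabOf 27 5 t1 (Spor.ev (Spor.PP O6mP.nets) [1])⁻¹ :=
  tabOf_of_chk (L := 5) O6mP.ok _ (by decide +kernel)

noncomputable def t2 : ℕ := (nat_lit 0x52728d6dace2ef81d062a92d7316418820)

theorem h2 : TabOf 27 5 t2 (Spor.ev (Spor.PP O6mP.nets) [2])⁻¹ :=
  tabOf_of_chk (L := 5) O6mP.ok _ (by decide +kernel)

noncomputable def t3 : ℕ := (nat_lit 0x5277c41facc656aa0ec5906e698aa48820)

theorem h3 : TabOf 27 5 t3 (Spor.ev (Spor.PP O6mP.nets) [3])⁻¹ :=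
  tabOf_of_chk (L := 5) O6mP.ok _ (by decide +kernel)

noncomputable def t4 : ℕ := (nat_lit 0x13220cd47b18b06b9ec5d509a4a3a1e2e0)

theorem h4 : TabOf 27 5 t4 (Spor.ev (Spor.PP O6mP.nets) [4])⁻¹ :=
  tabOf_of_chk (L := 5) O6mP.ok _ (by decide +kernel)

noncomputable def t5 : ℕ := (nat_lit 0x61fabda72ad230c89a40a12a31cac03963)

theorem h5 : TabOf 27 5 t5 (Spor.ev (Spor.PP O6mP.nets) [5])⁻¹ :=
  tabOf_of_chk (L := 5) O6mP.ok _ (by decide +kernel)

noncomputable def tabs : List ℕ := [t0, t1, t2, t3, t4, t5]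

def wds : List (List ℕ) := [[0],[1],[2],[3],[4],[5]]

noncomputable scoped instance inst : MulAction O6mP.G ℕ := actOf O6mP.φ

scoped instance fin : Finite O6mP.G := Nat.finite_of_card_ne_zero (by rw [O6mP.card]; decide)

noncomputable def y (i : ℕ) : O6mP.G := (Spor.ev O6mP.g (nthL [0] wds i))⁻¹

noncomputable def act (i : ℕ) : ℕ → ℕ := get2 5 (nthL t0 tabs i)

theorem hy : ActBy y (PtN 27) act :=
  actBy_tabs O6mP.rep (.cons h0 (.cons h0 (.cons h1 (.cons h2 (.cons h3 (.cons h4 (.cons h5 (.nil)))))))) (by decide +kernel)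

theorem f0 : FixLe O6mP.G (PtN 27) [0] 27 :=
  FixLe.nil.stepW (isCanon_PtN _) hy 0 27 [[5],[3,4]] 27 ⟨_, rfl, by decide⟩ (by decide +kernel)

theorem f1 : FixLe O6mP.G (PtN 27) [1,0] 270 :=
  f0.stepW (isCanon_PtN _) hy 1 10 [[2,4],[3]] 27 ⟨_, rfl, by decide⟩ (by decide +kernel)

theorem f2 : FixLe O6mP.G (PtN 27) [3,1,0] 2160 :=
  f1.stepW (isCanon_PtN _) hy 3 8 [[3],[0,2]] 27 ⟨_, rfl, by decide⟩ (by decide +kernel)

theorem f3 : FixLe O6mP.G (PtN 27) [5,3,1,0] 8640 :=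
  f2.stepW (isCanon_PtN _) hy 5 4 [[0,2]] 27 ⟨_, rfl, by decide⟩ (by decide +kernel)

theorem f4 : FixLe O6mP.G (PtN 27) [15,5,3,1,0] 25920 :=
  f3.stepW (isCanon_PtN _) hy 15 3 [[0,1]] 27 ⟨_, rfl, by decide⟩ (by decide +kernel)

theorem f5 : FixLe O6mP.G (PtN 27) [9,15,5,3,1,0] 51840 :=
  f4.stepW (isCanon_PtN _) hy 9 2 [[0]] 27 ⟨_, rfl, by decide⟩ (by decide +kernel)

theorem base : IsBase O6mP.G (PtN 27) [9,15,5,3,1,0] := f5.isBase O6mP.card le_rfl

theorem mdl : Mdl O6mP.φ 27 6 51840 y act [9,15,5,3,1,0] :=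
  mdl_of_tabs O6mP.rep hy base (by decide) O6mP.card (by decide)

end Cfsg.Agent.Small.O6mT

namespace Cfsg.Agent.Small.O6mT

open Cfsg.Agent.Known Cfsg.Agent.Comp Matrix

def As : List (List ℕ) := [[36929,8,64,512,32832,4160],[4161,4169,37441,37385,32832,36936],[1,8,64,512,4096,32768]]

def Ls : List (List (List ℕ)) := [[[1,0,0,0,0,0],[0,1,0,0,0,0],[1,0,1,0,1,1],[0,0,0,1,0,0],[1,0,0,0,0,1],[1,0,0,0,1,0]],[[1,1,1,1,0,0],[0,1,0,
  1,0,1],[1,1,1,0,1,1],[0,0,1,1,0,0],[1,1,1,1,0,1],[0,0,1,1,1,1]]]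

noncomputable def vt : ℕ := (nat_lit 0x9248249049209248209049241048248209048209208208049201041248049041209048201049041040249009000201008000048001000009000200001)

theorem pts : chkPts 3 7 2 6 As 2 0 27 (get2 18 vt) = true := by decide +kernel

def us : List (List ℕ) := [[0,3,5,0,4,5,4,5,3,0],[3,5,0,3,4,2,0],[0,2,4,3,0,5,3]]

theorem mdl2 : Mdl O6mP.φ 27 2 51840 (fun j => W y (nthL [] us j)) (fun j => actW act (nthL [] us j)) [9,15,5,3,1,0] :=
  mdl.words2 us 3 [[0,1,0,1,1,1,1,0,1,0,1,1,1,0,2,0,2,0,2,0,2,0],[0,1,0,1,1,1,1,0,1,0,1,1,1,1,0,1,0,1,1,1,1,0,1,0,1,1,1,0,2,0,2,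
  0,2,0,2,0],[0,2,2,2,2,2,0,1,1,1,1,1,0,2,0,2,0,2,0,2,0,2,0],[1,1,0,2,2,2,0,1,1,1,0,2,2,2,0,2,0,2,0,2,0,2,0],[2,
  2,2,2,2,0,2,2,0,2,2,0,1,0,1,0,1,1,1,1,0,1,0,1,1,1,0,2,0,2,0,2,0,2,0],[1,0,2,2,2,2,2,2,0,2,2,0,1,1,1,0,1,0,1,1,
  1,1,0,1,0,1,1,1,0,2,0,2,0,2,0,2,0]] (by decide +kernel) (by decide +kernel)

theorem acts0 : ∀ j < 1, chkAct 3 7 2 6 As 2 0 27 (get2 18 vt) j (actW act (nthL [] us j)) = true :=
  forall_lt_add (a := 0) (b := 1) (fun _ h => absurd h (Nat.not_lt_zero _)) (by decide +kernel)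

theorem acts : ∀ j < 2, chkAct 3 7 2 6 As 2 0 27 (get2 18 vt) j (actW act (nthL [] us j)) = true :=
  forall_lt_add (a := 1) (b := 1) acts0 (by decide +kernel)

theorem cen : Subgroup.center O6mP.G = ⊥ :=
  mdl.center_eq_bot 0 [[4,0,3,1,0]]
    [[],[4,3,4,5,3,4,3,5,0,3,4,1,3,1,2,0,1],[4,5,3,0,2,0],[1,0,2,0,3,1,4,5,3,4,3,1,5],[1,3,0,5,3,4,3],[0,1,0,2,3,
  4,0,5,3,4,3,1]] (by decide +kernel)

theorem mr : Spor.MatRep (matOf (Nat.cast : ℕ → ZMod 2) ((Equiv.sumCongr (finSumFinEquiv (m := 2) (n := 2)) (Equiv.refl (Fin 2))).trans finSumFinEquiv) Ls) 3 7 2 6 As 2 (reindexRingEquiv (ZMod 2) ((Equiv.sumCongr (finSumFinEquiv (m := 2) (n := 2)) (Equiv.refl (Fin 2))).trans finSumFinEquiv)).toMonoidHom :=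
  matRep_prime' ((Equiv.sumCongr (finSumFinEquiv (m := 2) (n := 2)) (Equiv.refl (Fin 2))).trans finSumFinEquiv) (by decide +kernel) (by decide +kernel)

theorem quad_eq (v : (Fin 2 ⊕ Fin 2) ⊕ Fin 2 → ZMod 2) : quadFormMinus 2 (ZMod 2) 1 1 v =
    v ⬝ᵥ (fromBlocks (fromBlocks 0 1 0 0) 0 0 !![1, 1; 0, 1] : Matrix _ _ (ZMod 2)).map (RingEquiv.refl _) *ᵥ v := by
  simp [quadFormMinus, fromBlocks_mulVec, dotProduct, mulVec, sq]
  ring

theorem equiv : Nonempty (isometryGroup (ZMod 2) (quadFormMinus 2 (ZMod 2) 1 1) ≃* O6mP.G) := by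
  have h := S0288.result (ZMod.card 2) 3 (by norm_num) 1 1 (by decide)
  simp only [Finset.prod_range_succ, Finset.prod_range_zero] at h
  exact mdl2.equiv_mat' (mrep_isom (RingEquiv.refl _) mr ((Equiv.sumCongr (finSumFinEquiv (m := 2) (n := 2)) (Equiv.refl (Fin 2))).trans finSumFinEquiv) _ quad_eq
    (isUnit_of_chk mr 11 (by decide +kernel)) (by decide +kernel)) pts acts (by norm_num at h; exact h)

end Cfsg.Agent.Small.O6mT
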