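import Cfsg.Agent.S2469
import Cfsg.Agent.S2472
import Cfsg.Agent.Classical.SpSimple
import Cfsg.Agent.FG.Spec
import Cfsg.Agent.Gen2.ClassCount

/-! The prime graph of `PSp(6,3)`: `PSp63.card`, `PSp63.adj` (edges 6, 10, 14, 15). Centralisers of Sylow subgroups of
prime order all of whose generators are conjugate: `card_eq_of_conj`. -/

set_option autoImplicit false

namespace Cfsg.Agent.Small.PSp63

open Cfsg.Agent.Classical Cfsg.Agent.Classical.Eig Cfsg.Agent.FG

variable {F : Type*} [Field F] [Fintype F] (hF : Fintype.card F = 3)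
include hF

theorem card : Nat.card (PSp 3 F) = 4585351680 := by
  have h := card_PSp_mul (F := F) (m := 3) (by decide)
  rw [Nat.card_eq_fintype_card (α := F), hF] at h
  simp only [Finset.prod_range_succ, Finset.prod_range_zero] at h
  norm_num at h; omega

theorem o5 : orderOf ((3 : ℕ) : ZMod 5) = 4 := by
  rw [orderOf_eq_iff (by decide)]; decide
theorem o7 : orderOf ((3 : ℕ) : ZMod 7) = 6 := by
  rw [orderOf_eq_iff (by decide)]; decide
theorem o13 : orderOf ((3 : ℕ) : ZMod 13) = 3 := by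
  rw [orderOf_eq_iff (by decide)]; decide

theorem yes : 6 ∈ Spec (PSp 3 F) ∧ 10 ∈ Spec (PSp 3 F) ∧ 14 ∈ Spec (PSp 3 F) ∧ 15 ∈ Spec (PSp 3 F) := by
  haveI := Fact.mk Nat.prime_three
  haveI : CharP F 3 := charP_of_card_eq_prime_pow (f := 1) hF
  have h2 : (2 : F) ≠ 0 := two_ne_of_odd (by rw [hF]; decide)
  have hc : Nat.card F = 3 := Nat.card_eq_fintype_card.trans hF
  refine ⟨?_, ?_, ?_, ?_⟩
  · refine (SpR.unip (F := F) (j := 1) one_pos).mem_two (p := 3) (m := 3) h2 (by simp [bdim_of_sq]) (by decide)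
      (by decide) fun k => ?_
    simp [up_two Nat.prime_three.one_lt]
  · obtain ⟨ζ, hζ⟩ := exists_ord (F := F) (p := 3) (m := 5) (by decide)
    have h1 := sq_ne_one_of_dvd (by decide) hζ.symm.dvd
    have h3 : eta (qz F) ζ = 2 := eta_prime (q := Nat.card F) (k := 4) Nat.prime_five (by decide) hζ
      (by rw [hc, o5 hF]) (by decide) (.inr (by decide))
    refine (SpR.of_ne (A := {(ζ, 1)}) (by simp) (by simpa)).mem_two (p := 3) (m := 5) h2
      (by rw [bdim_of_ne (by simpa)]; simp [h3]) (by decide) (by decide) fun k => ?_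
    simp [hζ]
  · exact tor_mem_PSp (n := 3) (m := 14) (by decide) (by decide) (.inr (by rw [qz, hc]; decide))
  · have := S2472.result (F := F) 3 3 (by decide) (by omega) 5 Nat.prime_five (by decide) (by decide)
      (by rw [card hF]; decide) 4 2 (by rw [hF, o5 hF]) (.inr (by decide))
    simpa using this

theorem no : 21 ∉ Spec (PSp 3 F) ∧ 39 ∉ Spec (PSp 3 F) ∧ 35 ∉ Spec (PSp 3 F) ∧ 65 ∉ Spec (PSp 3 F) ∧
    91 ∉ Spec (PSp 3 F) ∧ 26 ∉ Spec (PSp 3 F) := by
  haveI := Fact.mk Nat.prime_three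
  haveI : CharP F 3 := charP_of_card_eq_prime_pow (f := 1) hF
  have hc : Nat.card F = 3 := Nat.card_eq_fintype_card.trans hF
  have p13 : Nat.Prime 13 := by norm_num
  refine ⟨?_, ?_, ?_, ?_, ?_, fun h => ?_⟩
  · exact (S2472.result (F := F) 3 3 (by decide) (by omega) 7 Nat.prime_seven (by decide) (by decide)
      (by rw [card hF]; decide) 6 3 (by rw [hF, o7 hF]) (.inr (by decide))).2 (by decide)
  · exact (S2472.result (F := F) 3 3 (by decide) (by omega) 13 p13 (by decide) (by decide)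
      (by rw [card hF]; decide) 3 3 (by rw [hF, o13 hF]) (.inl (by decide))).2 (by decide)
  · exact (S2469.result (F := F) 3 3 (by decide) (by omega) 5 7 Nat.prime_five Nat.prime_seven (by decide) (by decide)
      (by decide) (by decide) (by decide) (by rw [card hF]; decide) (by rw [card hF]; decide) 4 6 2 3
      (by rw [hF, o5 hF]) (by rw [hF, o7 hF]) (.inr (by decide)) (.inr (by decide)) (by decide)).2
      ⟨by decide, fun ⟨t, _, e⟩ => by omega⟩
  · exact (S2469.result (F := F) 3 3 (by decide) (by omega) 5 13 Nat.prime_five p13 (by decide) (by decide)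
      (by decide) (by decide) (by decide) (by rw [card hF]; decide) (by rw [card hF]; decide) 4 3 2 3
      (by rw [hF, o5 hF]) (by rw [hF, o13 hF]) (.inr (by decide)) (.inl (by decide)) (by decide)).2
      ⟨by decide, fun ⟨t, _, e⟩ => by omega⟩
  · exact (S2469.result (F := F) 3 3 (by decide) (by omega) 7 13 Nat.prime_seven p13 (by decide) (by decide)
      (by decide) (by decide) (by decide) (by rw [card hF]; decide) (by rw [card hF]; decide) 6 3 3 3
      (by rw [hF, o7 hF]) (by rw [hF, o13 hF]) (.inr (by decide)) (.inl (by decide)) (by decide)).2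
      ⟨by decide, fun ⟨t, _, e⟩ => by omega⟩
  · obtain ⟨A, h3, h4, h5⟩ := exists_of_mem_PSp (p := 3) h
    obtain ⟨z, hz, h6⟩ := exists_dvd_ord Nat.prime_three (fun k h => (h5 k).1 h.kill) p13 (by decide) (by decide)
    obtain ⟨ζ, hζ⟩ := exists_ord (F := F) (p := 3) (m := 13) (by decide)
    have h7 : eta (qz F) ζ = 3 := eta_prime (q := Nat.card F) (k := 3) p13 (by decide) hζ
      (by rw [hc, o13 hF]) (by decide) (.inl (by decide))
    have h8 := Nat.le_of_dvd (eta_pos _) (eta_dvd_of_dvd (Q := qz F) (hζ ▸ h6))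
    obtain ⟨B, e, h9, h10⟩ := single_of_eta (n := 3) h3 hz (sq_ne_one_of_dvd (by decide) h6) (h7 ▸ h8) (by omega)
    obtain rfl : B = 0 := eq_zero_of_bdim (fun w hw => h3 w (e ▸ Multiset.mem_cons_of_mem hw)) (by omega)
    obtain ⟨D, -, hD, h11⟩ := exists_pm z.1
    have := h6.trans (orderOf_dvd_of_pow_eq_one hD)
    rw [h9, hc] at h11
    obtain rfl : D = 26 := by omega
    refine absurd ((h5 13).1 ⟨z.1 ^ 13, ?_, ?_⟩) (by decide)
    · exact zpow_neg_one_of_sq (by rw [← pow_mul]; exact hD)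
    · rw [e]; simp [Up.one]

theorem primes {r : ℕ} (hr : r.Prime) :
    r ∣ 4585351680 ↔ r = 2 ∨ r = 3 ∨ r = 5 ∨ r = 7 ∨ r = 13 := by
  refine ⟨fun h => ?_, by rintro (rfl | rfl | rfl | rfl | rfl) <;> decide⟩
  rw [show 4585351680 = 2 ^ 9 * (3 ^ 9 * (5 * (7 * 13))) by norm_num] at h
  simpa [hr.dvd_mul, hr.prime.dvd_pow_iff_dvd, Nat.prime_dvd_prime_iff_eq hr, Nat.prime_two, Nat.prime_three,
    Nat.prime_five, Nat.prime_seven, (by norm_num : Nat.Prime 13), -Nat.reducePow, -Nat.reduceMul] using h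

omit hF

/-- the prime graph from the primes, the edges and the non-edges. -/
theorem adj_iff {G : Type*} [Group G] [Finite G]
    (h1 : ∀ r : ℕ, r.Prime → r ∣ Nat.card G → r = 2 ∨ r = 3 ∨ r = 5 ∨ r = 7 ∨ r = 13)
    (h2 : 6 ∈ Spec G ∧ 10 ∈ Spec G ∧ 14 ∈ Spec G ∧ 15 ∈ Spec G)
    (h3 : 21 ∉ Spec G ∧ 39 ∉ Spec G ∧ 35 ∉ Spec G ∧ 65 ∉ Spec G ∧ 91 ∉ Spec G ∧ 26 ∉ Spec G)
    {p q : ℕ} (hp : p.Prime) (hq : q.Prime) (h : p ≠ q) :
    p * q ∈ Spec G ↔ p * q = 6 ∨ p * q = 10 ∨ p * q = 14 ∨ p * q = 15 := by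
  obtain ⟨a1, a2, a3, a4⟩ := h2
  obtain ⟨b1, b2, b3, b4, b5, b6⟩ := h3
  refine ⟨fun k => ?_, by rintro (e | e | e | e) <;> rwa [e]⟩
  have k1 : p * q ∣ Nat.card G := let ⟨g, e⟩ := k; e ▸ orderOf_dvd_natCard g
  rcases h1 p hp ((dvd_mul_right p q).trans k1) with rfl | rfl | rfl | rfl | rfl <;>
    rcases h1 q hq ((dvd_mul_left q _).trans k1) with rfl | rfl | rfl | rfl | rfl <;>
    first | exact absurd rfl h | decide | exact absurd k ‹_›

open Subgroup in
/-- a Sylow subgroup of prime order all of whose generators are conjugate. -/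
theorem card_eq_of_conj {G : Type*} [Group G] [Finite G] {p : ℕ} (hp : p.Prime) (hn : ¬ p ^ 2 ∣ Nat.card G) {x : G}
    (hx : orderOf x = p) (h : ∀ k, 0 < k → k < p → ∃ g, g * x * g⁻¹ = x ^ k) :
    ∃ n, n % p = 1 ∧ Nat.card G = n * ((p - 1) * Nat.card (centralizer {x})) := by
  classical
  haveI := Fact.mk hp
  have hc : Nat.card (zpowers x) = p := by rw [Nat.card_zpowers, hx]
  have hP : IsPGroup p (zpowers x) := .of_card (n := 1) (by rw [hc, pow_one])
  let P : Sylow p G := hP.toSylow fun hd => hn (by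
    rw [← card_mul_index (zpowers x), hc, sq]; exact Nat.mul_dvd_mul_left _ hd)
  have hP' : (P : Subgroup G) = zpowers x := rfl
  have h1 : ∀ g k, g * x * g⁻¹ = x ^ k → g ∈ normalizer (zpowers x : Set G) := fun g k hg =>
    mem_normalizer_fintype (by
      rintro _ ⟨j, rfl⟩
      rw [← conj_zpow, hg]
      exact zpow_mem (pow_mem (mem_zpowers x) k) j)
  have hx1 : x ≠ 1 := fun e => hp.ne_one (by rw [← hx, e, orderOf_one])
  have h2 : {y | ∃ n ∈ normalizer (zpowers x : Set G), n * x * n⁻¹ = y} = (zpowers x : Set G) \ {1} := by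
    ext y
    constructor
    · rintro ⟨n, hn, rfl⟩
      exact ⟨(mem_normalizer_iff.1 hn x).1 (mem_zpowers x), fun e => hx1 (by simpa using e)⟩
    · rintro ⟨hy, hy1⟩
      obtain ⟨k, hk, rfl⟩ := (mem_zpowers_iff_mem_range_orderOf.1 hy |> Finset.mem_image.1)
      rw [Finset.mem_range, hx] at hk
      obtain ⟨g, hg⟩ := h k (Nat.pos_of_ne_zero fun e => hy1 (by simp [e])) hk
      exact ⟨g, h1 g k hg, hg⟩
  have h3 := Gen2.ncard_conj_by (normalizer (zpowers x : Set G)) x
  rw [h2, Set.ncard_diff_singleton_of_mem (one_mem _), ← Nat.card_coe_set_eq] at h3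
  have h4 : centralizer {x} ≤ normalizer (zpowers x : Set G) := fun g hg => h1 g 1 (by
    rw [mem_centralizer_singleton_iff.1 hg, mul_inv_cancel_right, pow_one])
  refine ⟨Nat.card (Sylow p G), (card_sylow_modEq_one p G).symm ▸ Nat.mod_eq_of_lt hp.one_lt, ?_⟩
  rw [P.card_eq_index_normalizer, ← card_mul_index (normalizer (P : Set G)), mul_comm]
  congr 1
  change Nat.card (normalizer (zpowers x : Set G)) = _
  rw [← hc, show Nat.card (zpowers x) - 1 = _ from h3, relIndex, mul_comm,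
    ← Nat.card_congr (subgroupOfEquivOfLe h4).toEquiv, card_mul_index]

end Cfsg.Agent.Small.PSp63
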