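import Cfsg.Agent.Small.Cls3
import Cfsg.Agent.Small.O6m
import Cfsg.Agent.Spor.Cent2
import Cfsg.Agent.Fischer.Cent
import Cfsg.Agent.LES.Struct
import Cfsg.Agent.Known.Out
import Cfsg.Agent.S0280
import Cfsg.Agent.S0303
import Cfsg.Agent.S2603

/-! Shapes `E.W` of 2-constrained groups (helper9): `PW`, `Shp` (`Shp.core`), the group `O-(6,2)` (`pw6`, `aut6`),
quotients from equations (`quot_pack`), word letters `mdl_wd`, upper bounds for centralisers in models whose points are
group elements (`ub`, `card_le_ub`). -/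

set_option autoImplicit false

namespace Cfsg.Agent.Small

open Known Comp Subgroup Equiv Function

section abstract
variable {G H U : Type*} [Group G] [Group H] [Group U]

/-- every non-trivial normal subgroup contains the squares. -/
def PW (U : Type*) [Group U] : Prop := ∀ R : Subgroup U, R.Normal → R ≠ ⊥ → ∀ w, w * w ∈ R

theorem PW.congr (h : PW U) (e : U ≃* H) : PW H := fun R _ hR w => by
  simpa using h (R.comap e.toMonoidHom) inferInstance (fun k => hR (by
    rw [← map_comap_eq_self_of_surjective (f := e.toMonoidHom) e.surjective R, k, Subgroup.map_bot])) (e.symm w)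

theorem cent_bot_of_index (N : Subgroup U) [N.Normal] (hN : center N = ⊥) (hi : N.index = 2) (z : center U = ⊥) :
    centralizer (N : Set U) = ⊥ := eq_bot_iff.2 fun c hc => by
  by_cases k : c ∈ N
  · exact congrArg Subtype.val (hN.le (mem_center_iff.2 fun g => Subtype.ext (hc g g.2)) : (⟨c, k⟩ : N) = 1)
  · refine z.le (mem_center_iff.2 fun g => ?_)
    by_cases k' : g ∈ N
    · exact hc g k'
    · have := hc _ ((mul_mem_iff_of_index_two hi).2 (iff_of_false k' k))
      exact mul_right_cancel (this.trans (mul_assoc _ _ _).symm)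

theorem pw_of_simple (N : Subgroup U) [N.Normal] [IsSimpleGroup N] (hc : centralizer (N : Set U) = ⊥)
    (hi : N.index = 2) : PW U := fun R _ hR w => by
  rcases (inferInstance : (R.subgroupOf N).Normal).eq_bot_or_eq_top with k | k
  · refine absurd (eq_bot_iff.2 fun r hr => hc.le fun g hg => ?_) hR
    exact commute_of_normal_of_disjoint N R ‹_› ‹_› (subgroupOf_eq_bot.1 k).symm g r hg hr
  · exact subgroupOf_eq_top.1 k (mul_self_mem_of_index_two hi w)

theorem aut_iso [Finite U] (N : Subgroup U) [N.Normal] (hc : centralizer (N : Set U) = ⊥)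
    (h : Nat.card (MulAut N) ≤ Nat.card U) : Nonempty (U ≃* MulAut N) :=
  ⟨MulEquiv.ofBijective (MulAut.conjNormal : U →* MulAut N) (Injective.bijective_of_nat_card_le
    ((injective_iff_map_eq_one _).2 fun a ha => hc.le fun g hg =>
      (mul_inv_eq_iff_eq_mul.1 ((MulAut.conjNormal_apply a ⟨g, hg⟩).symm.trans (by rw [ha]; rfl))).symm) h)⟩

theorem almost {S : Type*} [Group S] [IsSimpleGroup S] [Finite U] (z : center U = ⊥)
    (f : commutator U ⧸ center (commutator U) ≃* S) (c : Nat.card U = 2 * Nat.card S)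
    (ca : Nat.card (MulAut S) ≤ Nat.card U) : PW U ∧ Nonempty (U ≃* MulAut S) := by
  have h1 := (commutator U).index_mul_card
  rw [card_eq_card_quotient_mul_card_subgroup (center (commutator U)), Nat.card_congr f.toEquiv, c, mul_left_comm,
    mul_comm 2, Nat.mul_right_inj (by have := Nat.card_pos (α := U); omega)] at h1
  have hi : (commutator U).index = 2 := ((Nat.dvd_prime Nat.prime_two).1 ⟨_, h1.symm⟩).resolve_left fun k => by
    have : center (commutator U) = ⊥ := eq_bot_iff.2 fun a ha => Subtype.ext (z.le (mem_center_iff.2 fun g =>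
      congrArg Subtype.val (mem_center_iff.1 ha ⟨g, index_eq_one.1 k ▸ mem_top g⟩)))
    simp [k, this] at h1
  have hz : center (commutator U) = ⊥ := card_eq_one.1 (by rw [hi] at h1; omega)
  have e := ((QuotientGroup.quotientMulEquivOfEq hz).trans QuotientGroup.quotientBot).symm.trans f
  have := e.isSimpleGroup
  have hc := cent_bot_of_index _ hz hi z
  obtain ⟨a⟩ := aut_iso _ hc ((Nat.card_congr (MulAut.congr e).toEquiv).trans_le ca)
  exact ⟨pw_of_simple _ hc hi, ⟨a.trans (MulAut.congr e)⟩⟩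

/-- `π` is onto with a 2-group as kernel, on which an element of order `3` acts non-trivially. -/
structure Shp (π : H →* U) : Prop where
  surj : Surjective π
  pg : IsPGroup 2 π.ker
  odd : ∃ u q : H, u ^ 3 = 1 ∧ π q = 1 ∧ ¬ Commute u q

theorem Shp.congr {π : H →* U} (h : Shp π) (e : G ≃* H) : Shp (π.comp e.toMonoidHom) :=
  ⟨h.surj.comp e.surjective, h.pg.comap_of_injective e.toMonoidHom e.injective,
    let ⟨u, q, h1, h2, h3⟩ := h.odd
    ⟨e.symm u, e.symm q, by rw [← map_pow, h1, map_one], by simpa using h2, fun c => h3 (by simpa using c.map e)⟩⟩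

theorem Shp.core [Finite H] {π : H →* U} (h : Shp π) (hU : PW U) : pCore 2 H = π.ker ∧
    centralizer (π.ker : Set H) ≤ π.ker ∧ generalizedFittingSubgroup H = π.ker := by
  have : Fact (Nat.Prime 2) := ⟨Nat.prime_two⟩
  obtain ⟨u, q, h1, h2, h3⟩ := h.odd
  have hx : ∀ K : Subgroup H, K.Normal → ¬ K ≤ π.ker → ∃ c ∈ K, π c = π u := fun K _ hK =>
    (show π u⁻¹ * π u⁻¹ = π u by
      rw [← map_mul, ← mul_inv_rev, inv_eq_of_mul_eq_one_right (by rw [← pow_three', h1])]) ▸
      hU (K.map π) (.map ‹_› _ h.surj) (fun e => hK ((map_eq_bot_iff K).1 e)) _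
  have key : ∀ (L : Subgroup H) n, u ^ 2 ^ n ∈ L → u ∈ L := fun L n k => by
    obtain ⟨m, e⟩ := exists_pow_eq_self_of_coprime (x := u) (n := 2 ^ n)
      (Nat.Coprime.coprime_dvd_right (orderOf_dvd_of_pow_eq_one h1) (Nat.Coprime.pow_left _ (by decide)))
    exact e ▸ pow_mem k m
  have hc : centralizer (π.ker : Set H) ≤ π.ker := by
    by_contra n
    obtain ⟨c, hc, e⟩ := hx _ normal_centralizer n
    have m : c⁻¹ * u ∈ π.ker := by simp [e]
    obtain ⟨k, hk⟩ := h.pg ⟨_, m⟩
    have : u ^ 2 ^ k = c ^ 2 ^ k := by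
      rw [← mul_inv_cancel_left c u, (show Commute c (c⁻¹ * u) from (hc _ m).symm).mul_pow,
        show (c⁻¹ * u) ^ 2 ^ k = 1 from congrArg Subtype.val hk, mul_one]
    exact h3 (key _ k (this ▸ pow_mem hc _) q h2).symm
  have e : pCore 2 H = π.ker := (Solv.le_pCore h.pg).antisymm' (by
    by_contra n
    obtain ⟨c, hc', e⟩ := hx _ inferInstance n
    obtain ⟨k, hk⟩ := Solv.isPGroup_pCore 2 H ⟨c, hc'⟩
    have m : u ∈ π.ker := key _ k (by
      rw [MonoidHom.mem_ker, map_pow, ← e, ← map_pow, show c ^ 2 ^ k = 1 from congrArg Subtype.val hk, map_one])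
    obtain ⟨k, hk⟩ := h.pg ⟨_, m⟩
    have : u ∈ (⊥ : Subgroup H) := key _ k (congrArg Subtype.val hk)
    exact h3 (mem_bot.1 this ▸ Commute.one_left q))
  refine ⟨e, hc, ?_⟩
  rw [← Sig.fstarIn_top, ← e, ← Sig.pcIn_top, Sig.fstarIn_eq_pcIn_iff, Sig.pcIn_top, e]
  exact inf_le_right.trans hc

theorem quot_of_ker {π : H →* U} (h : Surjective π) {N : Subgroup H} (e : π.ker = N) :
    ∃ _ : N.Normal, Nonempty (H ⧸ N ≃* U) :=
  e ▸ ⟨inferInstance, ⟨QuotientGroup.quotientKerEquivOfSurjective π h⟩⟩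

theorem mem_sup_two {K : Subgroup G} {d x : G} (hd : d * d = 1) (c : ∀ k ∈ K, Commute d k) (hx : x ∈ zpowers d ⊔ K) :
    x ∈ K ∨ d * x ∈ K := by
  have hz : zpowers d ≤ normalizer (K : Set G) := zpowers_le.2 (centralizer_le_normalizer _ fun k hk => (c k hk).symm)
  rw [← SetLike.mem_coe, coe_mul_of_left_le_normalizer_right _ _ hz] at hx
  obtain ⟨_, ⟨n, rfl⟩, k, hk, rfl⟩ := hx
  have e : d ^ (2 : ℤ) = 1 := by rw [zpow_two, hd]
  rcases Int.even_or_odd' n with ⟨m, rfl | rfl⟩
  · exact .inl (by simpa [zpow_mul, e] using hk)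
  · exact .inr (by simpa [zpow_add, zpow_mul, e, ← mul_assoc, hd] using hk)

theorem card_sup_two [Finite G] {K : Subgroup G} {d : G} (hd : d * d = 1) (c : ∀ k ∈ K, Commute d k) :
    Nat.card ↥(zpowers d ⊔ K) ≤ 2 * Nat.card K := by
  have := Nat.card_le_card_of_surjective (fun p : Bool × K => (⟨if p.1 then d * p.2 else p.2, by
    split_ifs
    exacts [mul_mem (mem_sup_left (mem_zpowers d)) (mem_sup_right p.2.2), mem_sup_right p.2.2]⟩ : ↥(zpowers d ⊔ K)))
    fun x => (mem_sup_two hd c x.2).elim (fun k => ⟨(false, ⟨_, k⟩), rfl⟩) fun k =>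
      ⟨(true, ⟨_, k⟩), Subtype.ext (by simp [← mul_assoc, hd])⟩
  simpa using this

/-- transport of centralisers. -/
def cenE (e : G ≃* H) (x : G) : centralizer {e x} ≃* centralizer {x} where
  toFun c := ⟨e.symm c, mem_centralizer_singleton_iff.2 (e.injective (by
    simpa using mem_centralizer_singleton_iff.1 c.2))⟩
  invFun c := ⟨e c, mem_centralizer_singleton_iff.2 (by simpa using congrArg e (mem_centralizer_singleton_iff.1 c.2))⟩
  left_inv c := Subtype.ext (e.apply_symm_apply _)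
  right_inv c := Subtype.ext (e.symm_apply_apply _)
  map_mul' a b := Subtype.ext (map_mul e.symm _ _)

end abstract

theorem o6 : PW O6mP.G ∧ Nonempty (O6mP.G ≃* MulAut (PSU 4 Spor.F4 2)) := by
  obtain ⟨e⟩ := O6mT.equiv
  obtain ⟨f⟩ := S0303.result (ZMod.card 2) (K := Spor.F4) Spor.F4.card 1 1 (by decide)
  have : Fact (Fintype.card Spor.F4 = 2 ^ 2) := ⟨Spor.F4.card⟩
  have hs := Classical.isSimpleGroup_PSU (F := Spor.F4) (q := 2) (n := 4) (by omega) (by omega)
  have h := S0280.result (F := Spor.F4) (q := 2) Spor.F4.card 4 (by decide)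
  simp only [Finset.prod_range_succ, Finset.prod_range_zero] at h
  have c1 : Nat.card (PSU 4 Spor.F4 2) = 25920 := by norm_num [PSU] at h ⊢; omega
  obtain ⟨χ, h1, -, h2⟩ := S2603.result (K := Spor.F4) (p := 2) (f := 1) (q := 2) (n := 4) le_rfl rfl Spor.F4.card
    (by decide) (by decide)
  have c2 := card_mul_card_ker h1
  have z : center (PSU 4 Spor.F4 2) = ⊥ := center_eq_bot_of_simple hs c1 (by norm_num) (by decide)
  have c3 := Fischer.card_aut_eq z
  rw [← c2, h2, c1] at c3
  have := O6mT.mdl.finite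
  have := Finite.of_equiv _ e.symm.toEquiv
  have c4 := (Nat.card_congr e.toEquiv).trans O6mP.card
  obtain ⟨k, ⟨a⟩⟩ := almost (eq_bot_iff.2 fun a ha => e.injective ((map_one e).symm ▸ O6mT.cen.le
    (mem_center_iff.2 fun g => by simpa using congrArg e (mem_center_iff.1 ha (e.symm g))))) f (by rw [c1, c4])
    (by rw [c3, c4]; simp)
  exact ⟨k.congr e, ⟨e.symm.trans a⟩⟩

section model
open Spor.Ct
variable {Γ : Type*} [Group Γ] {φ : Γ →* Perm ℕ} {N k n : ℕ} {y : ℕ → Γ} {act : ℕ → ℕ → ℕ} {B : List ℕ}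

/-- new letters without tables. -/
theorem mdl_wd (M : Mdl φ N k n y act B) (us : List (List ℕ)) (h : ∀ j < k, nthL [] us j = [j]) :
    Mdl φ N k n (fun j => W y (nthL [] us j)) (fun j => actW act (nthL [] us j)) B :=
  letI := actOf φ
  ⟨M.fix, M.hy.words us, M.base, eq_top_iff.2 (M.top ▸ Spor.genL_le fun i hi => by
    simpa [h i (List.mem_range.1 hi)] using Spor.mem_genL (fun j => W y (nthL [] us j)) hi), M.card, M.pos⟩

theorem ev_eq_W (y : ℕ → Γ) (w : List ℕ) : Spor.ev y w = W y w.reverse := by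
  induction w with
  | nil => simp
  | cons a w ih => simp [Spor.ev_cons, ih, W_append]

theorem eqs_of_mdl (M : Mdl φ N k n y act B) {E : List (List ℕ × List ℕ)}
    (h : allL E (fun e => eqB act B e.1.reverse e.2.reverse) = true) : Eqs y E := fun e he => by
  rw [ev_eq_W, ev_eq_W, M.eq (allL_iff.1 h e he)]

/-- the chain bound. -/
def chkCh (N : ℕ) (act : ℕ → ℕ → ℕ) (xs : List ℕ) (ws : List (List ℕ)) (B' : List ℕ) (a : ℕ) : Bool :=
  band (band (allL ws fun w => allL w fun l => memL l xs) (allL B' fun b => Nat.blt b N))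
    (Nat.ble a (chainL (fun j => actW act (nthL [] ws j)) (fun a => a) (Nat.succ N) B' (List.range (lenL ws))))

theorem le_card_genL (M : Mdl φ N k n y act B) {xs : List ℕ} (ws : List (List ℕ)) (B' : List ℕ) {a : ℕ}
    (e : chkCh N act xs ws B' a = true) : a ≤ Nat.card (Spor.genL y xs) := by
  letI := actOf φ
  haveI := M.finite
  simp only [chkCh, band_eq, Bool.and_eq_true, nble] at e
  refine e.2.trans (chainL_le_card (M.hy.words ws) (isCanon_PtN N).func (isCanon_PtN N).canon B'
    (exists_PtN e.1.2) _ _ fun c _ => ⟨_, ?_, rfl⟩)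
  rcases nthL_mem_or [] ws c with k | k
  · exact W_mem _ fun l hl => Spor.mem_genL _ (memL_iff.1 (allL_iff.1 (allL_iff.1 e.1.1 _ k) l hl))
  · simp only [k]; exact one_mem _

theorem comm_of_chk (M : Mdl φ N k n y act B) {z xs : List ℕ}
    (e : allL xs (fun l => eqB act B (l :: z) (appendL z [l])) = true) : Spor.genL y xs ≤ centralizer {W y z} :=
  Spor.genL_le fun l hl => mem_centralizer_singleton_iff.2 (by
    simpa [appendL_eq, W_append] using M.eq (allL_iff.1 e l hl))

theorem ne_of_chk (M : Mdl φ N k n y act B) {u v : List ℕ} (b : ℕ)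
    (e : band (Nat.blt b N) (not (Nat.beq (actW act u b) (actW act v b))) = true) : W y u ≠ W y v := fun h => by
  simp only [band_eq, Bool.and_eq_true, nblt, Bool.not_eq_true', nbeq_false] at e
  exact e.2 (by rw [← M.applyW u e.1, ← M.applyW v e.1, h])

theorem quot_pack {A U : Type} [Group A] [Finite A] [Group U] [Finite U] {a : ℕ → A} {E : List (List ℕ × List ℕ)}
    (h : Eqs a E) {C : Subgroup A} {qs xs : List ℕ} {u : ℕ → U} {rels : List (List ℕ)} (L : Lifts u xs.length rels)
    (hle : Spor.genL a (qs ++ xs) ≤ C) {e : ℕ} (h1 : Nat.card C ≤ e * Nat.card U)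
    (h2 : e * Nat.card U ≤ Nat.card (Spor.genL a (qs ++ xs))) (h3 : Nat.card (Spor.genL a qs) ≤ e)
    (hc : (chkNm (flt (qs ++ xs) E) (qs ++ xs) qs &&
      chkIn (flt (qs ++ xs) E) qs (rels.map (Spor.renW (Spor.sing xs)))) = true) :
    Nat.card (Spor.genL a qs) = e ∧ ∃ π : C →* U, Surjective π ∧ π.ker = (Spor.genL a qs).subgroupOf C := by
  rw [Bool.and_eq_true] at hc
  have hC := (eq_of_le_of_card_ge hle (h1.trans h2)).symm
  have h' := h.sub hle
  have top := subG_top hC
  have l : Spor.genL a qs ≤ C := (Spor.genL_le fun x hx => Spor.mem_genL _ (List.mem_append_left _ hx)).trans hle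
  have := h'.normal top hc.1
  obtain ⟨f, hf⟩ := L _ _ (h'.quot_rels _ le_rfl hc.2)
  have hs : Surjective f := fun b => by
    obtain ⟨c, rfl⟩ := QuotientGroup.mk'_surjective _ b
    refine Spor.genL_le (H := f.range.comap (QuotientGroup.mk' _)) (fun x hx => ?_) (top.ge (mem_top c))
    rcases List.mem_append.1 hx with hx | hx
    · exact ⟨1, by rw [map_one, eq_comm]; exact (QuotientGroup.eq_one_iff _).2 (Spor.mem_genL _ hx)⟩
    · obtain ⟨i, hi, e⟩ := renG_sing (a := Spor.subG C a) hx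
      exact ⟨u i, by rw [hf i hi, e]; rfl⟩
  have c1 := Nat.card_le_card_of_surjective f hs
  have c2 := card_eq_card_quotient_mul_card_subgroup (Spor.genL (Spor.subG C a) qs)
  have c3 : Nat.card (Spor.genL (Spor.subG C a) qs) = Nat.card (Spor.genL a qs) := by
    rw [genL_subG l, Nat.card_congr (subgroupOfEquivOfLe l).toEquiv]
  rw [← hC, c2, c3] at h2
  have p1 := Nat.card_pos (α := U)
  have p2 := Nat.card_pos (α := Spor.genL a qs)
  have b := hs.bijective_of_nat_card_le (by nlinarith)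
  refine ⟨h3.antisymm (by nlinarith), (MulEquiv.ofBijective f b).symm.toMonoidHom.comp (QuotientGroup.mk' _),
    (MulEquiv.ofBijective f b).symm.surjective.comp (QuotientGroup.mk'_surjective _), ?_⟩
  rw [← genL_subG l, ← MonoidHom.comap_ker, (MonoidHom.ker_eq_bot_iff _).2 (MulEquiv.ofBijective f b).symm.injective,
    MonoidHom.comap_bot, QuotientGroup.ker_mk']

/-- the point is new and has the fixing pattern `ts`. -/
def pass (act : ℕ → ℕ → ℕ) (cs : List (List ℕ)) (ps : List ℕ) (ts : List (List ℕ × Bool)) (q : ℕ) : Bool :=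
  band (allL ts fun t => bif' (Nat.beq (actW (fun i => actW act (nthL [] cs i)) t.1 q) q) t.2 (not t.2))
    (not (memL q ps))

/-- bound for a group centralising the words `cs` and fixing the points `ps`. -/
def ub (N : ℕ) (act : ℕ → ℕ → ℕ) (B : List ℕ) (pt : ℕ → ℕ) (kt : ℕ) (ds : ℕ → List ℕ × ℕ)
    (lv : List (List ℕ × ℕ × List (List ℕ × Bool))) : List (List ℕ) → List ℕ → ℕ :=
  List.rec (motive := fun _ => List (List ℕ) → List ℕ → ℕ) (fun cs ps => bif' (allL B fun b => band (memL (ds b).2 ps)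
      (band (Nat.blt (ds b).2 N) (Nat.beq (actW (fun i => actW act (nthL [] cs i)) (ds b).1 (ds b).2) b))) 1 0)
    (fun s _ ih cs ps => force (actW act s.1 (pt s.2.1)) fun p =>
      bif' (band (band (Nat.blt s.2.1 kt) (eqB act B (s.1.reverse ++ s.1) [])) (pass act cs ps s.2.2 p))
        (Nat.mul (countLt N (pass act cs ps s.2.2)) (ih (cs ++ [s.1 ++ s.2.1 :: s.1.reverse]) (p :: ps))) 0) lv

/-- the points are group elements. -/
structure Pts (φ : Γ →* Perm ℕ) (N : ℕ) (y : ℕ → Γ) (τ : ℕ → Γ) (pt : ℕ → ℕ) (kt : ℕ) : Prop where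
  conj : ∀ g, ∀ p < N, τ (φ g p) = g * τ p * g⁻¹
  inj : ∀ p < N, ∀ q < N, τ p = τ q → p = q
  pt : ∀ j < kt, pt j < N ∧ τ (pt j) = y j

theorem comm_WW {g : Γ} {cs : List (List ℕ)} (h : ∀ w ∈ cs, Commute g (W y w)) (v : List ℕ) :
    Commute g (W (fun i => W y (nthL [] cs i)) v) :=
  mem_centralizer_singleton_iff.1 (W_mem (K := centralizer {g}) _ fun i _ => mem_centralizer_singleton_iff.2 (by
    rcases nthL_mem_or [] cs i with k | k
    · exact (h _ k).symm
    · simp [k])) |>.symm

theorem actWW (M : Mdl φ N k n y act B) (cs : List (List ℕ)) (v : List ℕ) {q : ℕ} (hq : q < N) :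
    actW (fun i => actW act (nthL [] cs i)) v q = φ (W (fun i => W y (nthL [] cs i)) v) q :=
  letI := actOf φ
  (actW_spec (M.hy.words cs) v (show PtN N q q from ⟨rfl, hq⟩)).1

theorem pass_map (M : Mdl φ N k n y act B) {g : Γ} {cs : List (List ℕ)} {ps : List ℕ} {ts : List (List ℕ × Bool)}
    (h : ∀ w ∈ cs, Commute g (W y w)) (h' : ∀ p ∈ ps, φ g p = p) {q : ℕ} (hq : q < N)
    (e : pass act cs ps ts q = true) : pass act cs ps ts (φ g q) = true := by
  simp only [pass, band_eq, Bool.and_eq_true, allL_iff, Bool.not_eq_true', ← Bool.not_eq_true, memL_iff] at e ⊢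
  refine ⟨fun t ht => ?_, fun k => e.2 ((φ g).injective (h' _ k) ▸ k)⟩
  have := e.1 t ht
  rwa [actWW M _ _ (M.lt g hq), ← Perm.mul_apply, ← map_mul, ← (comm_WW h _).eq, map_mul, Perm.mul_apply,
    ← actWW M _ _ hq, Bool.eq_iff_iff.2 ((nbeq.trans (φ g).injective.eq_iff).trans nbeq.symm)]

theorem card_le_ub (M : Mdl φ N k n y act B) {τ : ℕ → Γ} {pt : ℕ → ℕ} {kt : ℕ} (P : Pts φ N y τ pt kt)
    (ds : ℕ → List ℕ × ℕ) (lv : List (List ℕ × ℕ × List (List ℕ × Bool))) : ∀ cs ps (K : Subgroup Γ),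
    (∀ g ∈ K, ∀ w ∈ cs, Commute g (W y w)) → (∀ g ∈ K, ∀ p ∈ ps, φ g p = p) → ub N act B pt kt ds lv cs ps ≠ 0 →
      Nat.card K ≤ ub N act B pt kt ds lv cs ps := by
  letI := actOf φ
  induction lv with
  | nil =>
    intro cs ps K h1 h2 h
    change bif' _ 1 0 ≠ 0 at h
    change _ ≤ bif' _ 1 0
    rw [bif'_eq] at h ⊢
    split_ifs at h ⊢ with t
    · refine le_of_eq (card_eq_one.2 (eq_bot_iff.2 fun g hg => M.ext fun b hb _ => ?_))
      have := allL_iff.1 t b hb
      simp only [band_eq, Bool.and_eq_true, memL_iff, nblt, nbeq] at this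
      rw [← this.2.2, actWW M _ _ this.2.1, ← Perm.mul_apply, ← map_mul, (comm_WW (h1 g hg) _).eq, map_mul,
        Perm.mul_apply, h2 g hg _ this.1, map_one, Perm.one_apply]
    · exact absurd rfl h
  | cons s lv ih =>
    intro cs ps K h1 h2 h
    have e : ub N act B pt kt ds (s :: lv) cs ps = force (actW act s.1 (pt s.2.1)) fun p =>
      bif' (band (band (Nat.blt s.2.1 kt) (eqB act B (s.1.reverse ++ s.1) [])) (pass act cs ps s.2.2 p))
        (countLt N (pass act cs ps s.2.2) *
          ub N act B pt kt ds lv (cs ++ [s.1 ++ s.2.1 :: s.1.reverse]) (p :: ps)) 0 := rfl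
    rw [e, force_eq, bif'_eq] at h ⊢
    split_ifs at h ⊢ with t
    swap
    · exact absurd rfl h
    simp only [band_eq, Bool.and_eq_true, nblt] at t
    obtain ⟨a1, a2⟩ := P.pt _ t.1.1
    rw [← M.applyW _ a1] at t h ⊢
    have a3 := M.lt (W y s.1) a1
    rw [card_eq_ncard_orbit_mul K (φ (W y s.1) (pt s.2.1))]
    refine Nat.mul_le_mul ?_ (ih _ _ _ (fun g hg w hw => ?_) (fun g hg p hp => ?_) (right_ne_zero_of_mul h))
    · rw [countLt_eq, ← Set.ncard_coe_finset]
      refine Set.ncard_le_ncard ?_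
      rintro _ ⟨g, rfl⟩
      simpa using ⟨M.lt g a3, pass_map M (h1 g g.2) (h2 g g.2) a3 t.2⟩
    · rcases List.mem_append.1 hw with hw | hw
      · exact h1 g hg.1 w hw
      · have e := M.eq t.1.2
        rw [W_append, W_nil, mul_eq_one_iff_eq_inv] at e
        rw [List.mem_singleton.1 hw, W_append, W_cons, e, ← mul_assoc, ← a2, ← P.conj _ _ a1]
        exact mul_inv_eq_iff_eq_mul.1 (by rw [← P.conj _ _ a3]; exact congrArg τ hg.2)
    · rcases List.mem_cons.1 hp with rfl | hp
      exacts [hg.2, h2 g hg.1 p hp]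

end model

end Cfsg.Agent.Small
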