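import Cfsg.Agent.Known.Strong
import Cfsg.Agent.Known.NetTab

/-! Sz(8):3 as a permutation group `G` of degree 65 and order 87360 with a strong presentation (generated
certificate, tools of helper25): `nets`, `rels`, `up`, `card`, `rep`, `hg`, `lifts`. -/

set_option maxRecDepth 100000
set_option exponentiation.threshold 100000

namespace Cfsg.Agent.Small.Sz83P

open Cfsg.Agent.Spor Cfsg.Agent.Known Equiv

noncomputable def n0 : Net :=
  Net.cons 1 (nat_lit 0x55554010414011) <|
  Net.cons 2 (nat_lit 0x3210032112221001) <|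
  Net.cons 4 (nat_lit 0x8000a0903010100) <|
  Net.cons 8 (nat_lit 0x1c009a00a80000) <|
  Net.cons 16 (nat_lit 0x60c200000001) <|
  Net.cons 32 (nat_lit 0x1) <|
  Net.cons 64 (nat_lit 0x1) <|
  Net.cons 32 (nat_lit 0x5c0725d9) <|
  Net.cons 16 (nat_lit 0x7f5f0000339c) <|
  Net.cons 8 (nat_lit 0x2d008300460025) <|
  Net.cons 4 (nat_lit 0xf07020c090e0708) <|
  Net.cons 2 (nat_lit 0x202033132030131) <|
  Net.cons 1 (nat_lit 0x1444155411114551) <|
  Net.nil

noncomputable def n1 : Net :=
  Net.cons 1 (nat_lit 0x1144054011114541) <|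
  Net.cons 2 (nat_lit 0x332302101321210) <|
  Net.cons 4 (nat_lit 0x30a04090b0d0000) <|
  Net.cons 8 (nat_lit 0xd5004900b40001) <|
  Net.cons 16 (nat_lit 0xab6100000000) <|
  Net.cons 32 (nat_lit 0x1) <|
  Net.cons 64 (nat_lit 0x1) <|
  Net.cons 32 (nat_lit 0xfec11521) <|
  Net.cons 16 (nat_lit 0x74a2000074dc) <|
  Net.cons 8 (nat_lit 0x86008a004f002d) <|
  Net.cons 4 (nat_lit 0x90404050c01010d) <|
  Net.cons 2 (nat_lit 0x303302103100320) <|
  Net.cons 1 (nat_lit 0x1145554411454011) <|
  Net.nil

noncomputable def n2 : Net :=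
  Net.cons 1 (nat_lit 0x51151104115415) <|
  Net.cons 2 (nat_lit 0x313121110000220) <|
  Net.cons 4 (nat_lit 0x1020408040b0000) <|
  Net.cons 8 (nat_lit 0x88002000630000) <|
  Net.cons 16 (nat_lit 0x220200000001) <|
  Net.cons 64 (nat_lit 0x1) <|
  Net.cons 32 (nat_lit 0x51836675) <|
  Net.cons 16 (nat_lit 0x126e0000b61d) <|
  Net.cons 8 (nat_lit 0x5a00a10016002d) <|
  Net.cons 4 (nat_lit 0x4080909060c0e01) <|
  Net.cons 2 (nat_lit 0x201032331321301) <|
  Net.cons 1 (nat_lit 0x4544155501111515) <|
  Net.nil

noncomputable def n3 : Net :=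
  Net.cons 1 (nat_lit 0x4544115501111401) <|
  Net.cons 2 (nat_lit 0x2002000112301100) <|
  Net.cons 4 (nat_lit 0xf09010a070b0501) <|
  Net.cons 8 (nat_lit 0xae006700f80001) <|
  Net.cons 16 (nat_lit 0x38800000000) <|
  Net.cons 32 (nat_lit 0x1) <|
  Net.cons 64 (nat_lit 0x1) <|
  Net.cons 32 (nat_lit 0xf5d81a40) <|
  Net.cons 16 (nat_lit 0x55a10000ef19) <|
  Net.cons 8 (nat_lit 0x5d001500b7006d) <|
  Net.cons 4 (nat_lit 0x80309090a000b01) <|
  Net.cons 2 (nat_lit 0x3133323302022121) <|
  Net.cons 1 (nat_lit 0x51111144105515) <|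
  Net.nil

noncomputable def n4 : Net :=
  Net.cons 1 (nat_lit 0x4040000404111155) <|
  Net.cons 2 (nat_lit 0x200002010320100) <|
  Net.cons 4 (nat_lit 0xd0d030e010b0a01) <|
  Net.cons 8 (nat_lit 0x86001200000001) <|
  Net.cons 16 (nat_lit 0xa9000000001) <|
  Net.cons 64 (nat_lit 0x1) <|
  Net.cons 32 (nat_lit 0xe3920c4c) <|
  Net.cons 16 (nat_lit 0xac930000f751) <|
  Net.cons 8 (nat_lit 0x84000d00460070) <|
  Net.cons 4 (nat_lit 0x70f0b0309040f04) <|
  Net.cons 2 (nat_lit 0x2232230132233200) <|
  Net.cons 1 (nat_lit 0x5450511115544005) <|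
  Net.nil

noncomputable def n5 : Net :=
  Net.cons 1 (nat_lit 0x5451111115544005) <|
  Net.cons 2 (nat_lit 0x11212310013200) <|
  Net.cons 4 (nat_lit 0xb08080905000300) <|
  Net.cons 8 (nat_lit 0x6c001c004c0000) <|
  Net.cons 16 (nat_lit 0x10000000001) <|
  Net.cons 64 (nat_lit 0x1) <|
  Net.cons 32 (nat_lit 0x402c9b6c) <|
  Net.cons 16 (nat_lit 0xcd340000df31) <|
  Net.cons 8 (nat_lit 0x6c0003001c0021) <|
  Net.cons 4 (nat_lit 0x1040d0b070f0c01) <|
  Net.cons 2 (nat_lit 0x21222232102300) <|
  Net.cons 1 (nat_lit 0x4041400404111155) <|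
  Net.nil

noncomputable def n6 : Net :=
  Net.cons 1 (nat_lit 0x4045410454550044) <|
  Net.cons 2 (nat_lit 0x231303001011200) <|
  Net.cons 4 (nat_lit 0x908020809090001) <|
  Net.cons 8 (nat_lit 0x27003c00ec0000) <|
  Net.cons 16 (nat_lit 0x40c00000001) <|
  Net.cons 64 (nat_lit 0x1) <|
  Net.cons 32 (nat_lit 0xf2051508) <|
  Net.cons 16 (nat_lit 0xdbf0000c43b) <|
  Net.cons 8 (nat_lit 0xea001f00460089) <|
  Net.cons 4 (nat_lit 0x706000603070e0f) <|
  Net.cons 2 (nat_lit 0x3231303211011300) <|
  Net.cons 1 (nat_lit 0x4045510454550044) <|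
  Net.nil

noncomputable def nets : List Net := [n0, n1, n2, n3, n4, n5, n6]

theorem ok : netsOk 65 nets = true := by decide +kernel

def rels : List (List ℕ) := [[0,1],[1,0],[0,0,0],[2,3],[3,2],[0,2,1,3,3],[4,5],[5,4],[4,4,4],[0,2,5,1,3,4],[0,5,2,2,4,3,5,2,2,5],[6,6],[0,
  2,2,6,2,0,4,2,6,4],[0,2,4,6,1,3,6,5,6],[0,4,3,6,2,5,3,6,4,3]]

theorem plhP_7 : ∀ p < 7, chkPl nets 65 7 rels p = true :=
  forall_lt_add (a := 0) (b := 7) (fun _ h => absurd h (Nat.not_lt_zero _)) (by decide +kernel)

theorem hP : ∀ r ∈ rels, ev (PP nets) r = 1 := ev_eq_one_of_planes ok (by decide) plhP_7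

noncomputable def K0_0 : ℕ := (joinL 65 [(nat_lit 0x0),
  (nat_lit 0x40000000010000),
  (nat_lit 0x0),
  (nat_lit 0x0),
  (nat_lit 0x0),
  (nat_lit 0x0),
  (nat_lit 0x0)])

theorem df0 : chkDef nets 65 40 rels (ivl 0 455) (nat_lit 0x0) 2 K0_0 = true := by
  decide +kernel

noncomputable def K0_1 : ℕ := (joinL 65 [(nat_lit 0x40010000010000),
  (nat_lit 0x40010000010000),
  (nat_lit 0x0),
  (nat_lit 0x0),
  (nat_lit 0x0),
  (nat_lit 0x0),
  (nat_lit 0x0)])

theorem dd0_0 : chkDed nets 65 40 rels (letS []) (nat_lit 0x8020000100400000002) 3 K0_0 K0_1 = true := by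
  decide +kernel

theorem en0 : chkEnd nets 65 7 40 rels [0,1] (nat_lit 0x40010000010000) 3 K0_1 = true := by decide +kernel

theorem up0 {H : Type*} [Group H] {g : ℕ → H} (hg : ∀ r ∈ rels, ev g r = 1) : CardLe (genL g [0,1]) 3 :=
  CardLe.lev ok hg (ded_let ok (by decide) hg hP dd0_0 (defPhase_sound _ ok hg hP df0))
    en0 (cardLe_nil g)

noncomputable def K1_0 : ℕ := (joinL 65 [(nat_lit 0x0),
  (nat_lit 0x10400000000000),
  (nat_lit 0x0),
  (nat_lit 0x400000020808000),
  (nat_lit 0x0),
  (nat_lit 0x0),
  (nat_lit 0x0)])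

theorem df1 : chkDef nets 65 14 rels (ivl 0 455) (nat_lit 0x300000003000000030000000000000003) 5 K1_0 = true := by
  decide +kernel

noncomputable def K1_1 : ℕ := (joinL 65 [(nat_lit 0x41040002080c000),
  (nat_lit 0x41040002080c000),
  (nat_lit 0x41040002080c000),
  (nat_lit 0x41040002080c000),
  (nat_lit 0x0),
  (nat_lit 0x0),
  (nat_lit 0x0)])

theorem dd1_0 : chkDed nets 65 14 rels (letS [0,1]) (nat_lit 0x10000000300000808000008020000100a0000080a000000080000080200001004000000020000100a000008020000180a00000808000010040000100a0000200a00000808) 18 K1_0 K1_1 = true := by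
  decide +kernel

theorem en1 : chkEnd nets 65 7 14 rels [0,1,2,3] (nat_lit 0x41040002080c000) 7 K1_1 = true := by decide +kernel

theorem up1 {H : Type*} [Group H] {g : ℕ → H} (hg : ∀ r ∈ rels, ev g r = 1) : CardLe (genL g [0,1,2,3]) 21 :=
  CardLe.lev ok hg (ded_let ok (by decide) hg hP dd1_0 (defPhase_sound _ ok hg hP df1))
    en1 (up0 hg)

noncomputable def K2_0 : ℕ := (joinL 65 [(nat_lit 0x0),
  (nat_lit 0x188b0128670532000),
  (nat_lit 0x0),
  (nat_lit 0x650f61698f24dfd6),
  (nat_lit 0x0),
  (nat_lit 0x1240881000880028),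
  (nat_lit 0x0)])

theorem df2 : chkDef nets 65 42 rels (ivl 0 455) (nat_lit 0x600000003000000060000000000000003000000060000000300000000000000030000000300000000) 11 K2_0 = true := by
  decide +kernel

noncomputable def K2_1 : ℕ := (joinL 65 [(nat_lit 0x1fffffffffffffffe),
  (nat_lit 0x1fffffffffffffffe),
  (nat_lit 0x1fffffffffffffffe),
  (nat_lit 0x1fffffffffffffffe),
  (nat_lit 0x1fffffffffffffffe),
  (nat_lit 0x1fffffffffffffffe),
  (nat_lit 0x0)])

theorem dd2_0 : chkDed nets 65 42 rels (letS [0,1,2,3]) (joinL 4096 [nat_lit 0x100a00001010000010040000080a000008020000000e0000000200000008000010120000100400001812000008120000080e00000008000008020000000200001010000010040000180a0000100a0000000e000008020000080800000002000010040000200a0000180a000010120000081200000808000000020000080e000000080000100a0000080a000010120000080e00000008000008020000100a00001004000008020000000200000812000000080000100a000008020000180a00000808000008120000100400000008000000020000080a00003014000020140000180a0000100a000010120000080e000000080000000e0000080800002812000008020000000e000010100000100a000008020000000e000010040000180a0000100a0000281200001012000008120000000e00000808000008020000080e00001010000000080000000e000008140000080e000010100000281200001812000010120000180a0000100a000048140000401400002014000018140000000e00000802000010100000080e000000080000000e00001004000010120000101000002812000020140000000e00000002000010100000000e0000180a00000812000000120000080800000008000000020000100a00000802000028120000101200001010000010040000000e0000200a000018140000100a0000281200001012,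
    nat_lit 0x100000003000000050000000700000808000008020000080e]) 135 K2_0 K2_1 = true := by
  decide +kernel

theorem en2 : chkEnd nets 65 7 42 rels [0,1,2,3,4,5] (nat_lit 0x1fffffffffffffffe) 64 K2_1 = true := by decide +kernel

theorem up2 {H : Type*} [Group H] {g : ℕ → H} (hg : ∀ r ∈ rels, ev g r = 1) : CardLe (genL g [0,1,2,3,4,5]) 1344 :=
  CardLe.lev ok hg (ded_let ok (by decide) hg hP dd2_0 (defPhase_sound _ ok hg hP df2))
    en2 (up1 hg)

noncomputable def K3_0 : ℕ := (joinL 65 [(nat_lit 0x0),
  (nat_lit 0x2482380a3c012160),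
  (nat_lit 0x0),
  (nat_lit 0x80350054c014cc02),
  (nat_lit 0x0),
  (nat_lit 0x10840402103601094),
  (nat_lit 0x53088780008a0208)])

theorem df3 : chkDef nets 65 0 rels (ivl 0 455) (nat_lit 0xb0000000300000000000000030000000600000000000000060000000b000000030000000000000003) 11 K3_0 = true := by
  decide +kernel

noncomputable def K3_1 : ℕ := (joinL 65 [(nat_lit 0x1ffffffffffffffff),
  (nat_lit 0x1ffffffffffffffff),
  (nat_lit 0x1ffffffffffffffff),
  (nat_lit 0x1ffffffffffffffff),
  (nat_lit 0x1ffffffffffffffff),
  (nat_lit 0x1ffffffffffffffff),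
  (nat_lit 0x1ffffffffffffffff)])

theorem dd3_0 : chkDed nets 65 0 rels (letS [0,1,2,3,4,5]) (joinL 4096 [nat_lit 0x80e000000120000000200001010000010040000000e00000002000010120000080e00002814000048180000301c000008080000000e000010100000000e0000080a00001012000000120000080e0000000800000002000010100000100a00002012000018120000001a000020140000401c0000301c0000101c0000000e000008080000080200000002000010040000080a00000008000000020000180a000008080000000a0000381a000020140000100a00001812000000120000201a0000481400000814000038180000301c0000201c0000080e00000802000000020000000e000000080000000a00000002000010040000101000001812000018180000080200000002000008160000000e0000080a0000301a00002812000010120000080e00000008000008160000000e0000180a0000100400000808000000020000381a000048140000301400004818000028180000181c000008120000401a0000181a0000001a0000281400000014000038180000381c0000080e000000020000000800001004000008160000000e000000020000101000000812000000080000000e0000000a0000200a0000080a00002812000030140000181c0000381c000000020000000e000008160000080e00000808000000080000180a000010100000381a0000181a000008120000080e00002814000000140000381800000002,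
    nat_lit 0x1000000030000000500000007000000090000000b0000080200000808000008160000080e00001010000010040000000e000000020000180a0000100a00000812000038180000281c000000080000080e0000080800000802000010040000080a00002812000010120000481c0000080e0000000e000008080000000800000002000010100000000e0000180a00002012000018120000181a00001814000008080000081600000008000008020000100a000008120000301a0000281c000008160000080e00000008000008020000001a00000002000010040000200a00000808000000020000180a00000808000028120000000e000010100000000e00000812000000080000200a000008080000000a0000100a0000101c0000081c0000000e000008080000000200001012]) 204 K3_0 K3_1 = true := by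
  decide +kernel

theorem en3 : chkEnd nets 65 7 0 rels (List.range 7) (nat_lit 0x1ffffffffffffffff) 65 K3_1 = true := by decide +kernel

theorem up {H : Type*} [Group H] {g : ℕ → H} (hg : ∀ r ∈ rels, ev g r = 1) : CardLe (genL g (List.range 7)) 87360 :=
  CardLe.lev ok hg (ded_let ok (by decide) hg hP dd3_0 (defPhase_sound _ ok hg hP df3))
    en3 (up2 hg)

theorem lo0 : CardGe (genL (PP nets) [0,1]) 3 :=
  CardGe.stepL (L := 7) (b := 40) (n := 3) (ys := []) (prog := [1,1]) ok (cardGe_one _)
    (genL_mono _ (by decide)) (by decide +kernel) (by decide +kernel)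

theorem lo1 : CardGe (genL (PP nets) [0,1,2,3]) 21 :=
  CardGe.stepL (L := 7) (b := 14) (n := 7) (ys := [0,1]) (prog := [3,3,3,1,3]) ok (lo0)
    (genL_mono _ (by decide)) (by decide +kernel) (by decide +kernel)

theorem lo2 : CardGe (genL (PP nets) [0,1,2,3,4,5]) 1344 :=
  CardGe.stepL (L := 7) (b := 42) (n := 64) (ys := [0,1,2,3]) (prog := [5,5,3,5,1,5,3,1,5,3,5,5]) ok (lo1)
    (genL_mono _ (by decide)) (by decide +kernel) (by decide +kernel)

theorem lo3 : CardGe (genL (PP nets) (List.range 7)) 87360 :=
  CardGe.stepL (L := 7) (b := 0) (n := 65) (ys := [0,1,2,3,4,5]) (prog := [6,5,3,1,5,6,1,5,3]) ok (lo2)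
    (genL_mono _ (by decide)) (by decide +kernel) (by decide +kernel)

/-- the group. -/
abbrev G : Type := PG nets 7

theorem lo : CardGe (PG nets 7) 87360 := lo3

theorem card : Nat.card G = 87360 := PG.card (up hP) lo

noncomputable abbrev g : ℕ → G := PG.g nets 7

noncomputable abbrev φ : G →* Perm ℕ := (PG nets 7).subtype

theorem rep : PermRep g nets 65 7 φ := PG.rep ok

theorem hl : chkLet (List.range 7) rels = true := by decide +kernel

theorem hg : ∀ r ∈ rels, ev g r = 1 := PG.hg ok hl hP

theorem lifts : Lifts g 7 rels := PG.lifts ok hl hP (by decide) card fun _ _ _ h => up h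

end Cfsg.Agent.Small.Sz83P
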