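import Cfsg.Agent.Known.Bridge
import Cfsg.Agent.Small.Sz83P
import Cfsg.Agent.Small.PSp63
import Cfsg.Agent.Comp.PG

/-! Pointwise tables and a base for `Sz83P.G` in degree 65 (generated certificate): letters `y`,
action `act`, `hy`, `base`, `mdl`; element orders of Sz(8):3 (`no`). -/

set_option maxRecDepth 100000
set_option exponentiation.threshold 100000

namespace Cfsg.Agent.Small.Sz83T

open Cfsg.Agent.Comp Cfsg.Agent.Known Cfsg.Agent.FG

noncomputable def t0 : ℕ := (nat_lit 0x24068202178d1ca214a180f0c352850e74c1304a8d107c9893d708dda77eacbb258044155ccd68936c57b67438e146e2c6042259a993e79480)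

theorem h0 : TabOf 65 7 t0 (Spor.ev (Spor.PP Sz83P.nets) [0])⁻¹ :=
  tabOf_of_chk (L := 7) Sz83P.ok _ (by decide +kernel)

noncomputable def t1 : ℕ := (nat_lit 0x3d3e9d23b423dca316402ba2c70935225ca9b3ca80b640998c044e1e3e060970d26a422d3a18c0c58943a8683990914dca195ecd8087eacd00)

theorem h1 : TabOf 65 7 t1 (Spor.ev (Spor.PP Sz83P.nets) [1])⁻¹ :=
  tabOf_of_chk (L := 7) Sz83P.ok _ (by decide +kernel)

noncomputable def t2 : ℕ := (nat_lit 0x1870d92370cd0aa72cc03ae024c503503e0333ca85a36a314b90a658af409872134f1f3d3a35682766d13f2ee891464b159f08944102224e00)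

theorem h2 : TabOf 65 7 t2 (Spor.ev (Spor.PP Sz83P.nets) [2])⁻¹ :=
  tabOf_of_chk (L := 7) Sz83P.ok _ (by decide +kernel)

noncomputable def t3 : ℕ := (nat_lit 0x2d2064c1a263923f78f93ba582d0b640d0a8a12a92af707833d5044e1f10acb81246d1401eddc8c64341845c74b2652c41056aed1876051980)

theorem h3 : TabOf 65 7 t3 (Spor.ev (Spor.PP Sz83P.nets) [3])⁻¹ :=
  tabOf_of_chk (L := 7) Sz83P.ok _ (by decide +kernel)

noncomputable def t4 : ℕ := (nat_lit 0x167e64f3938a47b840b44b66ac97b05cc5a023a9019f201d6175645ba1101519a24ec68b544c0a28030a0e789df1b08559a80c99e987494500)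

theorem h4 : TabOf 65 7 t4 (Spor.ev (Spor.PP Sz83P.nets) [4])⁻¹ :=
  tabOf_of_chk (L := 7) Sz83P.ok _ (by decide +kernel)

noncomputable def t5 : ℕ := (nat_lit 0x137e3428f340de3842d19ad12c973062bdb25465dd081c1812a3a5103750f55bb1871f0449005112c6d1277240c923005a9f4c1cf0b52b0a80)

theorem h5 : TabOf 65 7 t5 (Spor.ev (Spor.PP Sz83P.nets) [5])⁻¹ :=
  tabOf_of_chk (L := 7) Sz83P.ok _ (by decide +kernel)

noncomputable def t6 : ℕ := (nat_lit 0x15108510a50d011b5e6493a4094b946e9d62d566023b5c3992348f5f333a3cf817059b2a626a03000d46053c985911af033f06248290ee4e13)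

theorem h6 : TabOf 65 7 t6 (Spor.ev (Spor.PP Sz83P.nets) [6])⁻¹ :=
  tabOf_of_chk (L := 7) Sz83P.ok _ (by decide +kernel)

noncomputable def tabs : List ℕ := [t0, t1, t2, t3, t4, t5, t6]

def wds : List (List ℕ) := [[0],[1],[2],[3],[4],[5],[6]]

noncomputable scoped instance inst : MulAction Sz83P.G ℕ := actOf Sz83P.φ

scoped instance fin : Finite Sz83P.G := Nat.finite_of_card_ne_zero (by rw [Sz83P.card]; decide)

noncomputable def y (i : ℕ) : Sz83P.G := (Spor.ev Sz83P.g (nthL [0] wds i))⁻¹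

noncomputable def act (i : ℕ) : ℕ → ℕ := get2 7 (nthL t0 tabs i)

theorem hy : ActBy y (PtN 65) act :=
  actBy_tabs Sz83P.rep (.cons h0 (.cons h0 (.cons h1 (.cons h2 (.cons h3 (.cons h4 (.cons h5 (.cons h6 (.nil))))))))) (by decide +kernel)

theorem f0 : FixLe Sz83P.G (PtN 65) [0] 65 :=
  FixLe.nil.stepW (isCanon_PtN _) hy 0 65 [[6],[4]] 65 ⟨_, rfl, by decide⟩ (by decide +kernel)

theorem f1 : FixLe Sz83P.G (PtN 65) [42,0] 4160 :=
  f0.stepW (isCanon_PtN _) hy 42 64 [[4],[3]] 65 ⟨_, rfl, by decide⟩ (by decide +kernel)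

theorem f2 : FixLe Sz83P.G (PtN 65) [14,42,0] 29120 :=
  f1.stepW (isCanon_PtN _) hy 14 7 [[3]] 65 ⟨_, rfl, by decide⟩ (by decide +kernel)

theorem f3 : FixLe Sz83P.G (PtN 65) [40,14,42,0] 87360 :=
  f2.stepW (isCanon_PtN _) hy 40 3 [[1]] 65 ⟨_, rfl, by decide⟩ (by decide +kernel)

theorem base : IsBase Sz83P.G (PtN 65) [40,14,42,0] := f3.isBase Sz83P.card le_rfl

theorem mdl : Mdl Sz83P.φ 65 7 87360 y act [40,14,42,0] :=
  mdl_of_tabs Sz83P.rep hy base (by decide) Sz83P.card (by decide)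

theorem par : Par (64 + 1) 7 127 := ⟨by decide, by decide⟩

theorem o7 : orderOf (W y [0,3,5,0,4,6,1,4]) = 7 := orderOf_W mdl par _ (by decide) (by decide +kernel)
theorem o13 : orderOf (W y [6,4,1,4,3]) = 13 := orderOf_W mdl par _ (by decide) (by decide +kernel)

theorem c7 : Nat.card (Subgroup.centralizer {W y [0,3,5,0,4,6,1,4]}) ≤ 65 :=
  letI := mdl.mact
  card_cent_le mdl (A := idA) (fun _ => gmap_idA) _ 7 40 (List.replicate 6 (0,2,0,2,0)) [] (by decide) (by decide +kernel)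

theorem c13 : Nat.card (Subgroup.centralizer {W y [6,4,1,4,3]}) ≤ 65 :=
  letI := mdl.mact
  card_cent_le mdl (A := idA) (fun _ => gmap_idA) _ 13 40 (List.replicate 12 (0,2,0,2,0)) [] (by decide) (by decide +kernel)

theorem conj_pows {G : Type*} [Group G] {x n : G} {a p : ℕ} (hx : orderOf x = p) (h : n * x = x ^ a * n)
    (h1 : ∀ k < p, 0 < k → ∃ j < p, a ^ j % p = k) (k : ℕ) (h0 : 0 < k) (hk : k < p) : ∃ g, g * x * g⁻¹ = x ^ k := by
  obtain ⟨j, -, rfl⟩ := h1 k hk h0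
  refine ⟨n ^ j, ?_⟩
  rw [← hx, pow_mod_orderOf]
  clear h0 hk
  induction j with
  | zero => simp
  | succ j ih =>
    rw [pow_succ, pow_succ', pow_mul, mul_inv_rev, show n ^ j * n * x * (n⁻¹ * (n ^ j)⁻¹) =
      n ^ j * (n * x * n⁻¹) * (n ^ j)⁻¹ by group, h, mul_inv_cancel_right, ← conj_pow, ih, ← pow_mul, ← pow_mul, mul_comm]

theorem n7 : W y [2,5,3,3,5] * W y [0,3,5,0,4,6,1,4] = W y [0,3,5,0,4,6,1,4] ^ 3 * W y [2,5,3,3,5] := by
  rw [pow_succ, sq, ← W_append, ← W_append, ← W_append, ← W_append]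
  exact mdl.eq (by decide +kernel)

theorem n13 : W y [1,5,6,1,5,1,4] * W y [6,4,1,4,3] = W y [6,4,1,4,3] ^ 2 * W y [1,5,6,1,5,1,4] := by
  rw [sq, ← W_append, ← W_append, ← W_append]
  exact mdl.eq (by decide +kernel)

theorem no : 21 ∉ Spec Sz83P.G ∧ 39 ∉ Spec Sz83P.G ∧ 35 ∉ Spec Sz83P.G ∧ 65 ∉ Spec Sz83P.G ∧
    91 ∉ Spec Sz83P.G ∧ 26 ∉ Spec Sz83P.G := by
  have p13 : Nat.Prime 13 := by norm_num
  obtain ⟨a, ha, ha'⟩ := PSp63.card_eq_of_conj Nat.prime_seven (by rw [Sz83P.card]; decide) o7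
    (conj_pows o7 n7 (by decide))
  obtain ⟨b, hb, hb'⟩ := PSp63.card_eq_of_conj p13 (by rw [Sz83P.card]; decide) o13 (conj_pows o13 n13 (by decide))
  have h7 := @dvd_card_centralizer _ _ _ _ _ Nat.prime_seven Sz83P.card (by decide) _ o7
  have h13 := @dvd_card_centralizer _ _ _ _ _ p13 Sz83P.card (by decide) _ o13
  have k7 := c7
  have k13 := c13
  rw [Sz83P.card] at ha' hb'
  generalize Nat.card (Subgroup.centralizer {W y [0,3,5,0,4,6,1,4]}) = c at ha' h7 k7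
  generalize Nat.card (Subgroup.centralizer {W y [6,4,1,4,3]}) = d at hb' h13 k13
  refine ⟨fun h => ?_, fun h => ?_, fun h => ?_, fun h => ?_, fun h => ?_, fun h => ?_⟩
  on_goal 1 => obtain ⟨t, rfl⟩ := h7 h (by decide)
  on_goal 2 => obtain ⟨t, rfl⟩ := h13 h (by decide)
  on_goal 3 => obtain ⟨t, rfl⟩ := h7 h (by decide)
  on_goal 4 => obtain ⟨t, rfl⟩ := h13 h (by decide)
  on_goal 5 => obtain ⟨t, rfl⟩ := h13 h (by decide)
  on_goal 6 => obtain ⟨t, rfl⟩ := h13 h (by decide)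
  all_goals
    have : t ≤ 3 := by omega
    interval_cases t <;> omega

end Cfsg.Agent.Small.Sz83T
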