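import Cfsg.Agent.Known.SchurModel
import Cfsg.Agent.Comp.Class
import Cfsg.Agent.Comp.F2
import Cfsg.Agent.BG.S12Aux

/-! Tail calculus for extensions `π : E →* G` with an elementary abelian 2-group as kernel (certificates for
`H²`). `Tl.Fr N Λ ok fin fs`: the kernel `N` is coordinatised by the functionals `Λ · f` (`f ∈ fs`, masks `< 2^24`);
`Tl.run` (rewriting with tails), `Tl.chk` (identities between relations, linear certificates), `Tl.goals`,
`Tl.gauge` (change of lifts), `Tl.split` (a complement, by Gaschütz). -/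

set_option autoImplicit false

namespace Cfsg.Agent.Small.Tl

open Cfsg.Agent.Comp Cfsg.Agent.Known Subgroup

/-- additive for `xor`. -/
def Add2 (f : ℕ → ZMod 2) : Prop := ∀ a b, f (a ^^^ b) = f a + f b

theorem Add2.zero {f : ℕ → ZMod 2} (h : Add2 f) : f 0 = 0 := by
  have := h 0 0
  rw [Nat.xor_self] at this
  exact this.trans (CharTwo.add_self_eq_zero _)

theorem Add2.lin {f : ℕ → ZMod 2} (h : Add2 f) {rows : List ℕ} (hr : ∀ r ∈ rows, f r = 0) (a : ℕ) :
    f (lin rows a) = 0 :=
  lin_induction (p := fun s => f s = 0) h.zero (fun a b ha hb => by rw [h, ha, hb, add_zero]) rows hr a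

/-- the value of a mask made of blocks of 24 bits. -/
def val (μ : ℕ → ℕ → ZMod 2) (s : ℕ) : ZMod 2 := ∑ k ∈ Finset.range 128, μ k (get 24 16777215 s k)

section val
variable {μ μ' : ℕ → ℕ → ZMod 2}

theorem val_add (h : ∀ k, Add2 (μ k)) : Add2 (val μ) := fun a b => by
  simp only [val, get_xor, ← Finset.sum_add_distrib]
  exact Finset.sum_congr rfl fun k _ => h k _ _

theorem val_shift (h : ∀ k, Add2 (μ k)) {m k : ℕ} (hm : m < 2 ^ 24) (hk : k < 128) :
    val μ (m <<< (24 * k)) = μ k m := by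
  rw [val, Finset.sum_eq_single_of_mem k (Finset.mem_range.2 hk)]
  · rw [get_shiftLeft (by norm_num) hm, if_pos rfl]
  · intro j _ hj
    rw [get_shiftLeft (by norm_num) hm, if_neg (by omega), (h j).zero]

theorem get_of_lt {s K k : ℕ} (hs : s < 2 ^ (24 * K)) (hk : K ≤ k) : get 24 16777215 s k = 0 := by
  rw [get_eq, Nat.shiftRight_eq_div_pow,
    Nat.div_eq_of_lt (hs.trans_le (Nat.pow_le_pow_right (by norm_num) (by omega))), Nat.zero_and]

theorem val_congr (h : ∀ k, Add2 (μ k)) (h' : ∀ k, Add2 (μ' k)) {s K : ℕ} (hs : s < 2 ^ (24 * K))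
    (e : ∀ k < K, μ k = μ' k) : val μ s = val μ' s :=
  Finset.sum_congr rfl fun k _ => by
    by_cases hk : k < K
    · rw [e k hk]
    · rw [get_of_lt hs (not_lt.1 hk), (h k).zero, (h' k).zero]

end val

variable {E : Type*} [Group E]

/-- coordinates on the normal subgroup `N`. -/
structure Fr (N : Subgroup E) (Λ : E → ℕ → ZMod 2) (ok : ℕ → Prop) (fin : ℕ → ℕ) (fs : List ℕ) : Prop where
  normal : N.Normal
  add : ∀ n, Add2 (Λ n)
  mul : ∀ n ∈ N, ∀ n' ∈ N, ∀ m, ok m → Λ (n * n') m = Λ n m + Λ n' m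
  fin : ∀ m, ok m → fin m < 2 ^ 24 ∧ ∀ n ∈ N, Λ n (fin m) = Λ n m
  okf : ∀ f ∈ fs, ok f ∧ f < 2 ^ 24
  inj : ∀ n ∈ N, (∀ f ∈ fs, Λ n f = 0) → n = 1
  dual : ∀ a < fs.length, ∃ n ∈ N, ∀ b < fs.length, Λ n (nthL 0 fs b) = if b = a then 1 else 0

/-- conjugation by `h` acts on masks by `im`. -/
def Cj (N : Subgroup E) (Λ : E → ℕ → ZMod 2) (ok : ℕ → Prop) (h : E) (im : ℕ → ℕ) : Prop :=
  ∀ m, ok m → ok (im m) ∧ ∀ n ∈ N, Λ (h⁻¹ * n * h) m = Λ n (im m)

/-- the tail of a relation. -/
def tl (x : ℕ → E) (rels : List (List ℕ × List ℕ)) (k : ℕ) : E :=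
  (W x (nthL ([], []) rels k).2)⁻¹ * W x (nthL ([], []) rels k).1

/-- add the tail number `k` moved across the suffix. -/
def upd (im : ℕ → ℕ → ℕ) (fin : ℕ → ℕ) (suf : List ℕ) (k : ℕ) (fs : List ℕ) : List ℕ → List ℕ :=
  List.rec (motive := fun _ => List ℕ → List ℕ) (fun _ => [])
    (fun f _ ih acc => Nat.xor (Nat.shiftLeft (fin (actW im suf f)) (Nat.mul 24 k)) (acc.headD 0) :: ih acc.tail) fs

/-- the relation used by a step. -/
def side (rels : List (List ℕ × List ℕ)) (e : ℕ) : List ℕ × List ℕ :=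
  bif' (Nat.beq (Nat.mod e 2) 0) (nthL ([], []) rels (Nat.mod (Nat.div e 2) 128))
    (nthL ([], []) rels (Nat.mod (Nat.div e 2) 128)).swap

/-- rewriting. -/
def run (im : ℕ → ℕ → ℕ) (fin : ℕ → ℕ) (fs : List ℕ) (rels : List (List ℕ × List ℕ)) (v : List ℕ) (st : List ℕ) :
    List ℕ → List ℕ → Option (List ℕ) :=
  List.rec (motive := fun _ => List ℕ → List ℕ → Option (List ℕ)) (fun w acc => bif' (eqL w v) (some acc) none)
    (fun e _ ih w acc => forceL ((w.drop (Nat.div e 256)).drop (side rels e).1.length) fun suf =>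
      bif' (eqL (w.drop (Nat.div e 256)) ((side rels e).1 ++ suf))
        (forceL (w.take (Nat.div e 256) ++ ((side rels e).2 ++ suf)) fun w' =>
          forceL (upd im fin suf (Nat.mod (Nat.div e 2) 128) fs acc) fun acc' => ih w' acc') none) st

/-- the linear equations given by closed loops. -/
def eqs (im : ℕ → ℕ → ℕ) (fin : ℕ → ℕ) (fs : List ℕ) (rels : List (List ℕ × List ℕ))
    (ids : List (List ℕ × List ℕ)) : List ℕ :=
  List.rec (motive := fun _ => List ℕ) [] (fun e _ ih => (run im fin fs rels e.1 e.2 e.1 []).getD [] ++ ih) ids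

/-- `lin` with an accumulator. -/
def linF (rows : List ℕ) : ℕ → ℕ → ℕ :=
  List.rec (motive := fun _ => ℕ → ℕ → ℕ) (fun _ s => s)
    (fun r _ ih a s => Nat.rec (motive := fun _ => ℕ) s (fun n _ =>
      force (Nat.xor (Nat.mul r (Nat.land (Nat.succ n) 1)) s) fun s' => ih (Nat.shiftRight (Nat.succ n) 1) s') a) rows

theorem lin_zero (rows : List ℕ) : lin rows 0 = 0 := by
  have := lin_xor rows 0 0
  rwa [Nat.xor_self, Nat.xor_self] at this

theorem linF_eq (rows : List ℕ) : ∀ a s, linF rows a s = s ^^^ lin rows a := by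
  induction rows with
  | nil => intro a s; exact (Nat.xor_zero s).symm
  | cons r rows ih =>
    intro a s
    cases a with
    | zero => rw [lin_zero, Nat.xor_zero]; rfl
    | succ n =>
      show force _ (fun s' => linF rows ((n + 1) >>> 1) s') = s ^^^ ((r * ((n + 1) &&& 1)) ^^^ lin rows ((n + 1) >>> 1))
      rw [force_eq, ih, ← Nat.xor_assoc, Nat.xor_comm s]; rfl

/-- `lin`, salted against hash collisions in the kernel. -/
def linS (rows : List ℕ) (c : ℕ) : ℕ := force (Nat.mod c 1000000007) fun z => Nat.xor z (linF rows c z)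

theorem linS_eq (rows : List ℕ) (c : ℕ) : linS rows c = lin rows c := by
  rw [linS, force_eq, linF_eq]
  exact Nat.xor_xor_cancel_left _ _

/-- the check of the goals. -/
def chk (im : ℕ → ℕ → ℕ) (fin : ℕ → ℕ) (fs : List ℕ) (rels : List (List ℕ × List ℕ)) (Z : List ℕ)
    (ids : List (List ℕ × List ℕ)) (gs : List (List ℕ × List ℕ × List ℕ × List ℕ)) : Bool :=
  forceL (Z ++ eqs im fin fs rels ids) fun q => allL gs fun g =>
    (run im fin fs rels g.2.1 g.2.2.1 g.1 []).any fun acc => eqL acc (mapL (linS q) g.2.2.2)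

variable {N : Subgroup E} {Λ : E → ℕ → ZMod 2} {ok : ℕ → Prop} {fin : ℕ → ℕ} {fs : List ℕ}

namespace Fr
variable (F : Fr N Λ ok fin fs)
include F

theorem one {m : ℕ} (h : ok m) : Λ 1 m = 0 := by
  have := F.mul 1 N.one_mem 1 N.one_mem m h
  rw [one_mul] at this
  exact this.trans (CharTwo.add_self_eq_zero _)

theorem inv {n : E} (hn : n ∈ N) {m : ℕ} (h : ok m) : Λ n⁻¹ m = Λ n m := by
  have := F.mul n hn _ (N.inv_mem hn) m h
  rw [mul_inv_cancel, F.one h] at this
  rw [← CharTwo.add_eq_zero, add_comm, ← this]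

theorem sq {n : E} (hn : n ∈ N) : n * n = 1 :=
  F.inj _ (N.mul_mem hn hn) fun f hf => by rw [F.mul n hn n hn f (F.okf f hf).1, CharTwo.add_self_eq_zero]

theorem surj (v : ℕ → ZMod 2) : ∃ n ∈ N, ∀ b < fs.length, Λ n (nthL 0 fs b) = v b := by
  have hok : ∀ b < fs.length, ok (nthL 0 fs b) := fun b hb => by
    rw [nthL_eq, List.getD_eq_getElem _ _ hb]; exact (F.okf _ (List.getElem_mem hb)).1
  suffices H : ∀ j ≤ fs.length, ∃ n ∈ N, ∀ b < fs.length, Λ n (nthL 0 fs b) = if b < j then v b else 0 by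
    obtain ⟨n, hn, h⟩ := H _ le_rfl
    exact ⟨n, hn, fun b hb => by rw [h b hb, if_pos hb]⟩
  intro j hj
  induction j with
  | zero => exact ⟨1, N.one_mem, fun b hb => by rw [F.one (hok b hb), if_neg (by omega)]⟩
  | succ j ih =>
    obtain ⟨n, hn, h⟩ := ih (by omega)
    obtain ⟨n', hn', h'⟩ := F.dual j hj
    have : v j = 0 ∨ v j = 1 := by generalize v j = z; revert z; decide
    rcases this with e | e
    · refine ⟨n, hn, fun b hb => ?_⟩
      rw [h b hb]
      rcases lt_trichotomy b j with h1 | rfl | h1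
      · rw [if_pos h1, if_pos (by omega)]
      · rw [if_neg (by omega), if_pos (by omega), e]
      · rw [if_neg (by omega), if_neg (by omega)]
    · refine ⟨n * n', N.mul_mem hn hn', fun b hb => ?_⟩
      rw [F.mul n hn n' hn' _ (hok b hb), h b hb, h' b hb]
      rcases lt_trichotomy b j with h1 | rfl | h1
      · rw [if_pos h1, if_neg (by omega), if_pos (by omega), add_zero]
      · rw [if_neg (by omega), if_pos rfl, if_pos (by omega), e, zero_add]
      · rw [if_neg (by omega), if_neg (by omega), if_neg (by omega), add_zero]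

variable {x : ℕ → E} {im : ℕ → ℕ → ℕ} {rels : List (List ℕ × List ℕ)}

theorem cjW (hc : ∀ i, Cj N Λ ok (x i) (im i)) (v : List ℕ) : Cj N Λ ok (W x v) (actW im v) := by
  induction v with
  | nil => intro m hm; exact ⟨hm, fun n _ => by simp [actW]⟩
  | cons a v ih =>
    intro m hm
    have e : actW im (a :: v) m = force (actW im v m) (im a) := rfl
    rw [e, force_eq]
    obtain ⟨h1, h2⟩ := ih m hm
    refine ⟨(hc a _ h1).1, fun n hn => ?_⟩
    rw [← (hc a _ h1).2 n hn, ← h2 _ (F.normal.conj_mem' n hn _), W_cons]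
    congr 1; group

end Fr

/-- the rows `acc` give the coordinates of `n`. -/
def RepL (Λ : E → ℕ → ZMod 2) (μ : ℕ → ℕ → ZMod 2) (n : E) (fs : List ℕ) : List ℕ → Prop :=
  List.rec (motive := fun _ => List ℕ → Prop) (fun _ => True)
    (fun f _ ih acc => Λ n f = val μ (acc.headD 0) ∧ ih acc.tail) fs

theorem upd_len (im : ℕ → ℕ → ℕ) (suf : List ℕ) (k : ℕ) : ∀ gs acc, (upd im fin suf k gs acc).length = gs.length := by
  intro gs
  induction gs with
  | nil => intro _; rfl
  | cons f gs ih => intro acc; exact congrArg (· + 1) (ih _)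

theorem repL_nil {μ : ℕ → ℕ → ZMod 2} (hμ : ∀ k, Add2 (μ k)) {gs : List ℕ} (h : ∀ f ∈ gs, Λ 1 f = 0) :
    RepL Λ μ 1 gs [] := by
  induction gs with
  | nil => trivial
  | cons f gs ih =>
    exact ⟨(h f List.mem_cons_self).trans (val_add hμ).zero.symm, ih fun g hg => h g (List.mem_cons_of_mem _ hg)⟩

theorem RepL.zero {μ : ℕ → ℕ → ZMod 2} (hμ : ∀ k, Add2 (μ k)) {n : E} : ∀ {gs acc : List ℕ}, RepL Λ μ n gs acc →
    (∀ r ∈ acc, val μ r = 0) → ∀ f ∈ gs, Λ n f = 0 := by
  intro gs
  induction gs with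
  | nil => simp
  | cons f gs ih =>
    intro acc h hr g hg
    rcases List.mem_cons.1 hg with rfl | hg
    · rw [h.1]
      cases acc with
      | nil => exact (val_add hμ).zero
      | cons r acc => exact hr r List.mem_cons_self
    · exact ih h.2 (fun r hr' => hr r (List.mem_of_mem_tail hr')) g hg

theorem RepL.rows {μ : ℕ → ℕ → ZMod 2} {n : E} : ∀ {gs acc : List ℕ}, RepL Λ μ n gs acc → acc.length ≤ gs.length →
    (∀ f ∈ gs, Λ n f = 0) → ∀ r ∈ acc, val μ r = 0 := by
  intro gs
  induction gs with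
  | nil => intro acc _ hl; rw [List.length_eq_zero_iff.1 (Nat.le_zero.1 hl)]; simp
  | cons f gs ih =>
    intro acc h hl hf r hr
    cases acc with
    | nil => simp at hr
    | cons s acc =>
      rcases List.mem_cons.1 hr with rfl | hr
      · exact h.1.symm.trans (hf f List.mem_cons_self)
      · exact ih h.2 (by simpa using hl) (fun g hg => hf g (List.mem_cons_of_mem _ hg)) r hr

namespace Fr
variable (F : Fr N Λ ok fin fs) {x : ℕ → E} {im : ℕ → ℕ → ℕ} {rels : List (List ℕ × List ℕ)}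
  (hc : ∀ i, Cj N Λ ok (x i) (im i)) (ht : ∀ k, tl x rels k ∈ N)
include F hc ht

theorem upd_spec (suf : List ℕ) {k : ℕ} (hk : k < 128) {t n : E} (h0 : t = tl x rels k ∨ t = (tl x rels k)⁻¹)
    (hn : n ∈ N) : ∀ gs acc, (∀ f ∈ gs, ok f) → RepL Λ (fun k => Λ (tl x rels k)) n gs acc →
      RepL Λ (fun k => Λ (tl x rels k)) ((W x suf)⁻¹ * t * W x suf * n) gs (upd im fin suf k gs acc) := by
  have htN : t ∈ N := by rcases h0 with rfl | rfl; exacts [ht k, N.inv_mem (ht k)]
  intro gs
  induction gs with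
  | nil => intro _ _ _; trivial
  | cons f gs ih =>
    intro acc hf h
    refine ⟨?_, ih _ (fun g hg => hf g (List.mem_cons_of_mem _ hg)) h.2⟩
    have hf' := hf f List.mem_cons_self
    obtain ⟨h1, h2⟩ := F.cjW hc suf f hf'
    show _ = val _ ((fin (actW im suf f) <<< (24 * k)) ^^^ acc.headD 0)
    rw [val_add (fun k => F.add _), val_shift (fun k => F.add _) (F.fin _ h1).1 hk, ← h.1,
      F.mul _ (F.normal.conj_mem' t htN _) n hn f hf', h2 t htN, (F.fin _ h1).2 _ (ht k)]
    rcases h0 with rfl | rfl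
    · rfl
    · rw [F.inv (ht k) h1]

theorem run_spec {w₀ v : List ℕ} (st : List ℕ) : ∀ (w acc : List ℕ) (n : E), n ∈ N → W x w₀ = W x w * n →
    RepL Λ (fun k => Λ (tl x rels k)) n fs acc → acc.length ≤ fs.length → ∀ r, run im fin fs rels v st w acc = some r →
    ∃ n' ∈ N, W x w₀ = W x v * n' ∧ RepL Λ (fun k => Λ (tl x rels k)) n' fs r ∧ r.length ≤ fs.length := by
  induction st with
  | nil =>
    intro w acc n hn e h hl r hr
    change bif' (eqL w v) (some acc) none = some r at hr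
    rw [bif'_eq] at hr
    split_ifs at hr with h1
    obtain rfl := eq_of_eqL _ _ h1
    obtain rfl := Option.some.inj hr
    exact ⟨n, hn, e, h, hl⟩
  | cons c st ih =>
    intro w acc n hn e h hl r hr
    change forceL _ _ = _ at hr
    rw [forceL_eq, bif'_eq] at hr
    split_ifs at hr with h1
    rw [forceL_eq, forceL_eq] at hr
    have h2 := eq_of_eqL _ _ h1
    generalize (w.drop (Nat.div c 256)).drop (side rels c).1.length = suf at h2 hr
    have hk : Nat.mod (Nat.div c 2) 128 < 128 := Nat.mod_lt _ (by norm_num)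
    have h3 : ∃ t, (t = tl x rels (Nat.mod (Nat.div c 2) 128) ∨ t = (tl x rels (Nat.mod (Nat.div c 2) 128))⁻¹) ∧
        W x (side rels c).1 = W x (side rels c).2 * t := by
      rw [side, bif'_eq]
      split_ifs
      · exact ⟨_, .inl rfl, by simp [tl]⟩
      · exact ⟨_, .inr rfl, by simp [tl]⟩
    obtain ⟨t, h3, h4⟩ := h3
    have htN : t ∈ N := by rcases h3 with rfl | rfl; exacts [ht _, N.inv_mem (ht _)]
    refine ih _ _ _ (N.mul_mem (F.normal.conj_mem' t htN (W x suf)) hn) ?_
      (F.upd_spec hc ht suf hk h3 hn fs acc (fun f hf => (F.okf f hf).1) h) (upd_len _ _ _ _ _).le r hr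
    have e2 : W x w = W x (w.take (Nat.div c 256)) * W x (w.drop (Nat.div c 256)) := by
      rw [← W_append, List.take_append_drop]
    rw [e, e2, h2]
    simp only [W_append, h4]; group

theorem run_spec' {w v st r : List ℕ} (hr : run im fin fs rels v st w [] = some r) :
    ∃ n ∈ N, W x w = W x v * n ∧ RepL Λ (fun k => Λ (tl x rels k)) n fs r ∧ r.length ≤ fs.length :=
  F.run_spec hc ht st w [] 1 N.one_mem (mul_one _).symm
    (repL_nil (fun _ => F.add _) fun f hf => F.one (F.okf f hf).1) (Nat.zero_le _) r hr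

theorem eqs_spec (ids : List (List ℕ × List ℕ)) :
    ∀ r ∈ eqs im fin fs rels ids, val (fun k => Λ (tl x rels k)) r = 0 := by
  induction ids with
  | nil => intro r hr; exact absurd hr List.not_mem_nil
  | cons e ids ih =>
    intro r hr
    rcases List.mem_append.1 hr with hr | hr
    · cases h : run im fin fs rels e.1 e.2 e.1 [] with
      | none => rw [h] at hr; exact absurd hr List.not_mem_nil
      | some acc =>
        rw [h] at hr
        obtain ⟨n, -, h1, h2, h3⟩ := F.run_spec' hc ht h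
        obtain rfl : n = 1 := by simpa using h1
        exact h2.rows h3 (fun f hf => F.one (F.okf f hf).1) r hr
    · exact ih r hr

theorem goals {Z : List ℕ} (hZ : ∀ z ∈ Z, val (fun k => Λ (tl x rels k)) z = 0) {ids : List (List ℕ × List ℕ)}
    {gs : List (List ℕ × List ℕ × List ℕ × List ℕ)} (h : chk im fin fs rels Z ids gs = true) :
    ∀ g ∈ gs, W x g.1 = W x g.2.1 := by
  intro g hg
  rw [chk, forceL_eq] at h
  obtain ⟨acc, h1, h2⟩ := (Option.any_eq_true _ _).1 (allL_iff.1 h g hg)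
  obtain ⟨n, hn, h3, h4, -⟩ := F.run_spec' hc ht h1
  rw [h3, F.inj n hn (h4.zero (fun _ => F.add _) fun r hr => ?_), mul_one]
  rw [eq_of_eqL _ _ h2, mapL_eq] at hr
  obtain ⟨c, -, rfl⟩ := List.mem_map.1 hr
  rw [linS_eq]
  refine (val_add fun _ => F.add _).lin (fun q hq => ?_) c
  rcases List.mem_append.1 hq with hq | hq
  exacts [hZ q hq, F.eqs_spec hc ht ids q hq]

end Fr

/-- the equations defining the new lifts. -/
def gauge (fs : List ℕ) (K n : ℕ) (L : List (List ℕ)) : List ℕ :=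
  (List.range n).flatMap fun i => (List.range fs.length).map fun a =>
    Nat.xor (Nat.shiftLeft (nthL 0 fs a) (Nat.mul 24 (Nat.add K i))) (nthL 0 (nthL [] L i) a)

/-- shape of the data. -/
def shape (rels : List (List ℕ × List ℕ)) (nL K : ℕ) (D : PcData) (L : List (List ℕ)) (Z : List ℕ)
    (gs : List (List ℕ × List ℕ × List ℕ × List ℕ)) : Prop :=
  D.pm = 1 ∧ D.ok = true ∧ D.n ≤ nL ∧ K + D.n ≤ 128 ∧
    (∀ k < K, ∀ a ∈ (nthL ([], []) rels k).1 ++ (nthL ([], []) rels k).2, a < nL) ∧
    (∀ i < D.n, nthL ([], []) rels (K + i) = ([nL + i], [i])) ∧ (∀ l ∈ Z :: L, ∀ z ∈ l, z < 2 ^ (24 * K)) ∧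
    ∀ j < D.n, (∃ g ∈ gs, g.1 = [nL + j, nL + j] ∧ g.2.1 = (D.pwi j).map (nL + ·)) ∧
      ∀ i < j, ∃ g ∈ gs, g.1 = [nL + j, nL + i] ∧ g.2.1 = (i :: D.cwi j i).map (nL + ·)

instance decShape (rels : List (List ℕ × List ℕ)) (nL K : ℕ) (D : PcData) (L : List (List ℕ)) (Z : List ℕ)
    (gs : List (List ℕ × List ℕ × List ℕ × List ℕ)) : Decidable (shape rels nL K D L Z gs) := by
  unfold shape; infer_instance

theorem W_congr {x y : ℕ → E} {l : List ℕ} (h : ∀ a ∈ l, x a = y a) : W x l = W y l := by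
  rw [W, W, List.map_congr_left h]

theorem W_map (x : ℕ → E) (f : ℕ → ℕ) (l : List ℕ) : W x (l.map f) = W (fun i => x (f i)) l := by
  rw [W, W, List.map_map]; rfl

/-- **main theorem**: the extension splits. -/
theorem split {G : Type*} [Group G] [Finite E] {π : E →* G} (hπ : Function.Surjective π)
    (F : Fr π.ker Λ ok fin fs) {p : ℕ → G} {im : ℕ → ℕ → ℕ} (hc : ∀ e i, π e = p i → Cj π.ker Λ ok e (im i))
    {rels : List (List ℕ × List ℕ)} (hr : ∀ r ∈ rels, W p r.1 = W p r.2) {nL K : ℕ} {D : PcData}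
    {L : List (List ℕ)} {Z : List ℕ} {ids : List (List ℕ × List ℕ)} {gs : List (List ℕ × List ℕ × List ℕ × List ℕ)}
    (hs : shape rels nL K D L Z gs) (h : chk im fin fs rels (Z ++ gauge fs K D.n L) ids gs = true)
    {m : ℕ} (hG : Nat.card G = 2 ^ D.n * m) (hm : Odd m) (hP : 2 ^ D.n ≤ Nat.card (closure (p '' {i | i < D.n})))
    {x : ℕ → E} (hx : ∀ i, π (x i) = p i) (hZ : ∀ z ∈ Z, val (fun k => Λ (tl x rels k)) z = 0) :
    ∃ H : Subgroup E, H ⊓ π.ker = ⊥ ∧ H ⊔ π.ker = ⊤ := by
  obtain ⟨s1, s2, s3, s4, s5, s6, s7, s8⟩ := hs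
  have ht : ∀ x : ℕ → E, (∀ i, π (x i) = p i) → ∀ k, tl x rels k ∈ π.ker := fun x hx k => by
    rw [MonoidHom.mem_ker, tl, map_mul, map_inv, map_W, map_W, funext hx, inv_mul_eq_one]
    rcases nthL_mem_or ([], []) rels k with e | e
    · exact (hr _ e).symm
    · rw [e]
  have hp : ∀ i < D.n, p (nL + i) = p i := fun i hi => by
    have := ht x hx (K + i)
    rw [MonoidHom.mem_ker, tl, s6 i hi] at this
    simpa [hx, inv_mul_eq_one, eq_comm] using this
  choose y hy hy' using fun i => F.surj fun a => val (fun k => Λ (tl x rels k)) (nthL 0 (nthL [] L i) a)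
  let x' : ℕ → E := fun i => if nL ≤ i ∧ i < nL + D.n then x (i - nL) * y (i - nL) else x i
  have e1 : ∀ i < nL, x' i = x i := fun i hi => if_neg (by omega)
  have e2 : ∀ i < D.n, x' (nL + i) = x i * y i := fun i hi => by
    simp only [x']; rw [if_pos (by omega), Nat.add_sub_cancel_left]
  have hx' : ∀ i, π (x' i) = p i := fun i => by
    by_cases hi : nL ≤ i ∧ i < nL + D.n
    · obtain ⟨j, rfl⟩ := Nat.exists_eq_add_of_le hi.1
      rw [e2 j (by omega), map_mul, hx, hy j, mul_one, hp j (by omega)]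
    · simp only [x']; rw [if_neg hi, hx]
  have e3 : ∀ s < 2 ^ (24 * K), val (fun k => Λ (tl x' rels k)) s = val (fun k => Λ (tl x rels k)) s := fun s hs =>
    val_congr (fun _ => F.add _) (fun _ => F.add _) hs fun k hk => by
      simp only [tl]
      rw [W_congr fun a ha => e1 a (s5 k hk a (List.mem_append_left _ ha)),
        W_congr fun a ha => e1 a (s5 k hk a (List.mem_append_right _ ha))]
  have key := F.goals (fun i => hc _ i (hx' i)) (ht x' hx') (fun z hz => ?_) h
  swap
  · rcases List.mem_append.1 hz with hz | hz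
    · rw [e3 z (s7 Z List.mem_cons_self z hz), hZ z hz]
    simp only [gauge, List.mem_flatMap, List.mem_map, List.mem_range] at hz
    obtain ⟨i, hi, a, ha, rfl⟩ := hz
    have h1 : nthL 0 fs a ∈ fs := by rw [nthL_eq, List.getD_eq_getElem _ _ ha]; exact List.getElem_mem ha
    have h2 : nthL 0 (nthL [] L i) a < 2 ^ (24 * K) := by
      rcases nthL_mem_or 0 (nthL [] L i) a with e | e
      · rcases nthL_mem_or [] L i with e' | e'
        · exact s7 _ (List.mem_cons_of_mem _ e') _ e
        · rw [e'] at e; exact absurd e List.not_mem_nil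
      · rw [e]; positivity
    show val _ ((nthL 0 fs a <<< (24 * (K + i))) ^^^ _) = 0
    rw [val_add (fun _ => F.add _), val_shift (fun _ => F.add _) (F.okf _ h1).2 (by omega), e3 _ h2, ← hy' i a ha,
      show tl x' rels (K + i) = y i by simp [tl, s6 i hi, e2 i hi, e1 i (by omega)], CharTwo.add_self_eq_zero]
  obtain ⟨hf, hA⟩ := D.card_closure_le s2 (x := fun i => x' (nL + i)) (fun j hj => by
    obtain ⟨g, hg, h1, h2⟩ := (s8 j hj).1
    have := key g hg
    rw [h1, h2, W_map] at this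
    simpa [s1, pow_two] using this) (fun j hj i hi => by
    obtain ⟨g, hg, h1, h2⟩ := (s8 j hj).2 i hi
    have := key g hg
    rw [h1, h2, W_map] at this
    simpa using this)
  rw [s1] at hA
  generalize hA' : closure ((fun i => x' (nL + i)) '' {i | i < D.n}) = A at hA hf
  have hm' : A.map π = closure (p '' {i | i < D.n}) := by
    rw [← hA', MonoidHom.map_closure, Set.image_image]
    exact congrArg _ (Set.image_congr fun i hi => by rw [hx', hp i hi])
  have hc1 := card_eq_card_quotient_mul_card_subgroup (π.comp A.subtype).ker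
  rw [Nat.card_congr (QuotientGroup.quotientKerEquivRange (π.comp A.subtype)).toEquiv, MonoidHom.range_comp, range_subtype, hm'] at hc1
  have hk : 0 < Nat.card (π.comp A.subtype).ker := Nat.card_pos
  have hk1 : Nat.card (π.comp A.subtype).ker = 1 := by
    by_contra h1
    have := Nat.mul_le_mul hP (show 2 ≤ Nat.card (π.comp A.subtype).ker by omega)
    have : 0 < 2 ^ D.n := by positivity
    norm_num at hA
    omega
  have hi : π.ker ⊓ A = ⊥ := eq_bot_iff.2 fun a ha => by
    have : (⟨a, ha.2⟩ : A) ∈ (π.comp A.subtype).ker := ha.1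
    rw [eq_bot_of_card_eq _ hk1] at this
    exact congrArg Subtype.val this
  haveI : Finite G := Finite.of_surjective _ hπ
  have hidx : (π.ker ⊔ A).index * 2 ^ D.n = Nat.card G := by
    rw [sup_comm, ← comap_map_eq, index_comap_of_surjective _ hπ, hm', ← index_mul_card (closure (p '' {i | i < D.n}))]
    congr 1
    rw [hk1, mul_one] at hc1
    norm_num at hA
    omega
  have hidx' : (π.ker ⊔ A).index = m := by
    rw [hG, mul_comm] at hidx
    exact Nat.eq_of_mul_eq_mul_left (by positivity) hidx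
  have h2 : IsPGroup 2 π.ker := fun n => ⟨1, Subtype.ext (by simpa [pow_two] using F.sq n.2)⟩
  obtain ⟨k, hk⟩ := (IsPGroup.iff_card (p := 2)).1 h2
  obtain ⟨H, hH⟩ := BG.s12_Gaschutz (K := π.ker) (M := ⊤) (U := π.ker ⊔ A) (A := A)
    ⟨le_top, by rw [normalizer_eq_top]⟩
    ⟨⟨fun a b => Subtype.ext (by
      have h1 := F.sq (mul_mem a.2 b.2)
      have h2 := F.sq a.2
      have h3 := F.sq b.2
      calc (a : E) * b = a * ((a : E) * b * (a * b)) * b := by rw [h1, mul_one]
        _ = ((a : E) * a) * b * a * (b * b) := by group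
        _ = b * a := by rw [h2, h3, one_mul, mul_one])⟩⟩ le_sup_left le_top
    (by rw [relIndex_top_right, hidx', hk]; exact (Nat.coprime_two_left.2 hm).pow_left _) rfl hi
  exact ⟨H, by rw [inf_comm]; exact hH.inf, by rw [sup_comm]; exact hH.sup⟩

end Cfsg.Agent.Small.Tl
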