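import Cfsg.Agent.Known.Strong
import Cfsg.Agent.Known.NetTab

/-! PSU(3,4) as a permutation group `G` of degree 65 and order 62400 with a strong presentation (generated
certificate, tools of helper25): `nets`, `rels`, `up`, `card`, `rep`, `hg`, `lifts`. -/

set_option maxRecDepth 100000
set_option exponentiation.threshold 100000

namespace Cfsg.Agent.Small.U34P

open Cfsg.Agent.Spor Cfsg.Agent.Known Equiv

noncomputable def n0 : Net :=
  Net.cons 1 (nat_lit 0x1441410401100400) <|
  Net.cons 2 (nat_lit 0x20120100000300) <|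
  Net.cons 4 (nat_lit 0x10d070d0a0c0c00) <|
  Net.cons 8 (nat_lit 0x240025001c0001) <|
  Net.cons 16 (nat_lit 0xc0f600000001) <|
  Net.cons 32 (nat_lit 0x1) <|
  Net.cons 64 (nat_lit 0x1) <|
  Net.cons 32 (nat_lit 0xfef60200) <|
  Net.cons 16 (nat_lit 0x3d0900003e00) <|
  Net.cons 8 (nat_lit 0x14003c00fe00c1) <|
  Net.cons 4 (nat_lit 0x60e090303020c00) <|
  Net.cons 2 (nat_lit 0x1203103031210320) <|
  Net.cons 1 (nat_lit 0x4451045051004040) <|
  Net.nil

noncomputable def n1 : Net :=
  Net.cons 1 (nat_lit 0x4410044051004040) <|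
  Net.cons 2 (nat_lit 0x1202221011012100) <|
  Net.cons 4 (nat_lit 0x904030908080600) <|
  Net.cons 8 (nat_lit 0x4009600960001) <|
  Net.cons 16 (nat_lit 0x100000000) <|
  Net.cons 64 (nat_lit 0x1) <|
  Net.cons 32 (nat_lit 0x696e9e01) <|
  Net.cons 16 (nat_lit 0xfffe00009601) <|
  Net.cons 8 (nat_lit 0x84007f00940061) <|
  Net.cons 4 (nat_lit 0x1070d0605060600) <|
  Net.cons 2 (nat_lit 0x3202320300010120) <|
  Net.cons 1 (nat_lit 0x1445414401140400) <|
  Net.nil

noncomputable def n2 : Net :=
  Net.cons 1 (nat_lit 0x1041500514110) <|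
  Net.cons 2 (nat_lit 0x3021321231230320) <|
  Net.cons 4 (nat_lit 0x50c00020a060601) <|
  Net.cons 8 (nat_lit 0x8100a900930000) <|
  Net.cons 16 (nat_lit 0x228300000000) <|
  Net.cons 32 (nat_lit 0x1) <|
  Net.cons 64 (nat_lit 0x1) <|
  Net.cons 32 (nat_lit 0xacff5340) <|
  Net.cons 16 (nat_lit 0x6fd000008561) <|
  Net.cons 8 (nat_lit 0x5800c800150020) <|
  Net.cons 4 (nat_lit 0xd07070f05090c09) <|
  Net.cons 2 (nat_lit 0x3312100320133030) <|
  Net.cons 1 (nat_lit 0x4005144404545114) <|
  Net.nil

noncomputable def n3 : Net :=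
  Net.cons 1 (nat_lit 0x4105145404405100) <|
  Net.cons 2 (nat_lit 0x1030103100211010) <|
  Net.cons 4 (nat_lit 0x3050f03070b0001) <|
  Net.cons 8 (nat_lit 0xe500a4004d0001) <|
  Net.cons 16 (nat_lit 0x71700000001) <|
  Net.cons 64 (nat_lit 0x1) <|
  Net.cons 32 (nat_lit 0xd83edf21) <|
  Net.cons 16 (nat_lit 0xca7100004f20) <|
  Net.cons 8 (nat_lit 0x9900e800760081) <|
  Net.cons 4 (nat_lit 0x1060c0c02040e05) <|
  Net.cons 2 (nat_lit 0x1001122111212130) <|
  Net.cons 1 (nat_lit 0x40500414144) <|
  Net.nil

noncomputable def n4 : Net :=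
  Net.cons 1 (nat_lit 0x1514151451140500) <|
  Net.cons 2 (nat_lit 0x300303221032031) <|
  Net.cons 4 (nat_lit 0x40e0f060b090000) <|
  Net.cons 8 (nat_lit 0x800b000090000) <|
  Net.cons 16 (nat_lit 0x60400000000) <|
  Net.cons 64 (nat_lit 0x1) <|
  Net.cons 32 (nat_lit 0x7749e095) <|
  Net.cons 16 (nat_lit 0x39560000eb40) <|
  Net.cons 8 (nat_lit 0x58004100b60050) <|
  Net.cons 4 (nat_lit 0x700060e00000b08) <|
  Net.cons 2 (nat_lit 0x1200212222203221) <|
  Net.cons 1 (nat_lit 0x4550101544411544) <|
  Net.nil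

noncomputable def n5 : Net :=
  Net.cons 1 (nat_lit 0x5510111550410544) <|
  Net.cons 2 (nat_lit 0x3222230222001021) <|
  Net.cons 4 (nat_lit 0x708040600080100) <|
  Net.cons 8 (nat_lit 0x420079008e0000) <|
  Net.cons 16 (nat_lit 0x701400000000) <|
  Net.cons 32 (nat_lit 0x1) <|
  Net.cons 64 (nat_lit 0x1) <|
  Net.cons 32 (nat_lit 0xcc31b94c) <|
  Net.cons 16 (nat_lit 0x6fe400004348) <|
  Net.cons 8 (nat_lit 0x72000800710018) <|
  Net.cons 4 (nat_lit 0xe0607040d090008) <|
  Net.cons 2 (nat_lit 0x2322101023002031) <|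
  Net.cons 1 (nat_lit 0x1510151410510500) <|
  Net.nil

noncomputable def n6 : Net :=
  Net.cons 1 (nat_lit 0x5541045150501110) <|
  Net.cons 2 (nat_lit 0x3330000103300211) <|
  Net.cons 4 (nat_lit 0x8060b01020e0000) <|
  Net.cons 8 (nat_lit 0x52008100480000) <|
  Net.cons 16 (nat_lit 0xae000000001) <|
  Net.cons 64 (nat_lit 0x1) <|
  Net.cons 32 (nat_lit 0x7d2133c2) <|
  Net.cons 16 (nat_lit 0xaaf80000a499) <|
  Net.cons 8 (nat_lit 0xfc00a1002e00ec) <|
  Net.cons 4 (nat_lit 0x6080f0d0e0a0e0c) <|
  Net.cons 2 (nat_lit 0x1330000103300031) <|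
  Net.cons 1 (nat_lit 0x4551145150541510) <|
  Net.nil

noncomputable def nets : List Net := [n0, n1, n2, n3, n4, n5, n6]

theorem ok : netsOk 65 nets = true := by decide +kernel

def rels : List (List ℕ) := [[0,1],[1,0],[0,0,0,0,0],[2,3],[3,2],[0,2,2,2],[4,5],[5,4],[4,4,4],[0,4,1,4,3,5,2,5],[0,0,5,2,0,5,2,0,4],[6,
  6],[2,6,2,6,2,6],[0,5,6,4,1,5,6,4],[0,6,1,4,3,6,0,6,5,6],[0,4,6,2,4,1,5,6,2,2,6]]

theorem plhP_7 : ∀ p < 7, chkPl nets 65 7 rels p = true :=
  forall_lt_add (a := 0) (b := 7) (fun _ h => absurd h (Nat.not_lt_zero _)) (by decide +kernel)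

theorem hP : ∀ r ∈ rels, ev (PP nets) r = 1 := ev_eq_one_of_planes ok (by decide) plhP_7

noncomputable def K0_0 : ℕ := (joinL 65 [(nat_lit 0x3c0),
  (nat_lit 0x0),
  (nat_lit 0x0),
  (nat_lit 0x0),
  (nat_lit 0x0),
  (nat_lit 0x0),
  (nat_lit 0x0)])

theorem df0 : chkDef nets 65 5 rels (ivl 0 455) (nat_lit 0x1000000010000000100000001) 4 K0_0 = true := by
  decide +kernel

noncomputable def K0_1 : ℕ := (joinL 65 [(nat_lit 0x3e0),
  (nat_lit 0x3e0),
  (nat_lit 0x0),
  (nat_lit 0x0),
  (nat_lit 0x0),
  (nat_lit 0x0),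
  (nat_lit 0x0)])

theorem dd0_0 : chkDed nets 65 5 rels (letS []) (nat_lit 0x20000200400000002) 3 K0_0 K0_1 = true := by
  decide +kernel

theorem en0 : chkEnd nets 65 7 5 rels [0,1] (nat_lit 0x3e0) 5 K0_1 = true := by decide +kernel

theorem up0 {H : Type*} [Group H] {g : ℕ → H} (hg : ∀ r ∈ rels, ev g r = 1) : CardLe (genL g [0,1]) 5 :=
  CardLe.lev ok hg (ded_let ok (by decide) hg hP dd0_0 (defPhase_sound _ ok hg hP df0))
    en0 (cardLe_nil g)

noncomputable def K1_0 : ℕ := (joinL 65 [(nat_lit 0x0),
  (nat_lit 0x0),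
  (nat_lit 0x18),
  (nat_lit 0x0),
  (nat_lit 0x0),
  (nat_lit 0x0),
  (nat_lit 0x0)])

theorem df1 : chkDef nets 65 2 rels (ivl 0 455) (nat_lit 0x400000004) 2 K1_0 = true := by
  decide +kernel

noncomputable def K1_1 : ℕ := (joinL 65 [(nat_lit 0x1c),
  (nat_lit 0x1c),
  (nat_lit 0x1c),
  (nat_lit 0x1c),
  (nat_lit 0x0),
  (nat_lit 0x0),
  (nat_lit 0x0)])

theorem dd1_0 : chkDed nets 65 2 rels (letS [0,1]) (nat_lit 0x100000003000000080000080a000000080000000a00000002) 7 K1_0 K1_1 = true := by
  decide +kernel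

theorem en1 : chkEnd nets 65 7 2 rels [0,1,2,3] (nat_lit 0x1c) 3 K1_1 = true := by decide +kernel

theorem up1 {H : Type*} [Group H] {g : ℕ → H} (hg : ∀ r ∈ rels, ev g r = 1) : CardLe (genL g [0,1,2,3]) 15 :=
  CardLe.lev ok hg (ded_let ok (by decide) hg hP dd1_0 (defPhase_sound _ ok hg hP df1))
    en1 (up0 hg)

noncomputable def K2_0 : ℕ := (joinL 65 [(nat_lit 0x109802b5e38578e0),
  (nat_lit 0x0),
  (nat_lit 0x12001c04804288008),
  (nat_lit 0x0),
  (nat_lit 0x0),
  (nat_lit 0xcf663d0218520714),
  (nat_lit 0x0)])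

theorem df2 : chkDef nets 65 0 rels (ivl 0 455) (nat_lit 0x600000001000000040000000600000001000000040000000600000001000000060000000100000004) 11 K2_0 = true := by
  decide +kernel

noncomputable def K2_1 : ℕ := (joinL 65 [(nat_lit 0x1fffffffffffffffd),
  (nat_lit 0x1fffffffffffffffd),
  (nat_lit 0x1fffffffffffffffd),
  (nat_lit 0x1fffffffffffffffd),
  (nat_lit 0x1fffffffffffffffd),
  (nat_lit 0x1fffffffffffffffd),
  (nat_lit 0x0)])

theorem dd2_0 : chkDed nets 65 0 rels (letS [0,1,2,3]) (joinL 4096 [nat_lit 0x200000008000010100000000e0000100a0000080a0000001400003012000020120000181400000008000000020000000a0000080800000002000020040000100a0000080a00000008000000020000000a000000020000180a0000080a00000008000020120000180a0000080a0000101200004014000018140000001400000808000000080000000e0000080200000002000010100000180a0000100a0000000a00000008000000020000000e0000180a000000080000180a000000080000180a00000008000010140000080e00001812000010100000000e0000381200001812000010100000000e00002812000000140000080e000000020000200400003012000000080000000200004014000000140000000e00000002000010100000080a000020040000000e000000080000000200003812000030120000080e00000008000018120000100a000010100000000e0000000800001814000000140000301200000012000040140000000e0000000800000002000010100000180a0000000a0000100a0000200400000002000000080000000e000030120000180a0000000a0000201200003014000008140000080a000040140000381200001012000000080000000e0000180a000010100000080e0000080200000002000020140000200400000002000000080000000e000008120000180a0000381200000008,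
    nat_lit 0x10000000300000005000000070000080e]) 133 K2_0 K2_1 = true := by
  decide +kernel

theorem en2 : chkEnd nets 65 7 0 rels [0,1,2,3,4,5] (nat_lit 0x1fffffffffffffffd) 64 K2_1 = true := by decide +kernel

theorem up2 {H : Type*} [Group H] {g : ℕ → H} (hg : ∀ r ∈ rels, ev g r = 1) : CardLe (genL g [0,1,2,3,4,5]) 960 :=
  CardLe.lev ok hg (ded_let ok (by decide) hg hP dd2_0 (defPhase_sound _ ok hg hP df2))
    en2 (up1 hg)

noncomputable def K3_0 : ℕ := (joinL 65 [(nat_lit 0x201000),
  (nat_lit 0x0),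
  (nat_lit 0x5754652c3a854894),
  (nat_lit 0x0),
  (nat_lit 0x0),
  (nat_lit 0x1a8a29a52054aa569),
  (nat_lit 0x90081c0100200)])

theorem df3 : chkDef nets 65 1 rels (ivl 0 455) (nat_lit 0xb0000000100000004000000060000000b0000000600000004000000060000000400000001) 10 K3_0 = true := by
  decide +kernel

noncomputable def K3_1 : ℕ := (joinL 65 [(nat_lit 0x1ffffffffffffffff),
  (nat_lit 0x1ffffffffffffffff),
  (nat_lit 0x1ffffffffffffffff),
  (nat_lit 0x1ffffffffffffffff),
  (nat_lit 0x1ffffffffffffffff),
  (nat_lit 0x1ffffffffffffffff),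
  (nat_lit 0x1ffffffffffffffff)])

theorem dd3_0 : chkDed nets 65 1 rels (letS [0,1,2,3,4,5]) (joinL 4096 [nat_lit 0x80e00000008000010100000080a0000101e0000201a0000001a000008160000000e000000080000080a0000001e000000080000000200003012000000080000100a0000080a000000080000000a00000002000038140000001400000002000028120000080a000020040000080e0000000800000002000010100000080a0000000e000000080000201200000012000028140000080e00000808000000020000100a0000381400000008000000020000100a0000000a00002004000010120000000200000008000008020000101a0000180a0000000800002818000008160000201a0000001a0000481c0000381e00000816000028180000080a0000201a0000001a00000012000008140000001c000000020000080a00000816000000080000000a0000000200002004000028120000001400002818000000020000080e00000816000010100000101a0000301200001812000010120000180a0000100a00002014000020040000501e000000080000000e0000000a000008160000000200002818000008020000080a00001014000008120000101e0000301a000008160000080e000000080000000e000020040000181c0000301e000010100000000e000000020000080a0000201a0000001a0000201200000808000000080000000a0000301a0000381200001812000000020000000e0000301a0000301200002012,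
    nat_lit 0x1000000030000000500000007000000090000000b0000080e000000080000081600001010000000020000000e000020180000201a0000001a000000080000100a0000080a000000080000000a00000002000020140000001e000000020000080a000000080000000a0000201800000002000000080000381c0000281e0000081e000008160000000e00000802000010100000000e0000201a0000001a000028120000080e00001010000008140000101e000008160000000e000000020000080a00002018000000080000080a0000000a00000814000028120000101c00000002]) 185 K3_0 K3_1 = true := by
  decide +kernel

theorem en3 : chkEnd nets 65 7 1 rels (List.range 7) (nat_lit 0x1ffffffffffffffff) 65 K3_1 = true := by decide +kernel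

theorem up {H : Type*} [Group H] {g : ℕ → H} (hg : ∀ r ∈ rels, ev g r = 1) : CardLe (genL g (List.range 7)) 62400 :=
  CardLe.lev ok hg (ded_let ok (by decide) hg hP dd3_0 (defPhase_sound _ ok hg hP df3))
    en3 (up2 hg)

theorem lo0 : CardGe (genL (PP nets) [0,1]) 5 :=
  CardGe.stepL (L := 7) (b := 5) (n := 5) (ys := []) (prog := [1,1,1,1]) ok (cardGe_one _)
    (genL_mono _ (by decide)) (by decide +kernel) (by decide +kernel)

theorem lo1 : CardGe (genL (PP nets) [0,1,2,3]) 15 :=
  CardGe.stepL (L := 7) (b := 2) (n := 3) (ys := [0,1]) (prog := [3,3]) ok (lo0)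
    (genL_mono _ (by decide)) (by decide +kernel) (by decide +kernel)

theorem lo2 : CardGe (genL (PP nets) [0,1,2,3,4,5]) 960 :=
  CardGe.stepL (L := 7) (b := 0) (n := 64) (ys := [0,1,2,3]) (prog := [5,5,3,1,5,3,1,5,3,3,5]) ok (lo1)
    (genL_mono _ (by decide)) (by decide +kernel) (by decide +kernel)

theorem lo3 : CardGe (genL (PP nets) (List.range 7)) 62400 :=
  CardGe.stepL (L := 7) (b := 1) (n := 65) (ys := [0,1,2,3,4,5]) (prog := [6,5,3,1,5,6,1,3,5,6]) ok (lo2)
    (genL_mono _ (by decide)) (by decide +kernel) (by decide +kernel)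

/-- the group. -/
abbrev G : Type := PG nets 7

theorem lo : CardGe (PG nets 7) 62400 := lo3

theorem card : Nat.card G = 62400 := PG.card (up hP) lo

noncomputable abbrev g : ℕ → G := PG.g nets 7

noncomputable abbrev φ : G →* Perm ℕ := (PG nets 7).subtype

theorem rep : PermRep g nets 65 7 φ := PG.rep ok

theorem hl : chkLet (List.range 7) rels = true := by decide +kernel

theorem hg : ∀ r ∈ rels, ev g r = 1 := PG.hg ok hl hP

theorem lifts : Lifts g 7 rels := PG.lifts ok hl hP (by decide) card fun _ _ _ h => up h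

end Cfsg.Agent.Small.U34P
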