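import Cfsg.Agent.Known.Bridge
import Cfsg.Agent.Small.U34P
import Cfsg.Agent.Known.MatRep2
import Cfsg.Agent.S0280

/-! Pointwise tables and a base for `U34P.G` in degree 65 (generated certificate): letters `y`,
action `act`, `hy`, `base`, `mdl`; the field `F16`; `equiv` (PSU(3,4) is isomorphic to the model). -/

set_option maxRecDepth 100000
set_option exponentiation.threshold 100000

namespace Cfsg.Agent.Small.U34T

open Cfsg.Agent.Comp Cfsg.Agent.Known Matrix

noncomputable def t0 : ℕ := (nat_lit 0x2f386ce9a3c954244c9d49128409136af5e3e76fc53168c19332e58c1532850223e8d62b5aa970c1e2c68e6ee9b38730038610144840608080)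

theorem h0 : TabOf 65 7 t0 (Spor.ev (Spor.PP U34P.nets) [0])⁻¹ :=
  tabOf_of_chk (L := 7) U34P.ok _ (by decide +kernel)

noncomputable def t1 : ℕ := (nat_lit 0xa54b172d563858c1e357a748954268054b993059ab96cddd383470f1d36edebf7cf0fa1468903360c5a32264089424a428712203040608080)

theorem h1 : TabOf 65 7 t1 (Spor.ev (Spor.PP U34P.nets) [1])⁻¹ :=
  tabOf_of_chk (L := 7) U34P.ok _ (by decide +kernel)

noncomputable def t2 : ℕ := (nat_lit 0x3e14fc82b1a98a067a68f97124dc2036c8c2a22a4c8c46758053cbd3ba44d874038ecb3442d52872a9168f5cdde0866b093916a18830410080)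

theorem h2 : TabOf 65 7 t2 (Spor.ev (Spor.PP U34P.nets) [2])⁻¹ :=
  tabOf_of_chk (L := 7) U34P.ok _ (by decide +kernel)

noncomputable def t3 : ℕ := (nat_lit 0x1c7d01b8d34804311c78b1816b82a5443c88a78b150642e8a924e7cbb06a8d31b5ed94ad68649b964255bd2075da80efd98c28e1202080c080)

theorem h3 : TabOf 65 7 t3 (Spor.ev (Spor.PP U34P.nets) [3])⁻¹ :=
  tabOf_of_chk (L := 7) U34P.ok _ (by decide +kernel)

noncomputable def t4 : ℕ := (nat_lit 0x25cfcf19463c31c3ec9331580139d74f8d0d6f00c166895aa11ca0a8556508932048509088923d70b58085eed99716f149b721c18c40a80b6)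

theorem h4 : TabOf 65 7 t4 (Spor.ev (Spor.PP U34P.nets) [4])⁻¹ :=
  tabOf_of_chk (L := 7) U34P.ok _ (by decide +kernel)

noncomputable def t5 : ℕ := (nat_lit 0x2a7cb8a0a1cbc39356012a71ad9a111efc9333e084a262d531576592036ef583810b5e2918a109e3868e9b748d6041664c100ce50170b000b2)

theorem h5 : TabOf 65 7 t5 (Spor.ev (Spor.PP U34P.nets) [5])⁻¹ :=
  tabOf_of_chk (L := 7) U34P.ok _ (by decide +kernel)

noncomputable def t6 : ℕ := (nat_lit 0x10441c5b434c02a33a3093c4c6013a28ad62d5ca888d42cc49b70fd3812a0db9648ec7b20c70faf14d54c032014367a4d2847c5dc883cc500e)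

theorem h6 : TabOf 65 7 t6 (Spor.ev (Spor.PP U34P.nets) [6])⁻¹ :=
  tabOf_of_chk (L := 7) U34P.ok _ (by decide +kernel)

noncomputable def tabs : List ℕ := [t0, t1, t2, t3, t4, t5, t6]

def wds : List (List ℕ) := [[0],[1],[2],[3],[4],[5],[6]]

noncomputable scoped instance inst : MulAction U34P.G ℕ := actOf U34P.φ

scoped instance fin : Finite U34P.G := Nat.finite_of_card_ne_zero (by rw [U34P.card]; decide)

noncomputable def y (i : ℕ) : U34P.G := (Spor.ev U34P.g (nthL [0] wds i))⁻¹

noncomputable def act (i : ℕ) : ℕ → ℕ := get2 7 (nthL t0 tabs i)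

theorem hy : ActBy y (PtN 65) act :=
  actBy_tabs U34P.rep (.cons h0 (.cons h0 (.cons h1 (.cons h2 (.cons h3 (.cons h4 (.cons h5 (.cons h6 (.nil))))))))) (by decide +kernel)

theorem f0 : FixLe U34P.G (PtN 65) [1] 65 :=
  FixLe.nil.stepW (isCanon_PtN _) hy 1 65 [[6],[4]] 65 ⟨_, rfl, by decide⟩ (by decide +kernel)

theorem f1 : FixLe U34P.G (PtN 65) [0,1] 4160 :=
  f0.stepW (isCanon_PtN _) hy 0 64 [[4],[2]] 65 ⟨_, rfl, by decide⟩ (by decide +kernel)

theorem f2 : FixLe U34P.G (PtN 65) [2,0,1] 12480 :=
  f1.stepW (isCanon_PtN _) hy 2 3 [[2]] 65 ⟨_, rfl, by decide⟩ (by decide +kernel)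

theorem f3 : FixLe U34P.G (PtN 65) [5,2,0,1] 62400 :=
  f2.stepW (isCanon_PtN _) hy 5 5 [[1]] 65 ⟨_, rfl, by decide⟩ (by decide +kernel)

theorem base : IsBase U34P.G (PtN 65) [5,2,0,1] := f3.isBase U34P.card le_rfl

theorem mdl : Mdl U34P.φ 65 7 62400 y act [5,2,0,1] :=
  mdl_of_tabs U34P.rep hy base (by decide) U34P.card (by decide)

/-- the field with sixteen elements: `⟨a, b, c, d⟩` is `a + b ω + c ω² + d ω³`, `ω⁴ = ω + 1`. -/
@[ext] structure F16 where
  a : Bool
  b : Bool
  c : Bool
  d : Bool
  deriving DecidableEq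

namespace F16

instance instFintype : Fintype F16 :=
  Fintype.ofEquiv (Bool × Bool × Bool × Bool)
    ⟨fun x => ⟨x.1, x.2.1, x.2.2.1, x.2.2.2⟩, fun x => (x.a, x.b, x.c, x.d), fun _ => rfl, fun _ => rfl⟩
instance instZero : Zero F16 := ⟨⟨false, false, false, false⟩⟩
instance instOne : One F16 := ⟨⟨true, false, false, false⟩⟩
instance instAdd : Add F16 := ⟨fun x y => ⟨xor x.a y.a, xor x.b y.b, xor x.c y.c, xor x.d y.d⟩⟩
instance instNeg : Neg F16 := ⟨fun x => x⟩
/-- multiplication by `ω`. -/
def sh (x : F16) : F16 := ⟨x.d, xor x.a x.d, x.b, x.c⟩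
/-- scalar multiplication. -/
def sc (t : Bool) (x : F16) : F16 := ⟨t && x.a, t && x.b, t && x.c, t && x.d⟩
instance instMul : Mul F16 := ⟨fun x y => sc x.a y + sh (sc x.b y + sh (sc x.c y + sh (sc x.d y)))⟩
instance instInv : Inv F16 := ⟨fun x => (fun y => y * y) (x * x * x * (x * x * x) * x)⟩

instance instCommRing : CommRing F16 where
  add_assoc := by decide +kernel
  zero_add := by decide +kernel
  add_zero := by decide +kernel
  nsmul := nsmulRec
  zsmul := zsmulRec
  neg_add_cancel := by decide +kernel
  add_comm := by decide +kernel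
  left_distrib := by decide +kernel
  right_distrib := by decide +kernel
  zero_mul := by decide +kernel
  mul_zero := by decide +kernel
  mul_assoc := by decide +kernel
  one_mul := by decide +kernel
  mul_one := by decide +kernel
  mul_comm := by decide +kernel

instance instField : Field F16 where
  exists_pair_ne := ⟨0, 1, by decide⟩
  mul_inv_cancel := by decide +kernel
  inv_zero := by decide +kernel
  nnqsmul := _
  nnqsmul_def := fun _ _ => rfl
  qsmul := _
  qsmul_def := fun _ _ => rfl

theorem card : Fintype.card F16 = 16 := by decide +kernel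

/-- the regular representation. -/
def reg : F16 →+* Matrix (Fin 4) (Fin 4) (ZMod 2) where
  toFun x := !![x.a.toNat, x.d.toNat, x.c.toNat, x.b.toNat;
    x.b.toNat, (xor x.a x.d).toNat, (xor x.c x.d).toNat, (xor x.b x.c).toNat;
    x.c.toNat, x.b.toNat, (xor x.a x.d).toNat, (xor x.c x.d).toNat;
    x.d.toNat, x.c.toNat, x.b.toNat, (xor x.a x.d).toNat]
  map_one' := by decide +kernel
  map_mul' := by decide +kernel
  map_zero' := by decide +kernel
  map_add' := by decide +kernel

theorem reg_inj : Function.Injective reg := by decide +kernel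

/-- decoding. -/
def dec (c : ℕ) : F16 := ⟨c.testBit 0, c.testBit 1, c.testBit 2, c.testBit 3⟩

end F16

def As : List (List ℕ) := [[0x1010,0x111,0x1110,0x1111,0x10100000,0x1110000,0x11100000,0x11110000,0x111100000000,0x110100000000,0x100100000000,0x100000000],
  [0x1100,0x1011,0x101,0x1010,0x11000000,0x10110000,0x1010000,0x10100000,0x100000000000,0x1100000000,0x11000000000,0x110000000000],
  [0x11011001,0x10010001,0x10010,0x100100,0x1100010,0x11000100,0x10111000,0x1010011,0x110000000000,0x101100000000,0x10100000000,0x101000000000],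
  [0x111110,0x1101111,0x11001101,0x10111001,0x1101011,0x11000101,0x10111010,0x1010111,0x101000000000,0x11100000000,0x111000000000,0x111100000000],
  [0x100111101,0x1001101001,0x10011000001,0x100010110010,0x100011001111,0x1110111101,0x11001011001,0x110010100001,0x110110111,0x1001011110,0x10010101111,0x100001111101],
  [0x11110001011,0x111000110101,0x111101101010,0x110111000111,0x110110100010,0x100101110100,0x111101000,0x1011110011,0x111110001,0x1011010010,0x10010010100,0x100000011000],
  [0x100111010000,0x110010000,0x1000010000,0x10000100000,0x110001111011,0x101111100101,0x10111111010,0x101011010111,0x11010101110,0x110001111111,0x101111101101,0x10111111001],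
  [0x10,0x100,0x1000,0x11,0x100000,0x1000000,0x10000000,0x110000,0x1000000000,0x10000000000,0x100000000000,0x1100000000]]

def Ls : List (List (List ℕ)) := [[[10,0,0],[0,10,0],[0,0,15]],[[12,0,0],[0,12,0],[0,0,8]],[[9,2,0],[13,6,0],[0,0,12]],[[14,11,0],[3,6,0],[0,0,
  10]],[[13,15,7],[3,12,11],[1,8,1]],[[11,2,1],[8,10,15],[7,13,1]],[[0,11,14],[13,7,10],[9,12,6]]]

noncomputable def vt : ℕ := (nat_lit 0x111110000000111101101000111101011000111100111000111100011000111100010000111011110000111011001000111010110000111010101000111010100000111000000000110111110000110111001000110110110000110110101000110110100000110100000000110011101000110011011000110010111000110010011000110010010000110000000000101111110000101111001000101110110000101110101000101110100000101101101000101101011000101100111000101100011000101100010000101011101000101011011000101010111000101010011000101010010000101001101000101001011000101000111000101000011000101000010000100111110000100111001000100110110000100110101000100110100000100101110000100101001000100100110000100100101000100100100000100010000000100001111000100001100000100001010000100001000000100000001000000011111000000011100000000011010000000011000000000010001)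

theorem pts : chkPts 4 15 2 12 As 7 14 65 (get2 48 vt) = true := by decide +kernel

theorem acts : ∀ j < 7, chkAct 4 15 2 12 As 7 14 65 (get2 48 vt) j (act j) = true := by decide +kernel

theorem cen : Subgroup.center U34P.G = ⊥ :=
  mdl.center_eq_bot 1 [[5,0,4,0]] [[5,0,5,6],[2,5,6,1,4],[2,6,1,2,6],[]] (by decide +kernel)

theorem mr : Spor.MatRep (matOf F16.dec (Equiv.refl (Fin 3)) Ls) 4 15 2 (3 * 4) As 7 (phiR F16.reg (Equiv.refl (Fin 3))) :=
  matRep_phiR' F16.reg_inj (Equiv.refl (Fin 3)) (by decide +kernel) (by decide +kernel)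

theorem equiv {F : Type*} [Field F] [Fintype F] (hF : Fintype.card F = 16) : Nonempty (PSU 3 F 4 ≃* U34P.G) := by
  obtain ⟨e⟩ := exists_ringEquiv F16 F (F16.card.trans hF.symm)
  have h := S0280.result (q := 4) hF 3 (by decide)
  simp only [Finset.prod_range_succ, Finset.prod_range_zero] at h
  exact mdl.equiv_quot' (mrep_SU e mr (by decide +kernel) (by simp only [det_fin_three]; decide +kernel)
    (by decide +kernel)) pts acts cen (by norm_num [PSU] at h; omega)

end Cfsg.Agent.Small.U34T
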